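import Mathlib
import Cfsg.Agent.Cl.USimple
import Cfsg.Agent.Cl.URoot
import Cfsg.Agent.Cl.UStab
import Cfsg.Agent.StdB.Defs

/-!
# Standard subgroups of unitary type in characteristic two: the semilinear group

The plan of the proof is in `stubs/Cfsg/Agent/U52/PLAN.md`.
-/

set_option autoImplicit false
set_option linter.unusedSectionVars false

namespace Cfsg.Agent.U52

open Cfsg Cfsg.Agent.Cl Subgroup Module

section SG

variable (F V : Type*) [Field F] [AddCommGroup V] [Module F V]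

/-- Semilinear bijections, together with their field automorphism. -/
def GamL : Subgroup (Equiv.Perm V × RingAut F) where
  carrier := {g | (∀ x y : V, g.1 (x + y) = g.1 x + g.1 y) ∧ ∀ (a : F) (x : V), g.1 (a • x) = g.2 a • g.1 x}
  one_mem' := ⟨fun _ _ => rfl, fun _ _ => rfl⟩
  mul_mem' {g h} hg hh := ⟨fun x y => by
    change g.1 (h.1 (x + y)) = g.1 (h.1 x) + g.1 (h.1 y)
    rw [hh.1, hg.1], fun a x => by
    change g.1 (h.1 (a • x)) = g.2 (h.2 a) • g.1 (h.1 x)
    rw [hh.2, hg.2]⟩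
  inv_mem' {g} hg := ⟨fun x y => by
    apply g.1.injective
    change g.1 (g.1.symm (x + y)) = g.1 (g.1.symm x + g.1.symm y)
    rw [hg.1]; simp, fun a x => by
    apply g.1.injective
    change g.1 (g.1.symm (a • x)) = g.1 (g.2.symm a • g.1.symm x)
    rw [hg.2]; simp⟩

/-- The semilinear group `ΓL(V)`. -/
abbrev SG : Type _ := ↥(GamL F V)

variable {F V}

instance : DistribMulAction (SG F V) V where
  smul g x := g.1.1 x
  one_smul _ := rfl
  mul_smul _ _ _ := rfl
  smul_zero g := by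
    have := g.2.2 0 0
    rwa [zero_smul, map_zero g.1.2, zero_smul] at this
  smul_add g := g.2.1

/-- The field automorphism of a semilinear map. -/
def fld : SG F V →* RingAut F := (MonoidHom.snd _ _).comp (GamL F V).subtype

theorem smul_sm (g : SG F V) (a : F) (x : V) : g • a • x = fld g a • g • x := g.2.2 a x

theorem SG.ext2 {g h : SG F V} (h1 : ∀ x : V, g • x = h • x) (h2 : fld g = fld h) : g = h :=
  Subtype.ext (Prod.ext (Equiv.ext h1) h2)

theorem SG.ext1 [Nontrivial V] {g h : SG F V} (h1 : ∀ x : V, g • x = h • x) : g = h := by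
  refine SG.ext2 h1 (RingEquiv.ext fun a => ?_)
  obtain ⟨v, hv⟩ := exists_ne (0 : V)
  have h2 : g • v ≠ 0 := (smul_ne_zero_iff_ne g).2 hv
  have := h1 (a • v)
  rw [smul_sm, smul_sm, ← h1] at this
  exact smul_left_injective F h2 this

instance [Finite F] [Finite V] : Finite (SG F V) := by
  have : Finite (RingAut F) := Finite.of_injective _ (DFunLike.coe_injective (F := F ≃+* F))
  infer_instance

/-- Linear bijections as semilinear maps. -/
def lin : (V ≃ₗ[F] V) →* SG F V where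
  toFun g := ⟨(g.toEquiv, 1), g.map_add, fun a x => g.map_smul a x⟩
  map_one' := rfl
  map_mul' _ _ := rfl

@[simp] theorem lin_smul (g : V ≃ₗ[F] V) (x : V) : lin g • x = g x := rfl

@[simp] theorem fld_lin (g : V ≃ₗ[F] V) : fld (lin g) = 1 := rfl

theorem lin_injective : Function.Injective (lin : (V ≃ₗ[F] V) → SG F V) := fun _ _ h =>
  LinearEquiv.ext fun x => congrArg (fun g : SG F V => g • x) h

/-- The linear map of a semilinear map with trivial field automorphism. -/
def toLin (g : SG F V) (h : fld g = 1) : V ≃ₗ[F] V :=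
  { g.1.1 with
    map_add' := g.2.1
    map_smul' := fun a x => (smul_sm g a x).trans (by rw [h]; rfl) }

@[simp] theorem toLin_apply (g : SG F V) (h : fld g = 1) (x : V) : toLin g h x = g • x := rfl

theorem lin_toLin (g : SG F V) (h : fld g = 1) : lin (toLin g h) = g := SG.ext2 (fun _ => rfl) h.symm

theorem exists_lin {g : SG F V} (h : fld g = 1) : ∃ k, lin k = g := ⟨_, lin_toLin g h⟩

theorem smul_sm_of {g : SG F V} (h : fld g = 1) (a : F) (x : V) : g • a • x = a • g • x := by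
  rw [smul_sm, h]; rfl

/-- A semilinear map from its components. -/
def SG.mk' (f : V ≃+ V) (φ : RingAut F) (h : ∀ (a : F) (x : V), f (a • x) = φ a • f x) : SG F V :=
  ⟨(f.toEquiv, φ), f.map_add, h⟩

@[simp] theorem SG.mk'_smul (f : V ≃+ V) (φ : RingAut F) (h) (x : V) : SG.mk' f φ h • x = f x := rfl

@[simp] theorem SG.fld_mk' (f : V ≃+ V) (φ : RingAut F) (h) : fld (SG.mk' f φ h) = φ := rfl

variable (F V) in
/-- The special linear group. -/
noncomputable def SL : Subgroup (SG F V) := (slAut F V).map lin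

variable (F V) in
/-- The scalars. -/
def Sc : Subgroup (SG F V) where
  carrier := {g | fld g = 1 ∧ ∃ a : F, a ≠ 0 ∧ ∀ x : V, g • x = a • x}
  one_mem' := ⟨rfl, 1, one_ne_zero, fun x => by simp⟩
  mul_mem' := by
    rintro g h ⟨g1, a, ha, hg⟩ ⟨h1, b, hb, hh⟩
    exact ⟨by rw [map_mul, g1, h1, mul_one], a * b, mul_ne_zero ha hb, fun x => by
      rw [mul_smul, hh, hg, smul_smul]⟩
  inv_mem' := by
    rintro g ⟨g1, a, ha, hg⟩
    refine ⟨by rw [map_inv, g1, inv_one], a⁻¹, inv_ne_zero ha, fun x => ?_⟩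
    rw [inv_smul_eq_iff, hg, smul_smul, mul_inv_cancel₀ ha, one_smul]

theorem mem_Sc {g : SG F V} : g ∈ Sc F V ↔ fld g = 1 ∧ ∃ a : F, a ≠ 0 ∧ ∀ x : V, g • x = a • x := Iff.rfl

open Classical in
variable (V) in
/-- The scalar map. -/
noncomputable def sc (a : F) : SG F V := if h : a = 0 then 1 else lin (LinearEquiv.smulOfNeZero F V a h)

theorem sc_smul {a : F} (h : a ≠ 0) (x : V) : sc V a • x = a • x := by rw [sc, dif_neg h]; rfl

theorem fld_sc (a : F) : fld (sc V a) = 1 := by unfold sc; split_ifs <;> rfl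

theorem sc_mem (a : F) : sc V a ∈ Sc F V := by
  by_cases h : a = 0
  · rw [sc, dif_pos h]; exact one_mem _
  · exact ⟨fld_sc a, a, h, sc_smul h⟩

variable (F) in
/-- The pointwise stabilizer. -/
def Fix (X : Set V) : Subgroup (SG F V) where
  carrier := {g | ∀ x ∈ X, g • x = x}
  one_mem' _ _ := rfl
  mul_mem' {g h} hg hh x hx := by rw [mul_smul, hh x hx, hg x hx]
  inv_mem' {g} hg x hx := by rw [inv_smul_eq_iff, hg x hx]

theorem mem_Fix {X : Set V} {g : SG F V} : g ∈ Fix F X ↔ ∀ x ∈ X, g • x = x := Iff.rfl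

theorem mem_Fix1 {v : V} {g : SG F V} : g ∈ Fix F {v} ↔ g • v = v := by simp [mem_Fix]

/-- The stabilizer of a subspace. -/
def St (W : Submodule F V) : Subgroup (SG F V) where
  carrier := {g | ∀ x, x ∈ W ↔ g • x ∈ W}
  one_mem' _ := Iff.rfl
  mul_mem' {g h} hg hh x := (hh x).trans (by rw [mul_smul]; exact hg _)
  inv_mem' {g} hg x := by rw [hg (g⁻¹ • x), smul_inv_smul]

theorem mem_St {W : Submodule F V} {g : SG F V} : g ∈ St W ↔ ∀ x, x ∈ W ↔ g • x ∈ W := Iff.rfl

theorem St.mem {W : Submodule F V} {g : SG F V} (h : g ∈ St W) {x : V} (hx : x ∈ W) : g • x ∈ W :=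
  (h x).1 hx

theorem mem_St_of [Finite V] {W : Submodule F V} {g : SG F V} (h : ∀ x ∈ W, g • x ∈ W) : g ∈ St W := by
  intro x
  refine ⟨h x, fun hx => ?_⟩
  have hs : Function.Surjective fun y : W => (⟨g • y.1, h _ y.2⟩ : W) :=
    Finite.surjective_of_injective fun y z e => Subtype.ext (MulAction.injective g (congrArg Subtype.val e))
  obtain ⟨y, hy⟩ := hs ⟨_, hx⟩
  rw [← MulAction.injective g (congrArg Subtype.val hy)]
  exact y.2

/-- The maps that act trivially on `X / W` (and normalize `X`). -/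
def Mv (X W : Submodule F V) : Subgroup (SG F V) where
  carrier := {g | g ∈ St X ∧ ∀ x ∈ X, g • x - x ∈ W}
  one_mem' := ⟨one_mem _, fun x _ => by simp⟩
  mul_mem' {g h} hg hh := ⟨mul_mem hg.1 hh.1, fun x hx => by
    have := add_mem (hg.2 _ (St.mem hh.1 hx)) (hh.2 x hx)
    rwa [sub_add_sub_cancel, ← mul_smul] at this⟩
  inv_mem' {g} hg := ⟨inv_mem hg.1, fun x hx => by
    have := neg_mem (hg.2 _ (St.mem (inv_mem hg.1) hx))
    rwa [smul_inv_smul, neg_sub] at this⟩

theorem mem_Mv {X W : Submodule F V} {g : SG F V} :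
    g ∈ Mv X W ↔ g ∈ St X ∧ ∀ x ∈ X, g • x - x ∈ W := Iff.rfl

/-- The image of a subspace. -/
def mapW (g : SG F V) (W : Submodule F V) : Submodule F V where
  carrier := {x | g⁻¹ • x ∈ W}
  zero_mem' := by simp
  add_mem' {x y} hx hy := by simpa [smul_add] using add_mem hx hy
  smul_mem' a x hx := by
    change g⁻¹ • a • x ∈ W
    rw [smul_sm]; exact W.smul_mem _ hx

theorem mem_mapW {g : SG F V} {W : Submodule F V} {x : V} : x ∈ mapW g W ↔ g⁻¹ • x ∈ W := Iff.rfl

theorem smul_mem_mapW {g : SG F V} {W : Submodule F V} {x : V} : g • x ∈ mapW g W ↔ x ∈ W := by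
  rw [mem_mapW, inv_smul_smul]

end SG

section Form

variable {F : Type*} [Field F] {σ : F →+* F} {V : Type*} [AddCommGroup V] [Module F V]
  (B : V →ₗ[F] V →ₛₗ[σ] F)

/-- The semilinear isometries. -/
def Gam : Subgroup (SG F V) where
  carrier := {g | ∀ x y, B (g • x) (g • y) = fld g (B x y)}
  one_mem' _ _ := rfl
  mul_mem' {g h} hg hh x y := by rw [mul_smul, mul_smul, hg, hh, map_mul]; rfl
  inv_mem' {g} hg x y := by
    apply (fld g).injective
    rw [← hg, smul_inv_smul, smul_inv_smul, map_inv]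
    exact ((fld g).apply_symm_apply _).symm

/-- The special unitary group. -/
noncomputable def SU : Subgroup (SG F V) := (USG B).map lin

/-- The transvection `x ↦ x + a B(x, v) v`. -/
noncomputable def tv (v : V) (a : F) : SG F V := lin (uRefl B v a)

/-- The Eichler transformation `x ↦ x + B(x, u) e + B(x, e) u + s B(x, e) e`. -/
noncomputable def ei (e u : V) (s : F) : SG F V := lin (uEich B e u s)

/-- The map `x ↦ x + B(x, w) v + B(x, v) w`. -/
noncomputable def xx (v w : V) : SG F V := ei B v w 0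

/-- The map `e ↦ a e`, `f ↦ (σ a)⁻¹ f`. -/
noncomputable def hy (e f : V) (a : F) : SG F V := lin (uHyp B e f a)

/-- The group of all `g ∈ SU` with `[V, g] ≤ W`. -/
noncomputable def AW (W : Submodule F V) : Subgroup (SG F V) := SU B ⊓ Mv ⊤ W

/-- The group of all `g ∈ SU` that are trivial on `W` and `W^⊥ / W`. -/
noncomputable def RW (W : Submodule F V) : Subgroup (SG F V) := SU B ⊓ Fix F W ⊓ Mv (uPerp B W) W

/-- The pointwise stabilizer of `W` in `SU`. -/
noncomputable def FW (W : Submodule F V) : Subgroup (SG F V) := SU B ⊓ Fix F W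

/-- The stabilizer of `W` in `SU`. -/
noncomputable def PW (W : Submodule F V) : Subgroup (SG F V) := SU B ⊓ St W

/-- The transvection group with center `e`. -/
noncomputable def Zv (e : V) : Subgroup (SG F V) := AW B (F ∙ e)

/-- The unipotent radical of the stabilizer of `e`. -/
noncomputable def Qv (e : V) : Subgroup (SG F V) := RW B (F ∙ e)

/-- The stabilizer of the vector `e` in `SU`. -/
noncomputable def M1 (e : V) : Subgroup (SG F V) := SU B ⊓ Fix F {e}

/-- The group of the maps `xx e (c w)` with `σ c = c`. -/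
noncomputable def Yv (e w : V) : Subgroup (SG F V) := closure {g | ∃ c : F, σ c = c ∧ g = xx B e (c • w)}

/-- Nonzero isotropic vectors. -/
structure Iso (v : V) : Prop where
  ne : v ≠ 0
  iso : B v v = 0

/-- Totally isotropic subspaces. -/
def TI (W : Submodule F V) : Prop := ∀ x ∈ W, ∀ y ∈ W, B x y = 0

/-- Maximal totally isotropic subspaces. -/
structure MaxTI (W : Submodule F V) : Prop where
  ti : TI B W
  dim : finrank F W = finrank F V / 2

/-- Two orthogonal hyperbolic pairs. -/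
structure Frame (e1 f1 e2 f2 : V) : Prop where
  p1 : UHypPair B e1 f1
  p2 : UHypPair B e2 f2
  ee : B e1 e2 = 0
  ef : B e1 f2 = 0
  fe : B f1 e2 = 0
  ff : B f1 f2 = 0

/-- `a` has full rank with respect to `W`: it fixes only the vectors of `W^⊥`. -/
def Full (W : Submodule F V) (a : SG F V) : Prop := ∀ x, a • x = x → x ∈ uPerp B W

/-- `g'` is the inverse adjoint of `g`. -/
structure Dual (g g' : SG F V) : Prop where
  fld_eq : fld g' = fld g
  map : ∀ x y, B (g' • x) (g • y) = fld g (B x y)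

/-- The standing hypotheses on the unitary space. -/
structure Sp (q : ℕ) : Prop where
  herm : IsHerm B
  uf : UField σ q
  dim : finrank F V = 5 ∧ q = 2

end Form

section Ev

variable {Γ G : Type*} [Group Γ] [Group G] {D : Subgroup Γ}

open Classical in
/-- A homomorphism on a subgroup, extended by `1`. -/
noncomputable def ev (f : D →* G) (x : Γ) : G := if h : x ∈ D then f ⟨x, h⟩ else 1

/-- The image of a subgroup. -/
def im (f : D →* G) (H : Subgroup Γ) : Subgroup G := (H.subgroupOf D).map f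

/-- `c` acts on the image of `f` as `γ` on the domain. -/
def Act (f : D →* G) (c : G) (γ : Γ) : Prop := ∀ x ∈ D, c * ev f x * c⁻¹ = ev f (γ * x * γ⁻¹)

/-- The conjugate homomorphism. -/
def cjh (g : G) (f : D →* G) : D →* G := (MulAut.conj g).toMonoidHom.comp f

/-- The set of the commutators `a g a⁻¹ g⁻¹`, `a ∈ A`. -/
def Cm (A : Subgroup G) (g : G) : Set G := {x | ∃ a ∈ A, x = a * g * a⁻¹ * g⁻¹}

variable {f : D →* G}

theorem ev_of_mem {x : Γ} (h : x ∈ D) : ev f x = f ⟨x, h⟩ := dif_pos h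

theorem ev_coe (x : D) : ev f x = f x := dif_pos x.2

theorem ev_one : ev f 1 = 1 := by rw [ev_of_mem (one_mem D)]; exact map_one f

theorem ev_mul {x y : Γ} (hx : x ∈ D) (hy : y ∈ D) : ev f (x * y) = ev f x * ev f y := by
  rw [ev_of_mem hx, ev_of_mem hy, ev_of_mem (mul_mem hx hy), ← map_mul]; rfl

theorem ev_inv {x : Γ} (hx : x ∈ D) : ev f x⁻¹ = (ev f x)⁻¹ := by
  rw [ev_of_mem hx, ev_of_mem (inv_mem hx), ← map_inv]; rfl

theorem ev_pow {x : Γ} (hx : x ∈ D) (n : ℕ) : ev f (x ^ n) = ev f x ^ n := by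
  rw [ev_of_mem hx, ev_of_mem (pow_mem hx n), ← map_pow]; rfl

theorem ev_conj {x y : Γ} (hx : x ∈ D) (hy : y ∈ D) : ev f (x * y * x⁻¹) = ev f x * ev f y * (ev f x)⁻¹ := by
  rw [ev_mul (mul_mem hx hy) (inv_mem hx), ev_mul hx hy, ev_inv hx]

theorem ev_comm {x y : Γ} (hx : x ∈ D) (hy : y ∈ D) (h : x * y = y * x) :
    ev f x * ev f y = ev f y * ev f x := by
  rw [← ev_mul hx hy, ← ev_mul hy hx, h]

theorem ev_mem_range (x : Γ) : ev f x ∈ f.range := by
  unfold ev; split_ifs
  · exact ⟨_, rfl⟩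
  · exact one_mem _

theorem mem_range_iff {g : G} : g ∈ f.range ↔ ∃ x ∈ D, ev f x = g :=
  ⟨fun ⟨x, hx⟩ => ⟨x, x.2, (ev_coe x).trans hx⟩, fun ⟨x, _, hx⟩ => hx ▸ ev_mem_range x⟩

theorem mem_im {H : Subgroup Γ} {g : G} : g ∈ im f H ↔ ∃ x ∈ H, x ∈ D ∧ ev f x = g :=
  ⟨fun ⟨x, hx, e⟩ => ⟨x, hx, x.2, (ev_coe x).trans e⟩,
    fun ⟨x, hx, h, e⟩ => ⟨⟨x, h⟩, hx, (ev_of_mem h).symm.trans e⟩⟩

theorem mem_im' {H : Subgroup Γ} (hH : H ≤ D) {g : G} : g ∈ im f H ↔ ∃ x ∈ H, ev f x = g :=
  mem_im.trans ⟨fun ⟨x, a, _, b⟩ => ⟨x, a, b⟩, fun ⟨x, a, b⟩ => ⟨x, a, hH a, b⟩⟩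

theorem ev_mem_im {H : Subgroup Γ} {x : Γ} (hx : x ∈ H) : ev f x ∈ im f H := by
  by_cases h : x ∈ D
  · exact mem_im.2 ⟨x, hx, h, rfl⟩
  · rw [ev, dif_neg h]; exact one_mem _

theorem im_mono {H H' : Subgroup Γ} (h : H ≤ H') : im f H ≤ im f H' := map_mono (comap_mono h)

theorem im_le_range (H : Subgroup Γ) : im f H ≤ f.range := map_le_range _ _

theorem im_self : im f D = f.range := by rw [im, subgroupOf_self, MonoidHom.range_eq_map]

theorem ev_cjh (g : G) (x : Γ) : ev (cjh g f) x = g * ev f x * g⁻¹ := by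
  unfold ev; split_ifs
  · rfl
  · simp

theorem ev_comp {G' : Type*} [Group G'] (π : G →* G') (x : Γ) : ev (π.comp f) x = π (ev f x) := by
  unfold ev; split_ifs
  · rfl
  · simp

theorem im_comp {G' : Type*} [Group G'] (π : G →* G') (H : Subgroup Γ) : im (π.comp f) H = (im f H).map π := by
  rw [im, im, map_map]

theorem im_cjh (g : G) (H : Subgroup Γ) : im (cjh g f) H = (im f H).map (MulAut.conj g).toMonoidHom :=
  im_comp _ H

theorem range_cjh (g : G) : (cjh g f).range = f.range.map (MulAut.conj g).toMonoidHom :=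
  MonoidHom.range_comp _ _

theorem act_one : Act f 1 1 := fun x _ => by simp

theorem act_ev {x : Γ} (hx : x ∈ D) : Act f (ev f x) x := fun _ hy => (ev_conj hx hy).symm

theorem Act.mul {c c' : G} {γ γ' : Γ} (h : Act f c γ) (h' : Act f c' γ') (hn : ∀ x ∈ D, γ' * x * γ'⁻¹ ∈ D) :
    Act f (c * c') (γ * γ') := fun x hx => by
  rw [show γ * γ' * x * (γ * γ')⁻¹ = γ * (γ' * x * γ'⁻¹) * γ⁻¹ by group, ← h _ (hn x hx), ← h' x hx]
  group

theorem Act.inv {c : G} {γ : Γ} (h : Act f c γ) (hn : ∀ x ∈ D, γ⁻¹ * x * γ ∈ D) : Act f c⁻¹ γ⁻¹ := fun x hx => by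
  have := h _ (hn x hx)
  rw [show γ * (γ⁻¹ * x * γ) * γ⁻¹ = x by group] at this
  rw [← this, inv_inv, inv_inv]; group

theorem act_one_iff {c : G} : Act f c 1 ↔ c ∈ centralizer (f.range : Set G) := by
  rw [mem_centralizer_iff]
  refine ⟨fun h g hg => ?_, fun h x _ => ?_⟩
  · obtain ⟨x, hx, rfl⟩ := mem_range_iff.1 hg
    have := h x hx
    rw [one_mul, inv_one, mul_one, mul_inv_eq_iff_eq_mul] at this
    exact this.symm
  · rw [one_mul, inv_one, mul_one, ← h _ (ev_mem_range x), mul_inv_cancel_right]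

theorem Act.cjh {c : G} {γ : Γ} (h : Act f c γ) (g : G) : Act (cjh g f) (g * c * g⁻¹) γ := fun x hx => by
  rw [ev_cjh, ev_cjh, ← h x hx]; group

theorem Act.comp {G' : Type*} [Group G'] (π : G →* G') {c : G} {γ : Γ} (h : Act f c γ) :
    Act (π.comp f) (π c) γ := fun x hx => by
  rw [ev_comp, ev_comp, ← h x hx, map_mul, map_mul, map_inv]

end Ev

end Cfsg.Agent.U52
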