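import Mathlib
import Cfsg.Agent.U52.Cfg2
import Cfsg.Agent.U52.AWa

set_option autoImplicit false
set_option linter.unusedSectionVars false

namespace Cfsg.Agent.U52

open Cfsg Cfsg.Agent.Cl Cfsg.Agent.Loc.Mss Subgroup Module
open Cfsg.Agent.StdB (C1 mem_C1 El)
open scoped commutatorElement

variable {F : Type*} [Field F] [Finite F] [CharP F 2] {σ : F →+* F} {V : Type*} [AddCommGroup V] [Module F V]
  [Finite V] {B : V →ₗ[F] V →ₛₗ[σ] F} {q : ℕ} {G : Type*} [Group G] [Finite G]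

namespace Sp

variable (h : Sp B q)
include h

theorem AWb_sq_inj {x y : F} (e : x * x = y * y) : x = y := by
  have : (x + y) ^ 2 = 0 := by rw [CharTwo.add_sq, sq, sq, e, CharTwo.add_self_eq_zero]
  exact CharTwo.add_eq_zero.1 (pow_eq_zero_iff two_ne_zero |>.1 this)

theorem exists_sqrt (a : F) : ∃ r : F, r * r = a ∧ (σ a = a → σ r = r) ∧ (a * σ a = 1 → r * σ r = 1) := by
  obtain ⟨r, rfl⟩ := isSquare_of_charTwo' a
  refine ⟨r, rfl, fun e => h.AWb_sq_inj (by rw [← map_mul, e]), fun e => h.AWb_sq_inj ?_⟩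
  rw [map_mul] at e
  linear_combination e

theorem AWb_fix {k : V ≃ₗ[F] V} (hk : k ∈ UG B) {e f : V} (p : UHypPair B e f) :
    ∃ ζ : F, ζ * σ ζ = 1 ∧ hy B e f ζ * lin k ∈ SU B ∧
      ∀ x, (hy B e f ζ * lin k) • x = k x + ((ζ - 1) * B (k x) f) • e + ((ζ - 1) * B (k x) e) • f := by
  have hd : ((LinearEquiv.det k : Fˣ) : F) * σ (LinearEquiv.det k : Fˣ) = 1 := h.herm.det_mem_uNormOne hk
  obtain ⟨ζ, h1, -, h2⟩ := h.exists_sqrt (σ (LinearEquiv.det k : Fˣ))
  have h3 := h2 (by rw [h.ss, mul_comm, hd])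
  have z0 : ζ ≠ 0 := left_ne_zero_of_mul_eq_one h3
  have zi : (σ ζ)⁻¹ = ζ := (eq_inv_of_mul_eq_one_left h3).symm
  refine ⟨ζ, h3, ?_, fun x => by rw [mul_smul, lin_smul, hy_smul p z0, zi]⟩
  rw [hy, ← map_mul]
  refine lin_mem_SU.2 (mem_USG'.2 ⟨mul_mem (h.herm.uHyp_mem p z0) hk, ?_⟩)
  rw [LinearEquiv.coe_toLinearMap_mul, map_mul, p.det_uHyp z0, zi, h1, ← LinearEquiv.coe_det, mul_comm, hd]

theorem AWb_partner {W : Submodule F V} {u : V} (hu : u ∉ W) (h1 : B u u = 0) (h2 : u ∈ uPerp B W) :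
    ∃ f ∈ uPerp B W, UHypPair B u f := by
  obtain ⟨w, hw, e⟩ := h.herm.exists_perp_eq_one hu
  obtain ⟨f, hf, a, b⟩ := h.herm.exists_mem_partner h2 hw h1 (e ▸ one_ne_zero)
  exact ⟨f, hf, h.herm.uHypPair h1 a b⟩

theorem AWb_pair {W : Submodule F V} (hW : Disjoint W (uPerp B W)) (hd : finrank F W + 2 ≤ finrank F V) :
    ∃ e ∈ uPerp B W, ∃ f ∈ uPerp B W, UHypPair B e f := by
  obtain ⟨e, f, p⟩ := (h.herm.restrict_uPerp hW).exists_uHypPair' (by rw [h.herm.finrank_uPerp]; omega)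
  exact ⟨e, e.2, f, f.2, p.left, p.right, p.pair, p.pair'⟩

theorem AWb_sup {W : Submodule F V} (hW : Disjoint W (uPerp B W)) {e f : V} (he : e ∈ uPerp B W) (hf : f ∈ uPerp B W)
    (p : UHypPair B e f) : Disjoint (W ⊔ Submodule.span F {e, f}) (uPerp B (W ⊔ Submodule.span F {e, f})) ∧
      finrank F ↥(W ⊔ Submodule.span F {e, f}) ≤ finrank F W + 2 := by
  refine ⟨h.herm.disjoint_of_forall fun u hu H => ?_, ?_⟩
  · obtain ⟨w, hw, y, hy, rfl⟩ := Submodule.mem_sup.1 hu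
    obtain ⟨s, t, rfl⟩ := Submodule.mem_span_pair.1 hy
    have a := H f (Submodule.mem_sup_right (Submodule.subset_span (by simp)))
    have b := H e (Submodule.mem_sup_right (Submodule.subset_span (by simp)))
    simp [mem_uPerp.1 he w hw, mem_uPerp.1 hf w hw, p.left, p.right, p.pair, p.pair'] at a b
    subst a b
    simp only [zero_smul, add_zero] at H ⊢
    exact Submodule.disjoint_def.1 hW w hw (h.herm.mem_uPerp'.2 fun x hx => H x (Submodule.mem_sup_left hx))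
  · rw [← h.herm.finrank_span_pair p.left p.right p.pair]
    exact Submodule.finrank_add_le_finrank_add_finrank _ _

theorem AWb_xx_PW {W : Submodule F V} (hW : TI B W) {e y : V} (he : e ∈ W) (h1 : B y e = 0) (h2 : B y y = 0) :
    xx B e y ∈ PW B W :=
  mem_PW.2 ⟨h.xx_mem (hW e he e he) h1 h2, mem_St_of fun x hx => by
    rw [h.xx_smul (hW e he e he) h1, hW x hx e he, zero_smul, add_zero]
    exact add_mem hx (W.smul_mem _ he)⟩

theorem AWb_indep {W : Submodule F V} (h2 : 2 ≤ finrank F W) (v : V) : ∃ u ∈ W, u ∉ F ∙ v := by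
  by_contra hn
  push Not at hn
  have := (Submodule.finrank_mono (show W ≤ F ∙ v from hn)).trans (finrank_span_le_card ({v} : Set V))
  simp at this
  omega

theorem AWb_ne {W : Submodule F V} (h2 : 2 ≤ finrank F W) : ∃ u ∈ W, u ≠ 0 := by
  obtain ⟨u, hu, e⟩ := h.AWb_indep h2 0
  exact ⟨u, hu, fun x => e (by rw [x]; exact zero_mem _)⟩

theorem AWb_tr1 {W : Submodule F V} (hW : TI B W) {v u : V} (hv : v ∈ W) (hu : u ∈ W) (v0 : v ≠ 0) (hn : u ∉ F ∙ v) :
    ∃ g ∈ PW B W, g • v = u := by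
  have hs := add_mem hv hu
  obtain ⟨f, hf, p⟩ := h.AWb_partner (W := F ∙ (v + u)) (u := v) (fun x => by
    obtain ⟨c, hc⟩ := Submodule.mem_span_singleton.1 x
    have c0 : c ≠ 0 := by rintro rfl; exact v0 (by simpa using hc.symm)
    refine hn (Submodule.mem_span_singleton.2 ⟨c⁻¹ - 1, ?_⟩)
    rw [sub_smul, one_smul]
    nth_rewrite 1 [← hc]
    rw [inv_smul_smul₀ c0, add_sub_cancel_left]) (hW v hv v hv) (mem_uPerp_span_singleton.2 (hW _ hs v hv))
  have h1 := h.zero_symm (mem_uPerp_span_singleton.1 hf)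
  refine ⟨_, h.AWb_xx_PW hW hs h1 p.right, ?_⟩
  rw [h.xx_smul (hW _ hs _ hs) h1, p.pair, hW v hv _ hs, zero_smul, add_zero, one_smul, ← add_assoc,
    vadd_self (F := F), zero_add]

theorem AWb_tr {W : Submodule F V} (hW : TI B W) (h2 : 2 ≤ finrank F W) {v w : V} (hv : v ∈ W) (hw : w ∈ W)
    (v0 : v ≠ 0) (w0 : w ≠ 0) : ∃ g ∈ PW B W, g • v = w := by
  by_cases hn : w ∈ F ∙ v
  · obtain ⟨u, hu, e⟩ := h.AWb_indep h2 v
    obtain ⟨g, hg, e1⟩ := h.AWb_tr1 hW hv hu v0 e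
    obtain ⟨g', hg', e2⟩ := h.AWb_tr1 hW hw hu w0 fun x => e ((Submodule.span_singleton_le_iff_mem _ _).2 hn x)
    exact ⟨g'⁻¹ * g, mul_mem (inv_mem hg') hg, by rw [mul_smul, e1, inv_smul_eq_iff, e2]⟩
  · exact h.AWb_tr1 hW hv hw v0 hn

theorem exists_frame' {e w w' : V} (he : Iso B e) (p : UHypPair B w w') (h1 : B e w = 0) (h2 : B e w' = 0) :
    ∃ f, Frame B e f w w' := by
  have m : e ∈ uPerp B (Submodule.span F {w, w'}) := mem_uPerp_span_pair.2 ⟨h.zero_symm h1, h.zero_symm h2⟩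
  obtain ⟨f, hf, p'⟩ := h.AWb_partner (fun x => he.ne (Submodule.disjoint_def.1
    (h.herm.disjoint_span_pair p.left p.right p.pair) e x m)) he.iso m
  obtain ⟨a, b⟩ := mem_uPerp_span_pair.1 hf
  exact ⟨f, p', p, h1, h2, h.zero_symm a, h.zero_symm b⟩

theorem exists_frame {v w : V} (hi : LinearIndependent F ![v, w]) (hv : B v v = 0) (hwv : B w v = 0)
    (hw : B w w = 0) : ∃ f1 f2, Frame B v f1 w f2 := by
  obtain ⟨f2, hf, p⟩ := h.AWb_partner (W := F ∙ v) (u := w) (fun x => by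
    obtain ⟨c, hc⟩ := Submodule.mem_span_singleton.1 x
    exact one_ne_zero (neg_eq_zero.1 (LinearIndependent.pair_iff.1 hi c (-1) (by simp [hc])).2)) hw
    (mem_uPerp_span_singleton.2 (h.zero_symm hwv))
  obtain ⟨f1, p'⟩ := h.exists_frame' ⟨hi.ne_zero 0, hv⟩ p (h.zero_symm hwv) (mem_uPerp_span_singleton.1 hf)
  exact ⟨f1, f2, p'⟩

theorem exists_frame'' {e f : V} (p : UHypPair B e f) : ∃ w w', Frame B e f w w' := by
  obtain ⟨w, hw, w', hw', p'⟩ := h.AWb_pair (h.herm.disjoint_span_pair p.left p.right p.pair)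
    (by rw [h.herm.finrank_span_pair p.left p.right p.pair]; exact h.four_le)
  obtain ⟨a, b⟩ := mem_uPerp_span_pair.1 hw
  obtain ⟨c, d⟩ := mem_uPerp_span_pair.1 hw'
  exact ⟨w, w', p, p', a, c, b, d⟩

theorem frame_li {e1 f1 e2 f2 : V} (p : Frame B e1 f1 e2 f2) : LinearIndependent F ![e1, e2, f2, f1] := by
  refine Fintype.linearIndependent_iff.2 fun g hg i => ?_
  have e := fun y => congrArg (B · y) hg
  have a := e f1
  have b := e f2
  have c := e e2
  have d := e e1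
  simp [Fin.sum_univ_four, p.p1.left, p.p1.right, p.p1.pair, p.p1.pair', p.p2.left, p.p2.right, p.p2.pair, p.p2.pair',
    p.ee, p.ef, p.fe, p.ff, h.zero_symm p.ee, h.zero_symm p.ef, h.zero_symm p.fe, h.zero_symm p.ff] at a b c d
  fin_cases i
  exacts [a, b, c, d]

theorem frame_conj {e1 f1 e2 f2 e1' f1' e2' f2' : V} (p : Frame B e1 f1 e2 f2) (p' : Frame B e1' f1' e2' f2') :
    ∃ g ∈ SU B, ∃ ζ : F, ζ * σ ζ = 1 ∧ g • e1 = ζ • e1' ∧ g • f1 = ζ • f1' ∧ g • e2 = e2' ∧ g • f2 = f2' := by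
  obtain ⟨k, hk, e⟩ := h.herm.witt_family (h.frame_li p) (h.frame_li p') fun i j => by
    fin_cases i <;> fin_cases j <;>
      simp [p.p1.left, p.p1.right, p.p1.pair, p.p1.pair', p.p2.left, p.p2.right, p.p2.pair, p.p2.pair',
        p.ee, p.ef, p.fe, p.ff, h.zero_symm p.ee, h.zero_symm p.ef, h.zero_symm p.fe, h.zero_symm p.ff,
        p'.p1.left, p'.p1.right, p'.p1.pair, p'.p1.pair', p'.p2.left, p'.p2.right, p'.p2.pair, p'.p2.pair',
        p'.ee, p'.ef, p'.fe, p'.ff, h.zero_symm p'.ee, h.zero_symm p'.ef, h.zero_symm p'.fe, h.zero_symm p'.ff]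
  obtain ⟨ζ, h1, h2, h3⟩ := h.AWb_fix hk p'.p1
  have a : k e1 = e1' := e 0
  have b : k e2 = e2' := e 1
  have c : k f2 = f2' := e 2
  have d : k f1 = f1' := e 3
  refine ⟨_, h2, ζ, h1, ?_, ?_, ?_, ?_⟩ <;> rw [h3]
  · simp [a, p'.p1.left, p'.p1.pair, sub_smul]
  · simp [d, p'.p1.right, p'.p1.pair', sub_smul]
  · simp [b, h.zero_symm p'.ee, h.zero_symm p'.fe]
  · simp [c, h.zero_symm p'.ef, h.zero_symm p'.ff]

theorem max_conj {W W' : Submodule F V} (hW : MaxTI B W) (hW' : MaxTI B W') : ∃ g ∈ SU B, mapW g W = W' := by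
  let φ : W ≃ₗ[F] W' := LinearEquiv.ofFinrankEq _ _ (hW.dim.trans hW'.dim.symm)
  obtain ⟨k, hk, e⟩ := h.herm.witt W (W'.subtype ∘ₗ φ.toLinearMap) (W'.subtype_injective.comp φ.injective)
    fun x y => (hW'.ti _ (φ x).2 _ (φ y).2).trans (hW.ti _ x.2 _ y.2).symm
  obtain ⟨u, hu, u0⟩ := h.AWb_ne (W := W') (hW'.dim ▸ h.two_le_k)
  obtain ⟨f, p⟩ := h.exists_pair ⟨u0, hW'.ti u hu u hu⟩
  obtain ⟨ζ, -, h2, h3⟩ := h.AWb_fix hk p
  refine ⟨_, h2, Submodule.eq_of_le_of_finrank_eq (fun x hx => ?_)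
    ((finrank_mapW _ _).trans (hW.dim.trans hW'.dim.symm))⟩
  rw [← smul_inv_smul (hy B u f ζ * lin k) x, h3]
  have m : k ((hy B u f ζ * lin k)⁻¹ • x) ∈ W' := (e ⟨_, hx⟩).symm ▸ (φ ⟨_, hx⟩).2
  rw [hW'.ti _ m u hu, mul_zero, zero_smul, add_zero]
  exact add_mem m (W'.smul_mem _ hu)

theorem full_conj {W : Submodule F V} (hW : TI B W) {a b : SG F V} (ha : a ∈ AW B W) (hb : b ∈ AW B W)
    (fa : Full B W a) (fb : Full B W b) : ∃ g ∈ PW B W, g * a * g⁻¹ = b := by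
  have key : ∀ {a : SG F V}, a ∈ AW B W → Full B W a → ∃ e : Fin (finrank F W) → V, LinearIndependent F e ∧
      Submodule.span F (Set.range e) = W ∧ ∀ x, a • x = x + ∑ i, B x (e i) • e i := fun {a} ha fa => by
    obtain ⟨r, e, h1, h2, h3⟩ := h.diag hW ha
    have hs : Submodule.span F (Set.range e) = W := by
      refine le_antisymm (Submodule.span_le.2 (by rintro _ ⟨i, rfl⟩; exact h2 i)) ?_
      rw [← h.herm.uPerp_uPerp (Submodule.span F (Set.range e)), h.herm.le_uPerp_comm]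
      refine fun x hx => fa x ?_
      rw [h3, Finset.sum_eq_zero fun i _ => by rw [h.zero_symm (mem_uPerp_span.1 hx _ ⟨i, rfl⟩), zero_smul], add_zero]
    have hr : finrank F W = r := by rw [← hs, finrank_span_eq_card h1, Fintype.card_fin]
    subst hr
    exact ⟨e, h1, hs, h3⟩
  have := h.nontrivial
  obtain ⟨e, e1, e2, e3⟩ := key ha fa
  obtain ⟨e', e1', e2', e3'⟩ := key hb fb
  have me : ∀ i, e i ∈ W := fun i => e2 ▸ Submodule.subset_span ⟨i, rfl⟩
  have me' : ∀ i, e' i ∈ W := fun i => e2' ▸ Submodule.subset_span ⟨i, rfl⟩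
  obtain ⟨g, hg, c, hc, hgc⟩ : ∃ g ∈ SU B, ∃ c : Fin (finrank F W) → F, (∀ i, c i * σ (c i) = 1) ∧
      ∀ i, g • e i = c i • e' i := by
    rcases isEmpty_or_nonempty (Fin (finrank F W)) with h0 | ⟨⟨o⟩⟩
    · exact ⟨1, one_mem _, 1, fun i => h0.elim i, fun i => h0.elim i⟩
    obtain ⟨k, hk, ek⟩ := h.herm.witt_family e1 e1' fun i j =>
      (hW _ (me' i) _ (me' j)).trans (hW _ (me i) _ (me j)).symm
    obtain ⟨f, hf, p⟩ := h.AWb_partner (e1'.notMem_span_image (s := {o}ᶜ) (x := o) (by simp))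
      (hW _ (me' o) _ (me' o)) (mem_uPerp_span.2 (by rintro _ ⟨i, -, rfl⟩; exact hW _ (me' i) _ (me' o)))
    obtain ⟨ζ, h1, h2, h3⟩ := h.AWb_fix hk p
    refine ⟨_, h2, fun i => if i = o then ζ else 1, fun i => by by_cases hi : i = o <;> simp [hi, h1], fun i => ?_⟩
    rw [h3, ek, hW _ (me' i) _ (me' o)]
    by_cases hi : i = o
    · simp [hi, p.pair, sub_smul]
    · simp [hi, mem_uPerp_span.1 hf _ ⟨i, hi, rfl⟩]
  refine ⟨g, mem_PW.2 ⟨hg, mem_St_of fun x hx => ?_⟩, SG.ext1 fun x => ?_⟩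
  · rw [← e2] at hx
    induction hx using Submodule.span_induction with
    | mem _ hx => obtain ⟨i, rfl⟩ := hx; rw [hgc]; exact W.smul_mem _ (me' i)
    | zero => simp
    | add _ _ _ _ a b => rw [smul_add]; exact add_mem a b
    | smul c _ _ a => rw [smul_sm]; exact W.smul_mem _ a
  · rw [mul_smul, mul_smul, e3, e3', smul_add, smul_inv_smul, Finset.smul_sum]
    congr 1
    refine Finset.sum_congr rfl fun i _ => ?_
    rw [smul_sm_of (fld_SU hg), ← SU_map hg, smul_inv_smul, hgc, map_smulₛₗ, smul_smul, smul_eq_mul,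
      mul_right_comm, mul_comm (σ _), hc, one_mul]

theorem sing_conj {W : Submodule F V} (hW : TI B W) {a : SG F V} (ha : a ∈ AW B W) (fa : ¬ Full B W a) {f : V}
    (hf : f ∉ uPerp B W) : ∃ g ∈ PW B W, (g * a * g⁻¹) • f = f := by
  obtain ⟨x, hx, hx'⟩ : ∃ x, a • x = x ∧ x ∉ uPerp B W := by
    by_contra hn
    push Not at hn
    exact fa hn
  obtain ⟨e, he, e1, e2⟩ : ∃ e ∈ W, B x e ≠ 0 ∧ B f e ≠ 0 := by
    rw [h.herm.mem_uPerp'] at hf hx'
    push Not at hf hx'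
    obtain ⟨u, hu, u1⟩ := hf
    obtain ⟨v, hv, v1⟩ := hx'
    by_cases a1 : B x u = 0
    · by_cases a2 : B f v = 0
      · exact ⟨u + v, add_mem hu hv, by simpa [a1] using v1, by simpa [a2] using u1⟩
      · exact ⟨v, hv, v1, a2⟩
    · exact ⟨u, hu, a1, u1⟩
  obtain ⟨g, hg, l, l0, z, hz, hgx⟩ : ∃ g ∈ PW B W, ∃ l : F, l ≠ 0 ∧ ∃ z ∈ uPerp B W, g • x = l • f + z := by
    obtain ⟨y, hy⟩ : ∃ y, y = (B x e / B f e) • f + x := ⟨_, rfl⟩
    have y1 : B y e = 0 := by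
      rw [hy, map_add, map_smul, LinearMap.add_apply, LinearMap.smul_apply, smul_eq_mul, div_mul_cancel₀ _ e2,
        CharTwo.add_self_eq_zero]
    have xy : x + y = (B x e / B f e) • f := by rw [hy, add_comm, add_assoc, vadd_self (F := F), add_zero]
    by_cases hp : y ∈ uPerp B W
    · exact ⟨1, one_mem _, _, div_ne_zero e1 e2, y, hp, by rw [← xy, add_assoc, vadd_self (F := F), add_zero, one_smul]⟩
    rw [mem_uPerp] at hp
    push Not at hp
    obtain ⟨u, hu, u1⟩ := hp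
    obtain ⟨c, hc⟩ := h.exists_iso_add hW hu u1
    obtain ⟨e', he'⟩ : ∃ e', e' = (σ (B x e))⁻¹ • e := ⟨_, rfl⟩
    have m : e' ∈ W := he' ▸ W.smul_mem _ he
    have x1 : B x e' = 1 := by rw [he', map_smulₛₗ, map_inv₀, h.ss, smul_eq_mul, inv_mul_cancel₀ e1]
    have y2 : B (y + c • u) e' = 0 := by
      rw [map_add, LinearMap.add_apply, hW _ (W.smul_mem c hu) _ m, he', map_smulₛₗ, y1, smul_zero, add_zero]
    refine ⟨_, h.AWb_xx_PW hW m y2 hc, _, div_ne_zero e1 e2, B x (y + c • u) • e' + c • u,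
      hW.le (add_mem (W.smul_mem _ m) (W.smul_mem _ hu)), ?_⟩
    rw [h.xx_smul (hW _ m _ m) y2, x1, one_smul, ← xy]
    abel
  refine ⟨g, hg, ?_⟩
  have m := h.conj_mem_AW' (SU_le_Gam (PW_le W hg)) (mem_PW.1 hg).2 ha
  have : (g * a * g⁻¹) • g • x = g • x := by rw [mul_smul, inv_smul_smul, mul_smul, hx]
  rw [hgx, smul_add, h.AW_fix m hz, smul_sm_of (fld_SU (AW_le W m))] at this
  exact smul_right_injective V l0 (add_right_cancel this)

theorem AW_le_comm {W : Submodule F V} (hW : TI B W) (h2 : 2 ≤ finrank F W) : AW B W ≤ ⁅AW B W, PW B W⁆ := by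
  refine (h.AW_gen hW).le.trans ((closure_le _).2 ?_)
  rintro _ ⟨v, hv, a, ha, rfl⟩
  by_cases v0 : v = 0
  · rw [v0, tv_zero_left]; exact one_mem _
  have tm : ∀ u ∈ W, tv B u a ∈ AW B W := fun u hu => h.tv_mem_AW hu (hW u hu u hu) ha
  have ti : ∀ u ∈ W, (tv B u a)⁻¹ = tv B u a := fun u hu => inv_eq_of_mul_eq_one_right (h.AW_sq hW (tm u hu))
  have M1 : ∀ u ∈ W, u ≠ 0 → tv B u a * tv B v a ∈ ⁅AW B W, PW B W⁆ := fun u hu u0 => by
    obtain ⟨g, hg, e⟩ := h.AWb_tr hW h2 hv hu v0 u0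
    have := inv_mem (commutator_mem_commutator (tm v hv) hg)
    rwa [commutatorElement_inv, commutatorElement_def, tv_conj (SU_le_Gam (PW_le W hg)) (hW v hv v hv), e,
      fld_SU (PW_le W hg), ti v hv] at this
  have M3 : ∀ x y z, y ∈ AW B W → x * tv B v a ∈ ⁅AW B W, PW B W⁆ → y * tv B v a ∈ ⁅AW B W, PW B W⁆ →
      z * tv B v a ∈ ⁅AW B W, PW B W⁆ → x * y * z * tv B v a ∈ ⁅AW B W, PW B W⁆ := fun x y z hy h1 h2 h3 => by
    have := mul_mem (mul_mem h1 h2) h3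
    rwa [mul_assoc x, ← mul_assoc (tv B v a), h.AW_ab hW (tm v hv) hy, mul_assoc y, h.AW_sq hW (tm v hv), mul_one,
      ← mul_assoc] at this
  obtain ⟨w, hw, hn⟩ := h.AWb_indep h2 v
  have X : ∀ c : F, c ≠ 0 → xx B (a • c • v) w * tv B v a ∈ ⁅AW B W, PW B W⁆ := fun c hc => by
    have m := W.smul_mem c hv
    have e := h.tv_add (hW _ m _ m) (hW _ hw _ m) (hW _ hw _ hw) ha
    rw [← inv_mul_eq_iff_eq_mul, mul_inv_rev, ti _ m, ti _ hw] at e
    rw [← e]
    refine M3 _ _ _ (tm _ m) (M1 w hw fun x => hn (x ▸ zero_mem _)) (M1 _ m (smul_ne_zero hc v0))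
      (M1 _ (add_mem m hw) fun x => hn ?_)
    rw [← (vadd_eq_zero (F := F)).1 x]
    exact Submodule.smul_mem _ _ (Submodule.mem_span_singleton_self v)
  obtain ⟨ω, hω⟩ := h.exists_omega
  have ω0 : ω ≠ 0 := by rintro rfl; simp at hω
  have ω1 : 1 + ω ≠ 0 := fun x => by
    rw [← CharTwo.add_eq_zero.1 x, map_one, CharTwo.add_self_eq_zero] at hω
    exact zero_ne_one hω
  have m : ∀ c : F, a • c • v ∈ W := fun c => W.smul_mem _ (W.smul_mem _ hv)
  have sy : ∀ c : F, xx B (a • c • v) w = xx B w (a • c • v) := fun c =>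
    h.xx_symm (hW _ (m c) _ (m c)) (hW _ hw _ (m c)) (hW _ hw _ hw)
  have e : xx B (a • (1 + ω) • v) w = xx B (a • (1 : F) • v) w * xx B (a • ω • v) w := by
    rw [sy, sy, sy, add_smul, smul_add,
      h.xx_add (hW _ hw _ hw) (hW _ (m 1) _ hw) (hW _ (m ω) _ hw) (hW _ (m ω) _ (m 1))]
  have := M3 _ _ _ (h.xx_mem_AW hW (m ω) hw) (X 1 one_ne_zero) (X ω ω0) (X _ ω1)
  rwa [← e, h.AW_sq hW (h.xx_mem_AW hW (m _) hw), one_mul] at this

theorem AW_cen {W : Submodule F V} (hW : TI B W) (h2 : 2 ≤ finrank F W) {a : SG F V} (ha : a ∈ AW B W)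
    (hc : ∀ g ∈ PW B W, g * a = a * g) : a = 1 := by
  have := h.nontrivial
  have a1 := fld_SU (AW_le W ha)
  have key : ∀ f, B f f = 0 → a • f = f := fun f hf => by
    obtain ⟨e, he, e0, ef⟩ : ∃ e ∈ W, e ≠ 0 ∧ B e f = 0 := by
      obtain ⟨v, hv, v0⟩ := h.AWb_ne h2
      obtain ⟨u, hu, hn⟩ := h.AWb_indep h2 v
      by_cases hp : B v f = 0
      · exact ⟨v, hv, v0, hp⟩
      refine ⟨u - (B u f / B v f) • v, sub_mem hu (W.smul_mem _ hv), fun x => hn ?_, by simp [hp]⟩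
      rw [sub_eq_zero.1 x]
      exact Submodule.smul_mem _ _ (Submodule.mem_span_singleton_self v)
    obtain ⟨x, p⟩ := h.exists_pair ⟨e0, hW e he e he⟩
    have ev : ∀ c : F, σ c • (a • f - f) = (B (a • x - x) f * c) • e := fun c => by
      have m := W.smul_mem c he
      have h1 : B f (c • e) = 0 := by rw [map_smulₛₗ, h.zero_symm ef, smul_zero]
      have := congrArg (· • x) (hc _ (h.AWb_xx_PW hW m h1 hf))
      have h3 : B (a • x) e = 1 := by
        have := hW _ ((mem_AW.1 ha).2 x) e he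
        rwa [map_sub, LinearMap.sub_apply, p.pair', sub_eq_zero] at this
      simp only [mul_smul, h.xx_smul (hW _ m _ m) h1, smul_add, smul_sm_of a1, h.AW_fix ha (hW.le he), map_smulₛₗ,
        h3, p.pair', smul_eq_mul, mul_one] at this
      rw [map_sub, LinearMap.sub_apply, mul_smul]
      generalize a • f = y at *
      generalize a • x = z at *
      linear_combination (norm := module) -this
    obtain ⟨ω, hω⟩ := h.exists_omega
    have e1 := ev 1
    have e2 := ev ω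
    rw [map_one, one_smul, mul_one] at e1
    rw [e1, smul_smul] at e2
    have e3 : B (a • x - x) f = 0 := by
      have := smul_left_injective F e0 e2
      linear_combination (-B (a • x - x) f) * hω + this + CharTwo.add_self_eq_zero (B (a • x - x) f * ω)
    rwa [e3, zero_smul, sub_eq_zero] at e1
  refine SG.ext1 fun x => ?_
  by_cases hp : x ∈ uPerp B W
  · exact h.AW_fix ha hp
  rw [mem_uPerp] at hp
  push Not at hp
  obtain ⟨u, hu, u1⟩ := hp
  obtain ⟨c, hc'⟩ := h.exists_iso_add hW hu u1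
  have := key _ hc'
  rw [smul_add, h.AW_fix ha (hW.le (W.smul_mem c hu))] at this
  exact add_right_cancel this

theorem AW_two {e1 e2 : V} (h1 : B e1 e1 = 0) (h21 : B e2 e1 = 0) (h2 : B e2 e2 = 0) {a : SG F V}
    (ha : a ∈ AW B (Submodule.span F {e1, e2})) :
    ∃ α β l : F, σ α = α ∧ σ β = β ∧ a = tv B e1 α * tv B e2 β * xx B e1 (l • e2) := by
  have m1 : e1 ∈ Submodule.span F {e1, e2} := Submodule.subset_span (by simp)
  have m2 : e2 ∈ Submodule.span F {e1, e2} := Submodule.subset_span (by simp)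
  have hW : TI B (Submodule.span F {e1, e2}) := fun x hx y hy => by
    obtain ⟨s, t, rfl⟩ := Submodule.mem_span_pair.1 hx
    obtain ⟨s', t', rfl⟩ := Submodule.mem_span_pair.1 hy
    simp [h1, h2, h21, h.zero_symm h21]
  have sm : ∀ {x}, x ∈ Submodule.span F {e1, e2} → ∀ c : F, c • x ∈ Submodule.span F {e1, e2} := fun hx c =>
    Submodule.smul_mem _ c hx
  rw [h.AW_gen hW] at ha
  induction ha using closure_induction with
  | mem g hg =>
    obtain ⟨v, hv, a, ha, rfl⟩ := hg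
    obtain ⟨s, t, rfl⟩ := Submodule.mem_span_pair.1 hv
    refine ⟨a * (s * σ s), a * (t * σ t), σ (a * s) * t, by simp [ha, h.ss, mul_comm], by simp [ha, h.ss, mul_comm], ?_⟩
    rw [h.tv_add (hW _ (sm m1 s) _ (sm m1 s)) (hW _ (sm m2 t) _ (sm m1 s)) (hW _ (sm m2 t) _ (sm m2 t)) ha, tv_sm, tv_sm,
      smul_smul, h.xx_sm h1 (hW _ (sm m2 t) _ m1), smul_smul]
  | one => exact ⟨0, 0, 0, map_zero _, map_zero _, by rw [tv_zero, tv_zero, zero_smul, h.xx_zero h1, one_mul, one_mul]⟩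
  | mul x y _ _ hx hy =>
    obtain ⟨α, β, l, a1, a2, rfl⟩ := hx
    obtain ⟨α', β', l', b1, b2, rfl⟩ := hy
    refine ⟨α + α', β + β', l + l', by rw [map_add, a1, b1], by rw [map_add, a2, b2], ?_⟩
    have c1 : Commute (xx B e1 (l • e2)) (tv B e1 α' * tv B e2 β') := h.AW_ab hW (h.xx_mem_AW hW m1 (sm m2 l))
      (mul_mem (h.tv_mem_AW m1 h1 b1) (h.tv_mem_AW m2 h2 b2))
    have c2 : Commute (tv B e2 β) (tv B e1 α') := h.AW_ab hW (h.tv_mem_AW m2 h2 a2) (h.tv_mem_AW m1 h1 b1)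
    rw [c1.mul_mul_mul_comm, c2.mul_mul_mul_comm, tv_mul h1, tv_mul h2, add_smul,
      h.xx_add h1 (hW _ (sm m2 l) _ m1) (hW _ (sm m2 l') _ m1) (hW _ (sm m2 l') _ (sm m2 l))]
  | inv x hx ih =>
    rw [← h.AW_gen hW] at hx
    rwa [inv_eq_of_mul_eq_one_right (h.AW_sq hW hx)]

theorem AW_two_inj {e1 e2 : V} (hi : LinearIndependent F ![e1, e2]) (h1 : B e1 e1 = 0) (h21 : B e2 e1 = 0)
    (h2 : B e2 e2 = 0) {α β l : F} (e : tv B e1 α * tv B e2 β * xx B e1 (l • e2) = 1) : α = 0 ∧ β = 0 ∧ l = 0 := by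
  obtain ⟨f1, f2, p⟩ := h.exists_frame hi h1 h21 h2
  have l1 : B (l • e2) e1 = 0 := by simp [h21]
  have e' := congrArg (· • f1) e
  simp only [mul_smul, h.xx_smul h1 l1, tv_smul h1, tv_smul h2, one_smul] at e'
  simp [p.fe, p.p1.pair', h2, h21, add_assoc] at e'
  obtain ⟨a, b⟩ := LinearIndependent.pair_iff.1 hi α l (by rw [add_comm]; exact e')
  subst a b
  rw [tv_zero, zero_smul, h.xx_zero h1, one_mul, mul_one, h.tv_eq_one ⟨p.p2.left_ne_zero, h2⟩] at e
  exact ⟨rfl, e, rfl⟩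

theorem exists_zeta (hq : 4 ≤ q) : ∃ ζ : F, ζ * σ ζ = 1 ∧ ζ + σ ζ ≠ 0 ∧ ζ + σ ζ ≠ 1 := by
  by_contra hn
  push Not at hn
  have le : uNormOne σ ≤ rootsOfUnity 3 F := fun u hu => by
    have hu' : (u : F) * σ u = 1 := hu
    rw [mem_rootsOfUnity']
    have h2 : (2 : F) = 0 := CharTwo.two_eq_zero
    by_cases e : (u : F) + σ u = 0
    · have : (u : F) = 1 := h.AWb_sq_inj (by rw [mul_one, ← hu', ← CharTwo.add_eq_zero.1 e])
      rw [this, one_pow]
    · have := hn u hu' e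
      linear_combination ((u : F) ^ 2 + u) * this - (u + 1 : F) * hu' - h2
  have := (card_le_of_le le).trans (card_rootsOfUnity F 3)
  rw [h.uf.card_uNormOne] at this
  omega

theorem exists_zeta' : ∃ ζ : F, ζ * σ ζ = 1 ∧ ζ + σ ζ ≠ 0 := by
  obtain ⟨u, h1, h2⟩ := h.herm.toUInvol.exists_norm_one_ne
  exact ⟨u, h1, fun e => h2 (CharTwo.add_eq_zero.1 e).symm⟩

theorem exists_theta {δ : F} (hδ : σ δ = δ) :
    (∃ ξ : F, σ ξ = ξ ∧ ξ * ξ + ξ = δ) ∨ ∃ θ : F, θ + σ θ = 1 ∧ θ * θ + θ = δ := by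
  classical
  have := Fintype.ofFinite F
  have h2 : (2 : F) = 0 := CharTwo.two_eq_zero
  have c0 := h.uf.card_trace_eq (map_zero σ)
  have c1 := h.uf.card_trace_eq (map_one σ)
  have c2 := h.uf.card_fixed
  rw [Nat.card_eq_fintype_card, Fintype.card_subtype] at c0 c1 c2
  obtain ⟨D, hD⟩ : ∃ D, D = (Finset.univ.filter fun x : F => x + σ x = 0) ∪ Finset.univ.filter fun x : F => x + σ x = 1 :=
    ⟨_, rfl⟩
  have mD : ∀ x, x ∈ D ↔ x + σ x = 0 ∨ x + σ x = 1 := fun x => by simp [hD]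
  have cD : D.card = 2 * q := by
    rw [hD, Finset.card_union_of_disjoint (Finset.disjoint_filter.2 fun x _ a b => zero_ne_one (a.symm.trans b)), c0, c1,
      two_mul]
  have le := Finset.card_le_mul_card_image (f := fun x : F => x * x + x) D 2 fun b hb => by
    obtain ⟨x, -, rfl⟩ := Finset.mem_image.1 hb
    refine (Finset.card_le_card (t := {x, x + 1}) fun y hy => ?_).trans Finset.card_le_two
    have e : y * y + y = x * x + x := (Finset.mem_filter.1 hy).2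
    have : (y - x) * (y - (x + 1)) = 0 := by linear_combination e + (x * x + x - x * y - y) * h2
    simpa [sub_eq_zero] using this
  have eq : D.image (fun x : F => x * x + x) = Finset.univ.filter fun a : F => σ a = a := by
    refine Finset.eq_of_subset_of_card_le (fun b hb => ?_) (by omega)
    obtain ⟨x, hx, rfl⟩ := Finset.mem_image.1 hb
    rw [Finset.mem_filter, map_add, map_mul]
    refine ⟨Finset.mem_univ _, ?_⟩
    rcases (mD x).1 hx with e | e
    · rw [← CharTwo.add_eq_zero.1 e]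
    · linear_combination (σ x - x + 2) * e + (1 - 2 * x) * h2
  obtain ⟨x, hx, e⟩ := Finset.mem_image.1 (eq.ge (Finset.mem_filter.2 ⟨Finset.mem_univ δ, hδ⟩))
  rcases (mD x).1 hx with a | a
  exacts [.inl ⟨x, (CharTwo.add_eq_zero.1 a).symm, e⟩, .inr ⟨x, a, e⟩]

end Sp

end Cfsg.Agent.U52
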