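import Mathlib
import Cfsg.Agent.U52.Cfg2
import Cfsg.Agent.U52.AWb
import Cfsg.Agent.U52.Flag
import Cfsg.Agent.U52.Cen
import Cfsg.Agent.Cl.AutField

set_option autoImplicit false
set_option linter.unusedSectionVars false

namespace Cfsg.Agent.U52

open Cfsg Cfsg.Agent.Cl Cfsg.Agent.Loc.Mss Subgroup Module
open Cfsg.Agent.StdB (C1 mem_C1 El)
open scoped commutatorElement

variable {F : Type*} [Field F] [Finite F] [CharP F 2] {σ : F →+* F} {V : Type*} [AddCommGroup V] [Module F V]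
  [Finite V] {B : V →ₗ[F] V →ₛₗ[σ] F} {q : ℕ} {G : Type*} [Group G] [Finite G]

theorem M1_finrank_pair (x y : V) : finrank F (Submodule.span F {x, y}) ≤ 2 := by
  have := finrank_range_le_card (R := F) ![x, y]
  rw [Matrix.range_cons_cons_empty] at this
  simpa [Set.finrank] using this

namespace Sp

variable (h : Sp B q)
include h

theorem M1_partner {e v : V} (hv : B v v = 0) (hve : B v e = 0) (hn : v ∉ F ∙ e) :
    ∃ f, B f e = 0 ∧ UHypPair B v f := by
  obtain ⟨y, hy, e1⟩ := h.herm.exists_perp_eq_one hn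
  obtain ⟨f, hf, f1, f2⟩ := h.herm.exists_mem_partner (W := uPerp B (F ∙ e))
    (mem_uPerp_span_singleton.2 (h.zero_symm hve)) hy hv (by rw [e1]; exact one_ne_zero)
  exact ⟨f, h.zero_symm (mem_uPerp_span_singleton.1 hf), h.herm.uHypPair hv f1 f2⟩

theorem M1_pair {e : V} (he : Iso B e) : ∃ w w', B w e = 0 ∧ B w' e = 0 ∧ UHypPair B w w' := by
  obtain ⟨f, p⟩ := h.exists_pair he
  obtain ⟨w, w', fr⟩ := h.exists_frame'' p
  exact ⟨w, w', h.zero_symm fr.ee, h.zero_symm fr.ef, fr.p2⟩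

theorem M1_iso_add {v w : V} (hv : B v v = 0) (hw : B w w = 0) (e : B v w = 0) : B (v + w) (v + w) = 0 := by
  simp [hv, hw, e, h.zero_symm e]

theorem M1_tv {e v : V} (hv : B v v = 0) (hve : B v e = 0) {a : F} (ha : σ a = a) : tv B v a ∈ M1 B e :=
  mem_M1.2 ⟨h.tv_mem hv ha, tv_perp a (h.zero_symm hve)⟩

theorem SUY_gen {Y : Submodule F V} (hY : Disjoint Y (uPerp B Y)) (h3 : ¬ (finrank F Y = 3 ∧ q = 2)) :
    SU B ⊓ SLY B Y ≤ closure {g | ∃ v ∈ Y, ∃ a, B v v = 0 ∧ σ a = a ∧ g = tv B v a} := by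
  rintro _ ⟨⟨k, hk, rfl⟩, ⟨-, hm⟩, hf⟩
  have hc := h.herm.isCompl_uPerp hY
  have h1 : k ∈ uStab F (Y : Set V) := mem_uStab_of_forall fun v hv => by
    have := add_mem (hm.2 v trivial) hv
    rwa [sub_add_cancel] at this
  have h2 : k ∈ uFixer F (uPerp B Y : Set V) := hf
  have e := uSum_uRestrict hc h1 (uFixer_le_uStab _ h2)
  rw [(uRestrict_eq_one_iff (g := ⟨k, uFixer_le_uStab _ h2⟩)).2 h2] at e
  have hr : uRestrict Y ⟨k, h1⟩ ∈ USG (uRes B Y) := mem_USG.2 ⟨uRestrict_mem_UG hk.1, by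
    have := det_uSum hc (uRestrict Y ⟨k, h1⟩, 1)
    rw [e, (mem_USG.1 hk).2, map_one, mul_one] at this
    exact this.symm⟩
  rw [← (h.herm.restrict hY).closure_uTransvs h.uf h3] at hr
  have := mem_map_of_mem (lin.comp ((uSum hc).comp (MonoidHom.inl _ _))) hr
  rw [MonoidHom.map_closure] at this
  rw [← e]
  refine closure_mono ?_ this
  rintro _ ⟨_, ⟨z, c, hz, hc', rfl⟩, rfl⟩
  refine ⟨z, z.2, c, hz, (CharTwo.add_eq_zero.1 hc').symm, congrArg lin (LinearEquiv.ext fun x => ?_)⟩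
  obtain ⟨y, y', rfl⟩ := u_exists_add_of_isCompl hc x
  have hz' : B z z = 0 := hz
  have e1 : B y' z = 0 := h.zero_symm (y'.2 z z.2)
  change uSum hc (uRefl (uRes B Y) z c, 1) (y + y' : V) = _
  rw [uSum_apply_add, uRefl_apply_of_isotropic hz, uRefl_apply_of_isotropic hz', map_add, LinearMap.add_apply, e1,
    add_zero, uRes_apply]
  simp only [Submodule.coe_add, Submodule.coe_smul, LinearEquiv.coe_one, id]
  abel

theorem iso_span {e : V} (he : Iso B e) {P : AddSubgroup V} (hP : ∀ v, B v v = 0 → B v e = 0 → v ∈ P) {u : V}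
    (hu : B u e = 0) : u ∈ P := by
  obtain ⟨w, w', hw, hw', p⟩ := h.M1_pair he
  have key : ∀ u, B u e = 0 → B w u ≠ 0 → u ∈ P := fun u hu hn => by
    obtain ⟨c, hc⟩ := h.exists_iso_add (TI_span p.left) (Submodule.mem_span_singleton_self w) hn
    have := P.sub_mem (hP _ hc (by simp [hu, hw])) (hP (c • w) (by simp [p.left]) (by simp [hw]))
    rwa [add_sub_cancel_right] at this
  by_cases e1 : B w u = 0
  · have := P.sub_mem (key (u + w') (by simp [hu, hw']) (by simp [e1, p.pair])) (hP w' p.right hw')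
    rwa [add_sub_cancel_right] at this
  · exact key u hu e1

/-- A transvection as a commutator of two Eichler maps. -/
theorem M1_comm {D : Subgroup (SG F V)} {v u u' : V} (hv : B v v = 0) (hu : B u v = 0) (hu' : B u' v = 0) {s s' : F}
    (h1 : ei B v u s ∈ D) (h2 : ei B v u' s' ∈ D) : tv B v (B u u' + B u' u) ∈ ⁅D, D⁆ := by
  have := commutator_mem_commutator (inv_mem h1) (inv_mem h2)
  rwa [commutatorElement_def, inv_inv, inv_inv, mul_assoc, h.ei_comm hv hu hu', ← mul_inv_rev, mul_assoc,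
    ← mul_assoc, ← mul_assoc, mul_assoc _ (ei B v u' s'), inv_mul_cancel, one_mul] at this

theorem Zv_le_comm {e : V} (he : Iso B e) : Zv B e ≤ ⁅Qv B e, Qv B e⁆ := by
  intro g hg
  obtain ⟨a, ha, rfl⟩ := (h.mem_Zv he).1 hg
  obtain ⟨w, w', hw, hw', p⟩ := h.M1_pair he
  obtain ⟨c, hc⟩ := h.herm.toUInvol.exists_trace_eq ha
  have hc' : B (c • w) e = 0 := by simp [hw]
  have := h.M1_comm he.iso hc' hw' ((h.mem_Qv he).2 ⟨c • w, 0, hc', by simp [p.left], rfl⟩)
    ((h.mem_Qv he).2 ⟨w', 0, hw', by simp [p.right], rfl⟩)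
  simpa [p.pair, p.pair', hc] using this

theorem tv_mem_comm {e v : V} {a : F} (hv : B v v = 0) (hve : B v e = 0) (ha : σ a = a) :
    tv B v a ∈ ⁅M1 B e, M1 B e⁆ := by
  have h7 := h.five
  obtain ⟨p, hp, hpp⟩ := h.herm.exists_mem_nonisotropic' (W := uPerp B (Submodule.span F {e, v})) fun hle => by
    have h1 := h.herm.two_mul_finrank_le hle
    have h2 := M1_finrank_pair (F := F) e v
    rw [h.herm.finrank_uPerp] at h1
    omega
  obtain ⟨h1, h2⟩ := mem_uPerp_span_pair.1 hp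
  have key : ∀ c : F, ∃ s, ei B v (c • p) s ∈ M1 B e := fun c => by
    obtain ⟨s, hs⟩ := h.herm.toUInvol.exists_trace_eq (h.herm.fixed (c • p))
    have h3 : B (c • p) v = 0 := by simp [h.zero_symm h2]
    exact ⟨s, mem_M1.2 ⟨h.ei_mem hv h3 hs, by rw [h.ei_perp hv h3 s (h.zero_symm hve)]; simp [h1]⟩⟩
  obtain ⟨c, hc⟩ := h.herm.toUInvol.exists_trace_eq (a := a / B p p) (by rw [map_div₀, ha, h.symm])
  obtain ⟨s, hs⟩ := key c
  obtain ⟨s', hs'⟩ := key 1
  have := h.M1_comm hv (by simp [h.zero_symm h2]) (by simp [h.zero_symm h2]) hs hs'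
  rwa [show B (c • p) ((1 : F) • p) + B ((1 : F) • p) (c • p) = a by
    rw [← div_mul_cancel₀ a hpp, ← hc]; simp [add_mul]] at this

theorem two_le_Q {e : V} (he : Iso B e) {P : Subgroup (SG F V)} (hP : IsPGroup 2 P) (hle : P ≤ M1 B e)
    (hn : M1 B e ≤ 𝐍[P]) : P ≤ Qv B e := by
  have hf : ∀ g ∈ M1 B e, fld g = 1 := fun g hg => fld_SU (M1_le e hg)
  have hS : ∀ g ∈ M1 B e, ∀ x ∈ F ∙ e, g • x = x := fun g hg =>
    (mem_FW.1 ((FW_span (B := B) e).ge hg)).2
  let U : Submodule F V :=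
    { carrier := {u | B u e = 0 ∧ ∀ g ∈ P, g • u - u ∈ F ∙ e}
      zero_mem' := ⟨by simp, fun g _ => by simp⟩
      add_mem' := fun {u u'} hu hu' => ⟨by simp [hu.1, hu'.1], fun g hg => by
        rw [smul_add, add_sub_add_comm]; exact add_mem (hu.2 g hg) (hu'.2 g hg)⟩
      smul_mem' := fun c u hu => ⟨by simp [hu.1], fun g hg => by
        rw [smul_sm_of (hf g (hle hg)), ← smul_sub]; exact Submodule.smul_mem _ _ (hu.2 g hg)⟩ }
  have inv : ∀ m ∈ M1 B e, ∀ u ∈ U, m • u ∈ U := fun m hm u hu => ⟨by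
      rw [← (mem_M1.1 hm).2, SU_map (M1_le e hm)]; exact hu.1, fun g hg => by
    have h1 := hu.2 _ (conj_mem_of_norm' (hn hm) hg)
    rw [← hS m hm _ h1, smul_sub, smul_smul, show m * (m⁻¹ * g * m) = g * m by group, mul_smul] at h1
    exact h1⟩
  have st : ∀ u ∈ U, ∀ v, B v v = 0 → B v e = 0 → B u v ≠ 0 → v ∈ U := fun u hu v hv hve hne => by
    have := U.sub_mem (inv _ (h.M1_tv hv hve (map_one σ)) u hu) hu
    rwa [tv_smul hv, add_sub_cancel_left, one_mul, U.smul_mem_iff hne] at this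
  obtain ⟨w, w', hw, hw', p⟩ := h.M1_pair he
  have hSt : P ≤ St (F ∙ e) := fun g hg => mem_St_of fun x hx => (hS g (hle hg) x hx).symm ▸ hx
  obtain ⟨u, hu, hu', hu''⟩ := exists_fix_coset hP (U := F ∙ e) (U' := uPerp B (F ∙ e))
    (lt_of_le_of_ne (TI_span he.iso).le fun e1 => by
      have h1 : w ∈ F ∙ e := e1 ▸ mem_uPerp_span_singleton.2 (h.zero_symm hw)
      obtain ⟨c, rfl⟩ := Submodule.mem_span_singleton.1 h1
      have := p.pair
      simp [h.zero_symm hw'] at this)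
    hSt fun g hg => St_perp (SU_le_Gam (M1_le e (hle hg))) (hSt hg)
  have hU : u ∈ U := ⟨h.zero_symm (mem_uPerp_span_singleton.1 hu), hu''⟩
  obtain ⟨v, hv, hve, huv⟩ : ∃ v, B v v = 0 ∧ B v e = 0 ∧ B u v ≠ 0 := by
    by_contra hc
    push Not at hc
    obtain ⟨y, hy, e1⟩ := h.herm.exists_perp_eq_one hu'
    have := h.iso_span he (P := (uPerp B (F ∙ u)).toAddSubgroup)
      (fun v h1 h2 => mem_uPerp_span_singleton.2 (hc v h1 h2)) (h.zero_symm (mem_uPerp_span_singleton.1 hy))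
    exact one_ne_zero (e1.symm.trans (mem_uPerp_span_singleton.1 this))
  have hvU := st u hU v hv hve huv
  obtain ⟨v', hv', p'⟩ := h.M1_partner hv hve fun hm => by
    obtain ⟨c, rfl⟩ := Submodule.mem_span_singleton.1 hm
    exact huv (by simp [hU.1])
  have hvU' := st v hvU v' p'.right hv' (by rw [p'.pair]; exact one_ne_zero)
  have all : ∀ x, B x e = 0 → x ∈ U := fun x hx => h.iso_span he (P := U.toAddSubgroup) (fun z hz hze => by
    by_cases e1 : B v z = 0
    · by_cases e2 : B v' z = 0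
      · have := U.sub_mem (st v' hvU' (v + z) (h.M1_iso_add hv hz e1) (by simp [hve, hze]) (by simp [e2, p'.pair'])) hvU
        rwa [add_sub_cancel_left] at this
      · exact st v' hvU' z hz hze e2
    · exact st v hvU z hz hze e1) hx
  exact fun g hg => mem_RW.2 ⟨M1_le e (hle hg), hS g (hle hg), fun x hx =>
    (all x (h.zero_symm (mem_uPerp_span_singleton.1 hx))).2 g hg⟩

theorem inv0 {e : V} (he : Iso B e) {M : Type*} [AddCommGroup M] (χ : V → M)
    (hadd : ∀ u u', B u e = 0 → B u' e = 0 → χ (u + u') = χ u + χ u')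
    (hinv : ∀ g ∈ M1 B e, ∀ u, B u e = 0 → χ (g • u) = χ u) {u : V} (hu : B u e = 0) : χ u = 0 := by
  have h0 : χ 0 = 0 := by simpa using hadd 0 0 (by simp) (by simp)
  have key : ∀ v, B v v = 0 → B v e = 0 → v ∉ F ∙ e → χ v = 0 := fun v hv hve hn => by
    obtain ⟨f, hf, p⟩ := h.M1_partner hv hve hn
    have := hinv _ (h.M1_tv hv hve (map_one σ)) f hf
    rw [tv_smul hv, p.pair', one_mul, one_smul, hadd _ _ hf hve] at this
    exact add_eq_left.1 this
  let P : AddSubgroup V :=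
    { carrier := {u | B u e = 0 ∧ χ u = 0}
      zero_mem' := ⟨by simp, h0⟩
      add_mem' := fun {u u'} hu hu' => ⟨by simp [hu.1, hu'.1], by rw [hadd _ _ hu.1 hu'.1, hu.2, hu'.2, add_zero]⟩
      neg_mem' := fun {u} hu => by rwa [vneg (F := F)] }
  refine (h.iso_span he (P := P) (fun v hv hve => ⟨hve, ?_⟩) hu).2
  by_cases hn : v ∈ F ∙ e
  · obtain ⟨w, w', hw, hw', p⟩ := h.M1_pair he
    have h1 : w ∉ F ∙ e := fun h1 => by
      obtain ⟨c, rfl⟩ := Submodule.mem_span_singleton.1 h1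
      have := p.pair
      simp [h.zero_symm hw'] at this
    have h2 : B v w = 0 := by
      obtain ⟨c, rfl⟩ := Submodule.mem_span_singleton.1 hn
      simp [h.zero_symm hw]
    have := key (v + w) (h.M1_iso_add hv p.left h2) (by simp [hve, hw]) fun h3 =>
      h1 ((Submodule.add_mem_iff_right _ hn).1 h3)
    rwa [hadd _ _ hve hw, key w p.left hw h1, add_zero] at this
  · exact key v hv hve hn

theorem exists_rep_K {e : V} (he : Iso B e) (φ : V → F)
    (hadd : ∀ u u', B u e = 0 → B u' e = 0 → φ (u + u') = φ u + φ u') (hK : ∀ u, B u e = 0 → σ (φ u) = φ u)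
    (hs : ∀ c u, σ c = c → B u e = 0 → φ (c • u) = c * φ u) (h0 : ∀ c : F, φ (c • e) = 0) :
    ∃ y, B y e = 0 ∧ ∀ u, B u e = 0 → φ u = B u y + B y u := by
  obtain ⟨ω, hω⟩ := h.exists_omega
  have two : (2 : F) = 0 := CharTwo.two_eq_zero
  have sm : ∀ (c : F) u, B u e = 0 → B (c • u) e = 0 := fun c u hu => by simp [hu]
  have dec : ∀ (c : F) u, B u e = 0 → φ (c • u) = (c + (c + σ c) * ω) * φ u + (c + σ c) * φ (ω • u) := fun c u hu => by
    have h1 : σ (c + σ c) = c + σ c := h.herm.toUInvol.trace_fixed c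
    rw [← hs _ _ (by rw [map_add, map_mul, h1]; linear_combination (c + σ c) * hω - (c + σ c) * ω * two + σ c * two) hu,
      ← hs _ _ h1 (sm ω u hu), ← hadd _ _ (sm _ _ hu) (sm _ _ (sm ω u hu)), smul_smul, ← add_smul]
    congr 2
    linear_combination -(c + σ c) * ω * two
  have pe : ∀ x : uPerp B (F ∙ e), B x e = 0 := fun x => h.zero_symm (mem_uPerp_span_singleton.1 x.2)
  let l : uPerp B (F ∙ e) →ₗ[F] F :=
    { toFun := fun x => φ (ω • (x : V)) + σ ω * φ x
      map_add' := fun x y => by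
        rw [Submodule.coe_add, smul_add, hadd _ _ (sm ω _ (pe x)) (sm ω _ (pe y)), hadd _ _ (pe x) (pe y)]
        ring
      map_smul' := fun c x => by
        rw [Submodule.coe_smul, smul_smul, dec (ω * c) _ (pe x), dec c _ (pe x), map_mul, RingHom.id_apply,
          smul_eq_mul, show σ ω = 1 - ω by rw [← hω]; ring]
        linear_combination ((1 - ω) * σ c * φ (ω • (x : V)) + (ω * c + (1 - ω) * σ c * ω) * φ x) * two }
  obtain ⟨y, hy⟩ := h.herm.exists_rep_on l
  refine ⟨y, h.zero_symm ((hy ⟨e, mem_uPerp_span_singleton.2 he.iso⟩).trans ?_), fun u hu => ?_⟩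
  · change φ (ω • e) + σ ω * φ e = 0
    have := h0 1
    rw [one_smul] at this
    rw [h0, this, mul_zero, add_zero]
  · have h1 : B u y = φ (ω • u) + σ ω * φ u := hy ⟨u, mem_uPerp_span_singleton.2 (h.zero_symm hu)⟩
    rw [← h.symm u y, h1, map_add, map_mul, h.ss, hK _ hu, hK _ (sm ω u hu)]
    linear_combination -φ u * hω - φ (ω • u) * two

theorem gen7 {e : V} (he : Iso B e) : SU B ≤ closure {g | g ∈ SU B ∧ B (g • e) e = 0} := by
  intro g hg
  by_cases h1 : B e (g • e) = 0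
  · exact subset_closure ⟨hg, h.zero_symm h1⟩
  have hv := he.smul (SU_le_Gam hg)
  obtain ⟨w, w', fr⟩ := h.exists_frame'' (h.herm.uHypPair_smul he.iso hv.iso h1)
  obtain ⟨k, hk, e1⟩ := h.exists_SU_iso he ⟨fr.p2.left_ne_zero, fr.p2.left⟩
  have h2 : B (g • e) w = 0 := by
    have := fr.fe
    rw [LinearMap.map_smul, LinearMap.smul_apply, smul_eq_zero] at this
    exact this.resolve_left (inv_ne_zero fun e2 => h1 (h.zero_symm e2))
  rw [show g = k * (k⁻¹ * g) by group]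
  refine mul_mem (subset_closure ⟨hk, by rw [e1]; exact h.zero_symm fr.ee⟩)
    (subset_closure ⟨mul_mem (inv_mem hk) hg, ?_⟩)
  rw [mul_smul, SU_left (inv_mem hk), inv_inv, e1, h2]

theorem SU_normal {N : Subgroup (SG F V)} (hle : N ≤ SU B) (hn : SU B ≤ 𝐍[N]) : N ≤ Sc F V ∨ N = SU B := by
  have h4 := h.four_le
  rcases h.herm.normal_le_center_or_eq_top h.uf (by omega) (by omega) ((N.comap lin).subgroupOf (USG B))
    ⟨fun a ha g => by
      have := conj_mem_of_norm (hn (lin_mem_SU.2 g.2)) (show lin a.1 ∈ N from ha)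
      rw [← map_inv, ← map_mul, ← map_mul] at this
      exact this⟩ with e | e
  · refine .inl fun g hg => h.cen_SU fun v a hv ha => ?_
    obtain ⟨k, hk, rfl⟩ := hle hg
    have := mem_center_iff.1 (e (x := ⟨k, hk⟩) hg) ⟨uRefl B v a, lin_mem_SU.1 (h.tv_mem hv ha)⟩
    rw [tv, ← map_mul, ← map_mul]
    exact congrArg lin (congrArg Subtype.val this).symm
  · refine .inr (le_antisymm hle ?_)
    rintro _ ⟨k, hk, rfl⟩
    exact e.ge (mem_top (⟨k, hk⟩ : USG B))

theorem fld_der {x : SG F V} (hx : x ∈ ⁅(⊤ : Subgroup (SG F V)), (⊤ : Subgroup (SG F V))⁆) : fld x = 1 := by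
  refine (commutator_le (H₃ := (fld : SG F V →* RingAut F).ker)).2 (fun a _ b _ => ?_) hx
  rw [MonoidHom.mem_ker, map_commutatorElement, commutatorElement_eq_one_iff_mul_comm]
  exact Aut.ringAut_comm _ _

theorem Gam_der : ⁅⁅Gam B, Gam B⁆, ⁅Gam B, Gam B⁆⁆ ≤ SU B := by
  have h1 : ⁅Gam B, Gam B⁆ ≤ Gam B := comm_le_left le_normalizer
  refine commutator_le.2 fun a ha b hb => mem_SU.2 ⟨h1 (commutator_mem_commutator (h1 ha) (h1 hb)), ?_⟩
  obtain ⟨k, rfl⟩ := exists_lin (h.fld_der (commutator_mono le_top le_top ha))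
  obtain ⟨l, rfl⟩ := exists_lin (h.fld_der (commutator_mono le_top le_top hb))
  refine mem_SL.2 ⟨⁅k, l⁆, ?_, map_commutatorElement _ _ _⟩
  rw [map_commutatorElement, commutatorElement_eq_one_iff_mul_comm, mul_comm]

end Sp

end Cfsg.Agent.U52
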