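import Mathlib
import Cfsg.Agent.U52.Cfg3
import Cfsg.Agent.U52.Aut
import Cfsg.Agent.U52.Cen
import Cfsg.Agent.U52.M1
import Cfsg.Agent.U52.Flag
import Cfsg.Agent.StdB.Red
import Cfsg.Agent.HxD.Cy

/-! Images of `SU` and the induced actions. -/

set_option autoImplicit false
set_option linter.unusedSectionVars false

namespace Cfsg.Agent.U52

open Cfsg Cfsg.Agent.Cl Cfsg.Agent.Loc.Mss Subgroup Module
open Cfsg.Agent.StdB (C1 mem_C1 El)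
open scoped commutatorElement

variable {F : Type*} [Field F] [Finite F] [CharP F 2] {σ : F →+* F} {V : Type*} [AddCommGroup V] [Module F V]
  [Finite V] {B : V →ₗ[F] V →ₛₗ[σ] F} {q : ℕ} {G : Type*} [Group G] [Finite G]

section Gen

variable {D : Subgroup (SG F V)} {ψ : D →* G}

namespace Emb

theorem sc_of_eq (hψ : IsE ψ) {x y : SG F V} (hx : x ∈ D) (hy : y ∈ D) (e : ev ψ x = ev ψ y) :
    x * y⁻¹ ∈ Sc F V :=
  hψ _ (mul_mem hx (inv_mem hy)) (by rw [ev_mul hx (inv_mem hy), ev_inv hy, e, mul_inv_cancel])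

theorem eq_two (hψ : IsE ψ) {x y : SG F V} (hx : x ∈ D) (hy : y ∈ D) (hf : fld y = 1) {n m : ℕ}
    (h1 : x ^ 2 ^ n = 1) (h2 : y ^ 2 ^ m = 1) (e : ev ψ x = ev ψ y) : x = y := by
  have hs := sc_of_eq hψ hx hy e
  have hc : Commute (x * y⁻¹) y := Sc_comm hs hf
  have h3 := hc.mul_pow (2 ^ (n + m))
  rw [inv_mul_cancel_right, pow_add, pow_mul, h1, one_pow, mul_comm (2 ^ n), pow_mul y, h2, one_pow,
    mul_one, ← pow_add] at h3
  exact mul_inv_eq_one.1 (Sc_two hs h3.symm)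

theorem cj_im {g : G} {γ : SG F V} (h : Act ψ g γ) {H : Subgroup (SG F V)} (hH : H ≤ D) :
    cj(g, im ψ H) = im ψ cj(γ, H) := by
  refine le_antisymm (cj_le_iff.2 fun y hy => ?_) fun y hy => ?_
  · obtain ⟨x, hx, rfl⟩ := (mem_im' hH).1 hy
    rw [h x (hH hx)]
    exact ev_mem_im (conj_mem_cj hx)
  · obtain ⟨_, ⟨x, hx, rfl⟩, -, rfl⟩ := mem_im.1 hy
    exact h x (hH hx) ▸ conj_mem_cj (ev_mem_im hx)

theorem cj_fam (A : Submodule F V → Subgroup (SG F V))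
    (hA : ∀ W g a, g ∈ Gam B → a ∈ A W → g * a * g⁻¹ ∈ A (mapW g W)) {γ : SG F V} (hγ : γ ∈ Gam B)
    (W : Submodule F V) : cj(γ, A W) = A (mapW γ W) := by
  refine le_antisymm (cj_le_iff.2 fun a => hA W γ a hγ) fun a ha => mem_cj.2 ?_
  have := hA _ _ _ (inv_mem hγ) ha
  rwa [← mapW_mul, inv_mul_cancel, mapW_one, inv_inv] at this

theorem exists_of_relIndex {K L L' : Subgroup G} (hle : L' ≤ L) (h : K.relIndex L ≤ K.relIndex L') {x : G}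
    (hx : x ∈ L) : ∃ y ∈ L', y⁻¹ * x ∈ K := by
  obtain ⟨y, hy⟩ := ((quotientSubgroupOfEmbeddingOfLE K hle).injective.bijective_of_nat_card_le h).2
    (QuotientGroup.mk ⟨x, hx⟩)
  obtain ⟨y, rfl⟩ := QuotientGroup.mk_surjective y
  rw [quotientSubgroupOfEmbeddingOfLE_apply_mk, QuotientGroup.eq] at hy
  exact ⟨y, y.2, hy⟩

/-- The elements that act as an element of `Δ`. -/
def Y (ψ : SU B →* G) {Δ : Subgroup (SG F V)} (hΔ : Δ ≤ Gam B) : Subgroup G where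
  carrier := {g | ∃ γ ∈ Δ, Act ψ g γ}
  one_mem' := ⟨1, one_mem _, act_one⟩
  mul_mem' := fun ⟨_, h1, a⟩ ⟨_, h2, a'⟩ => ⟨_, mul_mem h1 h2, a.mul a' fun _ hx => conj_mem_SU (hΔ h2) hx⟩
  inv_mem' := fun ⟨_, h1, a⟩ => ⟨_, inv_mem h1, a.inv fun _ hx => conj_mem_SU' (hΔ h1) hx⟩

theorem Y_comm {ψ : SU B →* G} {Δ : Subgroup (SG F V)} (hΔ : Δ ≤ Gam B) :
    ⁅Y ψ hΔ, Y ψ hΔ⁆ ≤ Y ψ ((comm_le_left le_normalizer : ⁅Δ, Δ⁆ ≤ Δ).trans hΔ) :=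
  commutator_le.2 fun _ ⟨_, h1, a⟩ _ ⟨_, h2, a'⟩ => ⟨_, commutator_mem_commutator h1 h2,
    ((a.mul a' fun _ hx => conj_mem_SU (hΔ h2) hx).mul (a.inv fun _ hx => conj_mem_SU' (hΔ h1) hx)
      fun _ hx => conj_mem_SU (inv_mem (hΔ h1)) hx).mul (a'.inv fun _ hx => conj_mem_SU' (hΔ h2) hx)
      fun _ hx => conj_mem_SU (inv_mem (hΔ h2)) hx⟩

end Emb

theorem IsE.eq_one_of_two (hψ : IsE ψ) {x : SG F V} (hx : x ∈ D) (e : ev ψ x = 1) {n : ℕ} (h2 : x ^ 2 ^ n = 1) : x = 1 := by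
  exact Sc_two (hψ x hx e) h2

theorem IsE.inj_two (hψ : IsE ψ) {P : Subgroup (SG F V)} (hP : IsPGroup 2 P) (hle : P ≤ D) {x y : SG F V}
    (hx : x ∈ P) (hy : y ∈ P) (e : ev ψ x = ev ψ y) : x = y := by
  obtain ⟨n, hn⟩ := pg_iff.1 hP _ (mul_mem (inv_mem hx) hy)
  exact inv_mul_eq_one.1 (hψ.eq_one_of_two (hle (mul_mem (inv_mem hx) hy))
    (by rw [ev_mul (inv_mem (hle hx)) (hle hy), ev_inv (hle hx), e, inv_mul_cancel]) hn)

theorem IsE.card_im (hψ : IsE ψ) {P : Subgroup (SG F V)} (hP : IsPGroup 2 P) (hle : P ≤ D) :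
    Nat.card (im ψ P) = Nat.card P := by
  refine (Nat.card_congr (Equiv.ofBijective (fun x : P => (⟨ev ψ x, ev_mem_im x.2⟩ : im ψ P))
    ⟨fun x y e => Subtype.ext (hψ.inj_two hP hle x.2 y.2 (congrArg Subtype.val e)), fun g => ?_⟩)).symm
  obtain ⟨x, hx, -, e⟩ := mem_im.1 g.2
  exact ⟨⟨x, hx⟩, Subtype.ext e⟩

theorem IsE.inj_fix (hψ : IsE ψ) {e : V} (he : e ≠ 0) {x y : SG F V} (hx : x ∈ D) (hy : y ∈ D) (hx' : x • e = e)
    (hy' : y • e = e) (e' : ev ψ x = ev ψ y) : x = y := by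
  obtain ⟨h1, a, -, ha⟩ := Emb.sc_of_eq hψ hy hx e'.symm
  have h2 : (y * x⁻¹) • e = e := by rw [mul_smul, inv_smul_eq_iff.2 hx'.symm, hy']
  have h3 : a = 1 := smul_left_injective F he (by
    change a • e = (1 : F) • e
    rw [← ha, h2, one_smul])
  exact (mul_inv_eq_one.1 (SG.ext2 (fun v => by rw [ha, h3, one_smul, one_smul]) h1)).symm

theorem im_two {P : Subgroup (SG F V)} (hP : IsPGroup 2 P) : IsPGroup 2 (im ψ P) := by
  exact hP.comap_subtype.map ψ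

theorem im_el {P : Subgroup (SG F V)} (hP : El P) : El (im ψ P) := by
  intro g hg
  obtain ⟨x, hx, hD, rfl⟩ := mem_im.1 hg
  rw [← ev_mul hD hD, hP x hx, ev_one]

theorem im_sup {H H' : Subgroup (SG F V)} (h : H ≤ D) (h' : H' ≤ D) : im ψ (H ⊔ H') = im ψ H ⊔ im ψ H' := by
  rw [im, im, im, subgroupOf_sup h h', Subgroup.map_sup]

theorem im_comm {H H' : Subgroup (SG F V)} (h : H ≤ D) (h' : H' ≤ D) : im ψ ⁅H, H'⁆ = ⁅im ψ H, im ψ H'⁆ := by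
  rw [im, im, im, ← map_commutator]
  congr 1
  apply Subgroup.map_injective D.subtype_injective
  rw [map_commutator, map_subgroupOf_eq_of_le h, map_subgroupOf_eq_of_le h',
    map_subgroupOf_eq_of_le ((commutator_mono h h').trans (comm_le_left le_normalizer))]

theorem im_closure_le {s : Set (SG F V)} (hs : s ⊆ D) {X : Subgroup G} (h : ∀ x ∈ s, ev ψ x ∈ X) :
    im ψ (closure s) ≤ X := by
  have key : closure s ≤ (X.comap ψ).map D.subtype :=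
    (closure_le _).2 fun x hx => ⟨⟨x, hs hx⟩, by
      have := h x hx
      rwa [ev_of_mem (hs hx)] at this, rfl⟩
  intro g hg
  obtain ⟨x, hx, -, rfl⟩ := mem_im.1 hg
  obtain ⟨y, hy, rfl⟩ := key hx
  exact (ev_coe (f := ψ) y).symm ▸ hy

theorem ev_ext {s : Set (SG F V)} (hs : s ⊆ D) {D' : Subgroup (SG F V)} (hs' : s ⊆ D') {ψ' : D' →* G}
    (h : ∀ x ∈ s, ev ψ x = ev ψ' x) {x : SG F V} (hx : x ∈ closure s) : ev ψ x = ev ψ' x := by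
  have k : closure s ≤ D := (closure_le _).2 hs
  have k' : closure s ≤ D' := (closure_le _).2 hs'
  induction hx using closure_induction with
  | mem x hx => exact h x hx
  | one => rw [ev_one, ev_one]
  | mul x y hx hy h1 h2 => rw [ev_mul (k hx) (k hy), ev_mul (k' hx) (k' hy), h1, h2]
  | inv x hx h1 => rw [ev_inv (k hx), ev_inv (k' hx), h1]

theorem im_cent {H H' : Subgroup (SG F V)} (h : H ≤ 𝐂[H']) : im ψ H ≤ 𝐂[im ψ H'] := by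
  intro g hg
  obtain ⟨x, hx, hD, rfl⟩ := mem_im.1 hg
  refine mem_cent.2 fun g' hg' => ?_
  obtain ⟨y, hy, hD', rfl⟩ := mem_im.1 hg'
  exact ev_comm hD' hD (mem_cent.1 (h hx) y hy)

theorem im_norm {H H' : Subgroup (SG F V)} (h : H ≤ 𝐍[H']) (h' : H' ≤ D) : im ψ H ≤ 𝐍[im ψ H'] := by
  intro g hg
  obtain ⟨x, hx, hD, rfl⟩ := mem_im.1 hg
  refine mem_norm_of_cj_le (cj_le_iff.2 fun g' hg' => ?_)
  obtain ⟨y, hy, hD', rfl⟩ := mem_im.1 hg'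
  rw [← ev_conj hD hD']
  exact ev_mem_im (conj_mem_of_norm (h hx) hy)

theorem mem_cent_im {H : Subgroup (SG F V)} (hH : H ≤ D) {g : G} :
    g ∈ 𝐂[im ψ H] ↔ ∀ x ∈ H, g * ev ψ x = ev ψ x * g := by
  refine ⟨fun h x hx => (mem_cent.1 h _ (ev_mem_im hx)).symm, fun h => mem_cent.2 fun g' hg' => ?_⟩
  obtain ⟨x, hx, rfl⟩ := (mem_im' hH).1 hg'
  exact (h x hx).symm

theorem exists_two {g : G} (hg : g ∈ ψ.range) {n : ℕ} (h2 : g ^ 2 ^ n = 1) :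
    ∃ x ∈ D, (∃ m, x ^ 2 ^ m = 1) ∧ ev ψ x = g := by
  obtain ⟨x, hx, rfl⟩ := mem_range_iff.1 hg
  obtain ⟨a, m, hm, e⟩ := Nat.exists_eq_two_pow_mul_odd (orderOf_pos x).ne'
  obtain ⟨j, hj⟩ := exists_pow_eq_self_of_coprime (x := ev ψ x) (n := m)
    (Nat.Coprime.coprime_dvd_right (orderOf_dvd_of_pow_eq_one h2)
      (Nat.Coprime.pow_right n (Nat.coprime_two_right.2 hm)))
  refine ⟨(x ^ m) ^ j, pow_mem (pow_mem hx m) j, ⟨a, ?_⟩, ?_⟩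
  · rw [← pow_mul, ← pow_mul, show m * (j * 2 ^ a) = 2 ^ a * m * j by ring, ← e, pow_mul,
      pow_orderOf_eq_one, one_pow]
  · rw [ev_pow (pow_mem hx m), ev_pow hx, hj]

theorem IsE.exists_inv (hψ : IsE ψ) {g : G} (hg : g ∈ ψ.range) (h2 : g * g = 1) : ∃ x ∈ D, x * x = 1 ∧ ev ψ x = g := by
  obtain ⟨x, hx, ⟨m, hm⟩, rfl⟩ := exists_two hg (n := 1) (by rw [pow_one, pow_two, h2])
  refine ⟨x, hx, hψ.eq_one_of_two (mul_mem hx hx) (by rw [ev_mul hx hx, h2]) (n := m) ?_, rfl⟩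
  rw [← pow_two, ← pow_mul, mul_comm, pow_mul, hm, one_pow]

theorem syl_im {U : Subgroup (SG F V)} (hU : Syl 2 U D) : Syl 2 (im ψ U) ψ.range := by
  rw [← im_self]
  exact (hU.subgroupOf le_rfl).map ψ

theorem syl_of_im {U' : Subgroup G} (hU : Syl 2 U' ψ.range) : ∃ U, Syl 2 U D ∧ im ψ U = U' := by
  obtain ⟨U, h0⟩ := Syl.exists 2 D
  obtain ⟨g, hg, e⟩ := (syl_im (ψ := ψ) h0).conj_eq hU
  obtain ⟨x, hx, rfl⟩ := mem_range_iff.1 hg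
  exact ⟨_, h0.cj_mem hx, by rw [← e, Emb.cj_im (act_ev hx) h0.le]⟩

theorem Act.cj_im {g : G} {γ : SG F V} (h : Act ψ g γ) {H : Subgroup (SG F V)} (hH : H ≤ D) (hH' : cj(γ, H) ≤ D) :
    cj(g, im ψ H) = im ψ cj(γ, H) := by
  exact Emb.cj_im h hH

theorem Act.mem_norm {g : G} {γ : SG F V} (h : Act ψ g γ) (hγ : γ ∈ 𝐍[D]) : g ∈ 𝐍[ψ.range] := by
  refine mem_norm_of_cj_le (cj_le_iff.2 fun y hy => ?_)
  obtain ⟨x, hx, rfl⟩ := mem_range_iff.1 hy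
  rw [h x hx]
  exact ev_mem_range _

theorem Act.comm_two (hψ : IsE ψ) {g : G} {γ x : SG F V} (h : Act ψ g γ) (hx : x ∈ D) (hx' : γ * x * γ⁻¹ ∈ D)
    (hf : fld x = 1) {n : ℕ} (h2 : x ^ 2 ^ n = 1) (e : g * ev ψ x = ev ψ x * g) : γ * x = x * γ := by
  refine mul_inv_eq_iff_eq_mul.1 (Emb.eq_two hψ hx' hx hf (n := n) (by rw [conj_pow, h2]; group) h2 ?_)
  rw [← h x hx, e, mul_inv_cancel_right]

theorem Act.comm_of {g : G} {γ x : SG F V} (h : Act ψ g γ) (hx : x ∈ D) (e : γ * x = x * γ) :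
    g * ev ψ x = ev ψ x * g := by
  have := h x hx
  rwa [e, mul_inv_cancel_right, mul_inv_eq_iff_eq_mul] at this

theorem Act.of_Sc (hD : D ≤ SL F V) {g : G} {γ s : SG F V} (h : Act ψ g γ) (hs : s ∈ Sc F V) : Act ψ g (γ * s) := by
  intro x hx
  rw [h x hx, show γ * s * x * (γ * s)⁻¹ = γ * (s * x * s⁻¹) * γ⁻¹ by group, Sc_conj hs (fld_SL (hD hx))]

theorem Act.pow {g : G} {γ : SG F V} (h : Act ψ g γ) (hγ : γ ∈ 𝐍[D]) (n : ℕ) : Act ψ (g ^ n) (γ ^ n) := by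
  induction n with
  | zero => rw [pow_zero, pow_zero]; exact act_one
  | succ n ih => rw [pow_succ, pow_succ]; exact ih.mul h fun _ hx => conj_mem_of_norm hγ hx

theorem Act.mul_inv_cent {g : G} {γ : SG F V} (h : Act ψ g γ) (hγ : γ ∈ D) : g * (ev ψ γ)⁻¹ ∈ 𝐂[ψ.range] := by
  have := h.mul ((act_ev hγ).inv fun x hx => mul_mem (mul_mem (inv_mem hγ) hx) hγ)
    fun x hx => mul_mem (mul_mem (inv_mem hγ) hx) (inv_mem (inv_mem hγ))
  rw [mul_inv_cancel] at this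
  exact act_one_iff.1 this

theorem Act.cent_mul {g k : G} {γ : SG F V} (h : Act ψ g γ) (hk : k ∈ 𝐂[ψ.range]) : Act ψ (k * g) γ := by
  intro x hx
  rw [show k * g * ev ψ x * (k * g)⁻¹ = k * (g * ev ψ x * g⁻¹) * k⁻¹ by group, h x hx,
    ← mem_cent.1 hk _ (ev_mem_range _), mul_inv_cancel_right]

theorem Sp.sc_of_act (h : Sp B q) (hψ : IsE ψ) (hD : SU B ≤ D) {g : G} {γ : SG F V} (hγ : γ ∈ 𝐍[D]) (ha : Act ψ g γ)
    (hc : g ∈ 𝐂[ψ.range]) : γ ∈ Sc F V := by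
  refine h.cen_SU fun v a hv hs => ?_
  have h1 := hD (h.tv_mem hv hs)
  exact ha.comm_two hψ h1 (conj_mem_of_norm hγ h1) rfl (n := 1) (by rw [pow_one, pow_two, h.tv_sq hv])
    (mem_cent.1 hc _ (ev_mem_range _)).symm

theorem Sp.act_uniq (h : Sp B q) (hψ : IsE ψ) (hD : SU B ≤ D) {g : G} {γ γ' : SG F V} (hγ : γ ∈ 𝐍[D])
    (hγ' : γ' ∈ 𝐍[D]) (ha : Act ψ g γ) (ha' : Act ψ g γ') : γ⁻¹ * γ' ∈ Sc F V := by
  have := (ha.inv fun _ hx => conj_mem_of_norm' hγ hx).mul ha' fun _ hx => conj_mem_of_norm hγ' hx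
  rw [inv_mul_cancel] at this
  exact h.sc_of_act hψ hD (mul_mem (inv_mem hγ) hγ') this (one_mem _)

theorem Sp.cen_range (h : Sp B q) (hψ : IsE ψ) (hD : SU B ≤ D) {g : G} (hg : g ∈ ψ.range) (hc : g ∈ 𝐂[ψ.range]) :
    ∃ s ∈ Sc F V ⊓ D, ev ψ s = g := by
  obtain ⟨x, hx, rfl⟩ := mem_range_iff.1 hg
  exact ⟨x, ⟨h.sc_of_act hψ hD (le_normalizer hx) (act_ev hx) hc, hx⟩, rfl⟩

theorem Sp.cen_odd (h : Sp B q) (hψ : IsE ψ) (hD : SU B ≤ D) {g : G} (hg : g ∈ ψ.range) (hc : g ∈ 𝐂[ψ.range]) :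
    Odd (orderOf g) := by
  obtain ⟨s, hs, rfl⟩ := h.cen_range hψ hD hg hc
  refine (Sc_odd hs.1).of_dvd_nat (orderOf_dvd_of_pow_eq_one ?_)
  rw [← ev_pow hs.2, pow_orderOf_eq_one, ev_one]

theorem Sp.not_ab (h : Sp B q) (hψ : IsE ψ) (hD : SU B ≤ D) : ¬ ψ.range ≤ 𝐂[ψ.range] := by
  intro hc
  obtain ⟨e, he⟩ := h.exists_iso
  have h1 := hD (h.tv_mem he.iso (map_one σ))
  have h2 := h.sc_of_act hψ hD (le_normalizer h1) (act_ev h1) (hc (ev_mem_range _))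
  exact one_ne_zero ((h.tv_eq_one he).1
    (Sc_two h2 (n := 1) (by rw [pow_one, pow_two, h.tv_sq he.iso])))

end Gen

namespace Sp

variable (h : Sp B q) {ψ : SU B →* G}
include h

theorem Gam_norm : Gam B ≤ 𝐍[SU B] := by
  exact fun g hg => mem_norm_of_cj_le (cj_le_iff.2 fun _ hx => conj_mem_SU hg hx)

theorem exists_act (hψ : IsE ψ) {g : G} (hg : g ∈ 𝐍[ψ.range]) : ∃ γ ∈ Gam B, Act ψ g γ := by
  obtain ⟨γ, hγ, e⟩ := h.aut hψ (hψ.cjh g) ((range_cjh g).trans (cj_of_norm hg))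
  exact ⟨γ, hγ, fun x hx => (ev_cjh g x).symm.trans (e x hx)⟩

theorem lift2 (hψ : IsE ψ) {P : Subgroup G} (hP : IsPGroup 2 P) (hle : P ≤ 𝐍[ψ.range]) :
    ∃ α : P →* SG F V, ∀ s, α s ∈ Gam B ∧ Act ψ s (α s) := by
  let Γ : Subgroup (SG F V) :=
    { carrier := {γ | γ ∈ Gam B ∧ ∃ s ∈ P, Act ψ s γ}
      one_mem' := ⟨one_mem _, 1, one_mem _, act_one⟩
      mul_mem' := fun ⟨h1, s, hs, a⟩ ⟨h2, s', hs', a'⟩ =>
        ⟨mul_mem h1 h2, _, mul_mem hs hs', a.mul a' fun _ hx => conj_mem_SU h2 hx⟩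
      inv_mem' := fun ⟨h1, s, hs, a⟩ => ⟨inv_mem h1, _, inv_mem hs, a.inv fun _ hx => conj_mem_SU' h1 hx⟩ }
  obtain ⟨R, hR⟩ := Syl.exists 2 Γ
  have h1 : Γ ≤ Sc F V ⊔ R := hR.sup_of_res_le (res_le_of_pow fun γ ⟨hγ, s, hs, a⟩ => by
    obtain ⟨k, hk⟩ := pg_iff.1 hP s hs
    exact ⟨k, h.sc_of_act hψ le_rfl (h.Gam_norm (pow_mem hγ _)) (a.pow (h.Gam_norm hγ) _)
      (hk ▸ one_mem _)⟩)
  have ex : ∀ s : P, ∃ γ ∈ R, Act ψ s γ := fun s => by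
    obtain ⟨γ, hγ, a⟩ := h.exists_act hψ (hle s.2)
    obtain ⟨r, hr, c, hc, e⟩ := (mem_sup_norm' (H := R) (N := Sc F V) le_normalizer_of_normal).1
      (sup_comm (Sc F V) R ▸ h1 ⟨hγ, s, s.2, a⟩)
    have := a.of_Sc SU_le_SL (inv_mem hc)
    rw [← e, mul_inv_cancel_right] at this
    exact ⟨r, hr, this⟩
  have un : ∀ {s : G} {γ γ'}, γ ∈ R → γ' ∈ R → Act ψ s γ → Act ψ s γ' → γ = γ' :=
    fun h2 h3 a a' => by
      obtain ⟨k, hk⟩ := pg_iff.1 hR.pg _ (mul_mem (inv_mem h2) h3)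
      exact inv_mul_eq_one.1 (Sc_two (h.act_uniq hψ le_rfl (h.Gam_norm (hR.le h2).1)
        (h.Gam_norm (hR.le h3).1) a a') hk)
  choose α h2 h3 using ex
  exact ⟨MonoidHom.mk' α fun s s' => un (h2 _) (mul_mem (h2 s) (h2 s')) (h3 _)
    ((h3 s).mul (h3 s') fun _ hx => conj_mem_SU (hR.le (h2 s')).1 hx),
    fun s => ⟨(hR.le (h2 s)).1, h3 s⟩⟩

theorem exists_act_inv (hψ : IsE ψ) {g : G} (hg : g ∈ 𝐍[ψ.range]) (g2 : g * g = 1) :
    ∃ γ ∈ Gam B, γ * γ = 1 ∧ Act ψ g γ := by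
  obtain ⟨α, hα⟩ := h.lift2 hψ (StdB.pg_zpowers g2) (zpowers_le.2 hg)
  refine ⟨α ⟨g, mem_zpowers g⟩, (hα _).1, ?_, (hα ⟨g, mem_zpowers g⟩).2⟩
  rw [← map_mul, ← map_one α]
  exact congrArg α (Subtype.ext g2)

theorem act_eq (hψ : IsE ψ) {g : G} {γ γ' : SG F V} (hγ : γ ∈ Gam B) (hγ' : γ' ∈ Gam B) (ha : Act ψ g γ)
    (ha' : Act ψ g γ') (hf : fld γ' = 1) {n m : ℕ} (h1 : γ ^ 2 ^ n = 1) (h2 : γ' ^ 2 ^ m = 1) : γ = γ' := by
  have h3 := inv_mem (h.act_uniq hψ le_rfl (h.Gam_norm hγ) (h.Gam_norm hγ') ha ha')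
  have h4 := h.eq_of_two h3 hf h2 (m := n) (by
    rw [Sc_comm h3 hf, mul_inv_rev, inv_inv, mul_inv_cancel_left, h1])
  exact inv_mul_eq_one.1 (inv_eq_one.1 h4)

theorem range_perf : ⁅ψ.range, ψ.range⁆ = ψ.range := by
  rw [← im_self, ← im_comm le_rfl le_rfl, h.SU_perfect]

theorem normal_range {N : Subgroup G} (hle : N ≤ ψ.range) (hn : ψ.range ≤ 𝐍[N]) : N ≤ 𝐂[ψ.range] ∨ N = ψ.range := by
  have key : ∀ x ∈ SU B, x ∈ (N.comap ψ).map (SU B).subtype ↔ ev ψ x ∈ N := fun x hx =>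
    ⟨fun ⟨y, hy, e⟩ => by rw [← e]; exact (ev_coe (f := ψ) y).symm ▸ hy,
      fun e => ⟨⟨x, hx⟩, by rwa [ev_of_mem hx] at e, rfl⟩⟩
  have hle' : (N.comap ψ).map (SU B).subtype ≤ SU B := map_subtype_le _
  refine (h.SU_normal hle' fun x hx => mem_norm_of_cj_le (cj_le_iff.2 fun y hy => ?_)).imp
    (fun e g hg => ?_) fun e => le_antisymm hle fun g hg => ?_
  · rw [key _ (conj_mem_of_norm (le_normalizer hx) (hle' hy)), ev_conj hx (hle' hy)]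
    exact conj_mem_of_norm (hn (ev_mem_range x)) ((key y (hle' hy)).1 hy)
  · obtain ⟨x, hx, rfl⟩ := mem_range_iff.1 (hle hg)
    refine mem_cent.2 fun g' hg' => ?_
    obtain ⟨y, hy, rfl⟩ := mem_range_iff.1 hg'
    exact ev_comm hy hx (Sc_comm (e ((key x hx).2 hg)) (fld_SU hy)).symm
  · obtain ⟨x, hx, rfl⟩ := mem_range_iff.1 hg
    exact (key x hx).1 (e.ge hx)

theorem range_eq_of_le {ψ' : SU B →* G} (hψ : IsE ψ) (hψ' : IsE ψ') (hle : ψ'.range ≤ ψ.range) : ψ'.range = ψ.range := by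
  have k : ∀ {f : SU B →* G}, IsE f → (𝐂[f.range]).comap f = (Sc F V).subgroupOf (SU B) := fun {f} hf => by
    ext x
    refine ⟨fun e => h.sc_of_act hf le_rfl (le_normalizer x.2) (act_ev x.2) ((ev_coe (f := f) x).symm ▸ e),
      fun e => mem_cent.2 ?_⟩
    rintro _ ⟨y, rfl⟩
    rw [← map_mul, ← map_mul]
    exact congrArg f (Subtype.ext (Sc_comm e (fld_SU y.2)).symm)
  have h1 : (𝐂[ψ.range]).relIndex ψ.range ≤ (𝐂[ψ.range]).relIndex ψ'.range := by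
    rw [← index_comap, ← index_comap, k hψ, ← k hψ']
    exact Nat.le_of_dvd (Nat.pos_of_ne_zero index_ne_zero_of_finite)
      (index_dvd_of_le (comap_mono (centralizer_le hle)))
  refine le_antisymm hle ?_
  rw [← h.range_perf (ψ := ψ)]
  refine commutator_le.2 fun x hx y hy => ?_
  obtain ⟨a, ha, h2⟩ := Emb.exists_of_relIndex hle h1 hx
  obtain ⟨b, hb, h3⟩ := Emb.exists_of_relIndex hle h1 hy
  have e : ⁅x, y⁆ = ⁅a, b⁆ := by
    have e1 := mem_cent.1 h2 y hy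
    have e2 := mem_cent.1 h3 a⁻¹ (inv_mem (hle ha))
    calc ⁅x, y⁆ = a * (a⁻¹ * x * y) * x⁻¹ * y⁻¹ := by rw [commutatorElement_def]; group
      _ = a * b * (b⁻¹ * y * a⁻¹) * y⁻¹ := by rw [← e1]; group
      _ = _ := by rw [← e2, commutatorElement_def]; group
  rw [e, commutatorElement_def]
  exact mul_mem (mul_mem (mul_mem ha hb) (inv_mem ha)) (inv_mem hb)

theorem isE_of_ne {f : SU B →* G} (hf : f.range ≠ ⊥) : IsE f := by
  have key : ∀ x ∈ SU B, x ∈ f.ker.map (SU B).subtype ↔ ev f x = 1 := fun x hx =>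
    ⟨fun ⟨y, hy, e⟩ => by rw [← e]; exact (ev_coe (f := f) y).trans hy,
      fun e => ⟨⟨x, hx⟩, by rwa [ev_of_mem hx] at e, rfl⟩⟩
  have hle' : f.ker.map (SU B).subtype ≤ SU B := map_subtype_le _
  rcases h.SU_normal hle' fun x hx => mem_norm_of_cj_le (cj_le_iff.2 fun y hy => by
    rw [key _ (conj_mem_of_norm (le_normalizer hx) (hle' hy)), ev_conj hx (hle' hy),
      (key y (hle' hy)).1 hy, mul_one, mul_inv_cancel]) with e | e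
  · exact fun x hx e' => e ((key x hx).2 e')
  · refine absurd ((eq_bot_iff_forall _).2 fun g hg => ?_) hf
    obtain ⟨x, hx, rfl⟩ := mem_range_iff.1 hg
    exact (key x hx).1 (e.ge hx)

theorem _root_.Cfsg.Agent.U52.Emb.le_Y (hψ : IsE ψ) {X : Subgroup G} (hX : X ≤ 𝐍[ψ.range]) :
    X ≤ Emb.Y ψ (le_refl (Gam B)) := fun _ hg => h.exists_act hψ (hX hg)

theorem act_der1 (hψ : IsE ψ) {X : Subgroup G} (hX : X ≤ 𝐍[ψ.range]) {x : G} (hx : x ∈ ⁅X, X⁆) :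
    ∃ γ ∈ Gam B, fld γ = 1 ∧ Act ψ x γ := by
  obtain ⟨γ, h1, h2⟩ := Emb.Y_comm le_rfl
    (commutator_mono (Emb.le_Y h hψ hX) (Emb.le_Y h hψ hX) hx)
  exact ⟨γ, comm_le_left le_normalizer h1, h.fld_der (commutator_mono le_top le_top h1), h2⟩

theorem act_der2 (hψ : IsE ψ) {X : Subgroup G} (hX : X ≤ 𝐍[ψ.range]) {x : G} (hx : x ∈ ⁅⁅X, X⁆, ⁅X, X⁆⁆) :
    ∃ γ ∈ SU B, Act ψ x γ := by
  have h0 := (commutator_mono (Emb.le_Y h hψ hX) (Emb.le_Y h hψ hX)).trans (Emb.Y_comm le_rfl)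
  obtain ⟨γ, h1, h2⟩ := Emb.Y_comm _ (commutator_mono h0 h0 hx)
  exact ⟨γ, h.Gam_der h1, h2⟩

theorem act_AW (hψ : IsE ψ) {g : G} {γ : SG F V} (hγ : γ ∈ Gam B) (ha : Act ψ g γ) (W : Submodule F V) :
    cj(g, im ψ (AW B W)) = im ψ (AW B (mapW γ W)) := by
  rw [Emb.cj_im ha (AW_le W), Emb.cj_fam (AW B) (fun _ _ _ => h.conj_mem_AW) hγ]

theorem act_FW (hψ : IsE ψ) {g : G} {γ : SG F V} (hγ : γ ∈ Gam B) (ha : Act ψ g γ) (W : Submodule F V) :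
    cj(g, im ψ (FW B W)) = im ψ (FW B (mapW γ W)) := by
  rw [Emb.cj_im ha (FW_le W), Emb.cj_fam (FW B) (fun _ _ _ => h.conj_mem_FW) hγ]

theorem act_M1 (hψ : IsE ψ) {g : G} {γ : SG F V} (hγ : γ ∈ Gam B) (ha : Act ψ g γ) (e : V) :
    cj(g, im ψ (M1 B e)) = im ψ (M1 B (γ • e)) := by
  rw [← FW_span, ← FW_span, h.act_FW hψ hγ ha, mapW_span]

theorem St_of_act (hψ : IsE ψ) {g : G} {γ : SG F V} (hγ : γ ∈ Gam B) (ha : Act ψ g γ) {W : Submodule F V}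
    (hW : TI B W) (hn : g ∈ 𝐍[im ψ (AW B W)]) : γ ∈ St W := by
  refine h.St_of_norm hW hγ (mem_norm_of_cj_le (cj_le_iff.2 fun a ha' => ?_))
  obtain ⟨b, hb, e⟩ := (mem_im' (AW_le W)).1 (conj_mem_of_norm hn (ev_mem_im ha'))
  rw [ha a ha'.1] at e
  rw [Emb.eq_two hψ (conj_mem_SU hγ ha'.1) hb.1 (fld_SU hb.1) (n := 1) (m := 1)
    (by rw [conj_pow, pow_one, pow_two, h.AW_sq hW ha']; group)
    (by rw [pow_one, pow_two, h.AW_sq hW hb]) e.symm]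
  exact hb

theorem relIndex_act (hψ : IsE ψ) {g : G} {γ : SG F V} (hγ : γ ∈ Gam B) (ha : Act ψ g γ) {W : Submodule F V}
    (hW : TI B W) : (C1 g).relIndex (im ψ (AW B W)) = (C1 γ).relIndex (AW B W) := by
  have h1 : (ψ.comp (inclusion (AW_le W))).range = im ψ (AW B W) := by
    rw [MonoidHom.range_comp, inclusion_range]; rfl
  rw [← h1, ← index_comap, relIndex]
  congr 1
  ext x
  have e : (ψ.comp (inclusion (AW_le W))) x = ev ψ x := (ev_of_mem x.2.1).symm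
  rw [mem_comap, e, mem_subgroupOf, mem_C1, mem_C1]
  exact ⟨fun e' => (ha.comm_two hψ x.2.1 (conj_mem_SU hγ x.2.1) (fld_SU x.2.1) (n := 1)
    (by rw [pow_one, pow_two, h.AW_sq hW x.2]) e'.symm).symm, fun e' => (ha.comm_of x.2.1 e'.symm).symm⟩

theorem cent_act (hψ : IsE ψ) {g : G} {γ : SG F V} (hγ : γ ∈ Gam B) (ha : Act ψ g γ) {P : Subgroup (SG F V)}
    (hP : IsPGroup 2 P) (hle : P ≤ SU B) : g ∈ 𝐂[im ψ P] ↔ γ ∈ 𝐂[P] := by
  rw [mem_cent_im hle, mem_cent]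
  refine forall₂_congr fun x hx => ⟨fun e => ?_, fun e => ha.comm_of (hle hx) e.symm⟩
  obtain ⟨k, hk⟩ := pg_iff.1 hP x hx
  exact (ha.comm_two hψ (hle hx) (conj_mem_SU hγ (hle hx)) (fld_SU (hle hx)) hk e).symm

end Sp

end Cfsg.Agent.U52
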