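import Mathlib
import Cfsg.Agent.U52.Cfg2
import Cfsg.Agent.U52.AWa
import Cfsg.Agent.U52.Flag

set_option autoImplicit false
set_option linter.unusedSectionVars false

namespace Cfsg.Agent.U52

open Cfsg Cfsg.Agent.Cl Cfsg.Agent.Loc.Mss Subgroup Module
open Cfsg.Agent.StdB (C1 mem_C1 El)
open scoped commutatorElement

theorem JL_rel {Γ X Y : Type*} [Group Γ] [Finite Y] (K H : Subgroup Γ) (φ : Γ → X) (g : Y → X)
    (hS : ∀ a ∈ H, ∃ y, g y = φ a) (hφ : ∀ a ∈ H, ∀ b ∈ H, φ a = φ b → a⁻¹ * b ∈ K) :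
    K.relIndex H ≤ Nat.card Y := by
  choose s hs using hS
  refine Nat.card_le_card_of_injective (fun x : H ⧸ K.subgroupOf H => s x.out x.out.2) fun x y e => ?_
  rw [← x.out_eq', ← y.out_eq', QuotientGroup.eq]
  exact hφ _ x.out.2 _ y.out.2 (by rw [← hs _ x.out.2, ← hs _ y.out.2]; exact congrArg g e)

theorem JL_card {Γ : Type*} [Group Γ] (K H : Subgroup Γ) :
    Nat.card (K ⊓ H : Subgroup Γ) * K.relIndex H = Nat.card H := by
  rw [← card_mul_index (K.subgroupOf H), relIndex, ← inf_subgroupOf_right,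
    Nat.card_congr (subgroupOfEquivOfLe (inf_le_right : K ⊓ H ≤ H)).toEquiv]

variable {F : Type*} [Field F] [Finite F] [CharP F 2] {σ : F →+* F} {V : Type*} [AddCommGroup V] [Module F V]
  [Finite V] {B : V →ₗ[F] V →ₛₗ[σ] F} {q : ℕ} {G : Type*} [Group G] [Finite G]

namespace Sp

variable (h : Sp B q)
include h

theorem JL_cardW (W : Submodule F V) : Nat.card W = q ^ (2 * finrank F W) := by
  rw [Module.natCard_eq_pow_finrank (K := F), h.uf.card, pow_mul]

/-- The key relation between `a ∈ A_W` and a commuting transvection `b` on `W`. -/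
theorem JL_key {W : Submodule F V} (hW : TI B W) {f c : V} {a b : SG F V} (ha : a ∈ AW B W) (hb : b ∈ SU B)
    (hc : ∀ w ∈ W, b • w = w + B w f • c) (hc' : ∀ w ∈ W, b⁻¹ • w = w + B w f • c) (c0 : c ≠ 0)
    (e : a * b = b * a) : ∃ l : F, σ l = l ∧ a • f - f = l • c := by
  obtain ⟨v0, hv0⟩ := h.herm.exists_ne_zero c0
  have hv0' : B v0 c ≠ 0 := fun e => hv0 (h.zero_symm e)
  obtain ⟨v, hv⟩ : ∃ v, B v c = 1 := ⟨(B v0 c)⁻¹ • v0, by simp [hv0']⟩
  have h1 : b • v - (v + f) ∈ uPerp B W := fun w hw => by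
    rw [map_sub, Gam_right (SU_le_Gam hb), fld_SU hb, hc' w hw]
    simp [h.herm.eq_one_symm hv]
  have h2 := h.AW_fix ha h1
  have h3 := hc _ ((mem_AW.1 ha).2 v)
  have h4 : a • b • v = b • a • v := by rw [← mul_smul, e, mul_smul]
  have h5 : a • f - f = B (a • v - v) f • c := by
    rw [smul_sub, smul_add, h4] at h2
    rw [smul_sub] at h3
    linear_combination (norm := abel) h3 - h2
  have h6 : B (a • v - v) f = B v (a • f - f) := by
    have : a⁻¹ = a := inv_eq_of_mul_eq_one_right (h.AW_sq hW ha)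
    rw [map_sub, map_sub, LinearMap.sub_apply, SU_left ha.1, this]
  refine ⟨_, ?_, h5⟩
  conv_rhs => rw [h6, h5]
  simp [hv]

theorem JL_step {W : Submodule F V} (hW : TI B W) {P : Subgroup (SG F V)} (hle : P ≤ PW B W) {f : V}
    (hfW : f ∉ uPerp B W) (hP : ∀ g ∈ P, g • f - f ∈ uPerp B W) :
    ∃ W' ≤ W, finrank F W' + 1 = finrank F W ∧ P ≤ PW B W' ∧ ∃ m n : ℕ,
      Nat.card (AW B W ⊓ 𝐂[P] : Subgroup _) = Nat.card (AW B W' ⊓ 𝐂[P] : Subgroup _) * m ∧
      (Fix F (W : Set V)).relIndex P = n * (Fix F (W' : Set V)).relIndex P ∧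
      m * n ≤ q ^ (2 * finrank F W' + 1) ∧
      (P ≤ Fix F (W' : Set V) → ¬ P ≤ Fix F (W : Set V) → m * n ≤ q ^ (2 * finrank F W')) := by
  classical
  set W' : Submodule F V := W ⊓ LinearMap.ker (B.flip f) with hW'
  have mW' : ∀ {x}, x ∈ W' ↔ x ∈ W ∧ B x f = 0 := Iff.rfl
  obtain ⟨u, huW, hu⟩ : ∃ u ∈ W, B u f = 1 := by
    rw [mem_uPerp] at hfW
    push Not at hfW
    obtain ⟨u, h1, h2⟩ := hfW
    exact ⟨(B u f)⁻¹ • u, W.smul_mem _ h1, by simp [h2]⟩
  have hdec : ∀ w ∈ W, w - B w f • u ∈ W' := fun w hw =>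
    mW'.2 ⟨sub_mem hw (W.smul_mem _ huW), by simp [hu]⟩
  have hdim : finrank F W' + 1 = finrank F W := by
    rw [← Submodule.finrank_sup_span_singleton (v := u) (fun e => by simpa [hu] using (mW'.1 e).2)]
    congr 2
    all_goals
      refine le_antisymm (sup_le inf_le_left ((Submodule.span_singleton_le_iff_mem _ _).2 huW)) fun w hw => ?_
      rw [← sub_add_cancel w (B w f • u)]
      exact add_mem (Submodule.mem_sup_left (hdec w hw))
        (Submodule.mem_sup_right (Submodule.smul_mem _ _ (Submodule.mem_span_singleton_self u)))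
  have hinv : ∀ g ∈ P, ∀ w ∈ W, B (g • w) f = B w f := fun g hg w hw => by
    have := hP _ (inv_mem hg) w hw
    rw [map_sub, sub_eq_zero] at this
    rw [SU_left (hle hg).1, this]
  have hPW : P ≤ PW B W' := fun g hg => ⟨(hle hg).1, mem_St_of fun x hx =>
    mW'.2 ⟨St.mem (hle hg).2 hx.1, (hinv g hg x hx.1).trans hx.2⟩⟩
  have hfix : Fix F (W : Set V) ≤ Fix F (W' : Set V) := fun g hg x hx => hg x hx.1
  -- the action of `P ⊓ Fix W'` on `W`
  have hact : ∀ b ∈ Fix F (W' : Set V) ⊓ P, ∀ w ∈ W, b • w = w + B w f • (b • u - u) := fun b hb w hw => by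
    have := hb.1 _ (hdec w hw)
    rw [smul_sub, smul_sm_of (fld_SU (hle hb.2).1)] at this
    rw [smul_sub]
    linear_combination (norm := abel) this
  have hcW : ∀ b ∈ P, b • u - u ∈ W' := fun b hb =>
    mW'.2 ⟨sub_mem (St.mem (hle hb).2 huW) huW, by simp [hinv b hb u huW]⟩
  have hact' : ∀ b ∈ Fix F (W' : Set V) ⊓ P, ∀ w ∈ W, b⁻¹ • w = w + B w f • (b • u - u) := fun b hb w hw => by
    rw [inv_smul_eq_iff, smul_add, smul_sm_of (fld_SU (hle hb.2).1), hb.1 _ (hcW b hb.2), hact b hb w hw,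
      add_assoc, vadd_self (F := F), add_zero]
  have hkc : ∀ a ∈ Fix F (W' : Set V) ⊓ P, ∀ b ∈ Fix F (W' : Set V) ⊓ P, a • u - u = b • u - u →
      a⁻¹ * b ∈ Fix F (W : Set V) := fun a ha b hb e w hw => by
    rw [mul_smul, inv_smul_eq_iff, hact a ha w hw, hact b hb w hw, e]
  have hky : ∀ a ∈ AW B W ⊓ 𝐂[P], ∀ b ∈ AW B W ⊓ 𝐂[P], a • f - f = b • f - f → a⁻¹ * b ∈ AW B W' :=
    fun a ha b hb e => by
      have h1 : a⁻¹ * b ∈ AW B W := mul_mem (inv_mem ha.1) hb.1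
      have h2 : (a⁻¹ * b) • f = f := by rw [mul_smul, inv_smul_eq_iff, sub_left_injective e]
      refine mem_AW.2 ⟨h1.1, fun x => mW'.2 ⟨(mem_AW.1 h1).2 x, ?_⟩⟩
      rw [map_sub, LinearMap.sub_apply, ← h2, SU_map h1.1, h2, sub_self]
  have hkey : ∀ a ∈ AW B W ⊓ 𝐂[P], ∀ b ∈ Fix F (W' : Set V) ⊓ P, b • u - u ≠ 0 →
      ∃ l : F, σ l = l ∧ a • f - f = l • (b • u - u) := fun a ha b hb c0 =>
    h.JL_key hW ha.1 (hle hb.2).1 (hact b hb) (hact' b hb) c0 (mem_cent.1 ha.2 b hb.2).symm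
  have hq : 1 ≤ q := le_trans one_le_two h.uf.two_le
  have hm1 : (AW B W').relIndex (AW B W ⊓ 𝐂[P]) ≤ q ^ (2 * finrank F W' + 1) := by
    rw [pow_succ, ← h.JL_cardW, ← h.uf.card_fixed, ← Nat.card_prod]
    refine JL_rel _ _ (fun a => a • f - f) (fun y : W' × {a : F // σ a = a} => y.1.1 + y.2.1 • u)
      (fun a ha => ?_) hky
    have h1 := (mem_AW.1 ha.1).2 f
    refine ⟨(⟨_, hdec _ h1⟩, ⟨B (a • f - f) f, ?_⟩), sub_add_cancel _ _⟩
    have : a⁻¹ = a := inv_eq_of_mul_eq_one_right (h.AW_sq hW ha.1)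
    rw [h.symm, map_sub, map_sub, LinearMap.sub_apply, SU_left ha.1.1, this]
  have hA : (∃ b ∈ Fix F (W' : Set V) ⊓ P, b • u - u ≠ 0) →
      (AW B W').relIndex (AW B W ⊓ 𝐂[P]) * (Fix F (W : Set V)).relIndex (Fix F (W' : Set V) ⊓ P) ≤
        q ^ (2 * finrank F W') := by
    rintro ⟨b0, hb0, c0⟩
    by_cases hy : ∀ a ∈ AW B W ⊓ 𝐂[P], a • f - f = 0
    · rw [relIndex_eq_one.2 fun a ha => by simpa using hky 1 (one_mem _) a ha (by rw [hy a ha]; simp), one_mul,
        ← h.JL_cardW]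
      exact JL_rel _ _ (fun b => b • u - u) (fun y : W' => y.1) (fun b hb => ⟨⟨_, hcW b hb.2⟩, rfl⟩) hkc
    · push Not at hy
      obtain ⟨a0, ha0, y0⟩ := hy
      have h1 : (AW B W').relIndex (AW B W ⊓ 𝐂[P]) ≤ q := by
        rw [← h.uf.card_fixed]
        refine JL_rel _ _ (fun a => a • f - f) (fun y : {a : F // σ a = a} => y.1 • (b0 • u - u))
          (fun a ha => ?_) hky
        obtain ⟨l, hl, e⟩ := hkey a ha b0 hb0 c0
        exact ⟨⟨l, hl⟩, e.symm⟩
      have h2 : (Fix F (W : Set V)).relIndex (Fix F (W' : Set V) ⊓ P) ≤ q := by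
        rw [← h.uf.card_fixed]
        refine JL_rel _ _ (fun b => b • u - u) (fun y : {a : F // σ a = a} => y.1 • (a0 • f - f))
          (fun b hb => ?_) hkc
        by_cases c1 : b • u - u = 0
        · exact ⟨⟨0, map_zero σ⟩, by simp [c1]⟩
        obtain ⟨l, hl, e⟩ := hkey a0 ha0 b hb c1
        have l0 : l ≠ 0 := by rintro rfl; exact y0 (by rw [e, zero_smul])
        exact ⟨⟨l⁻¹, by rw [map_inv₀, hl]⟩, by simp only [e, smul_smul, inv_mul_cancel₀ l0, one_smul]⟩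
      have h3 : 1 ≤ finrank F W' := Submodule.one_le_finrank_iff.2 fun e => c0 (by
        simpa [e] using hcW b0 hb0.2)
      calc _ ≤ q * q := Nat.mul_le_mul h1 h2
        _ = q ^ 2 := (sq q).symm
        _ ≤ _ := Nat.pow_le_pow_right hq (by omega)
  refine ⟨W', inf_le_left, hdim, hPW, (AW B W').relIndex (AW B W ⊓ 𝐂[P]),
    (Fix F (W : Set V)).relIndex (Fix F (W' : Set V) ⊓ P), ?_, ?_, ?_, fun h1 h2 => hA ?_⟩
  · rw [← JL_card (AW B W'), ← inf_assoc, inf_eq_left.2 (AW_mono inf_le_left)]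
  · rw [relIndex_inf_mul_relIndex, inf_eq_left.2 hfix]
  · by_cases hc : ∃ b ∈ Fix F (W' : Set V) ⊓ P, b • u - u ≠ 0
    · exact (hA hc).trans (Nat.pow_le_pow_right hq (by omega))
    · push Not at hc
      rw [relIndex_eq_one.2 (show Fix F (W' : Set V) ⊓ P ≤ _ from fun b hb => by
        simpa using hkc 1 (one_mem _) b hb (by rw [hc b hb]; simp)), mul_one]
      exact hm1
  · by_contra hc
    push Not at hc
    exact h2 fun b hb => by simpa using hkc 1 (one_mem _) b ⟨h1 hb, hb⟩ (by rw [hc b ⟨h1 hb, hb⟩]; simp)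

theorem JL {W : Submodule F V} (hW : TI B W) {P : Subgroup (SG F V)} (hP : IsPGroup 2 P) (hle : P ≤ PW B W) :
    Nat.card (AW B W ⊓ 𝐂[P] : Subgroup _) * (Fix F (W : Set V)).relIndex P ≤ q ^ (finrank F W ^ 2) ∧
      (¬ P ≤ Fix F (W : Set V) →
        q * (Nat.card (AW B W ⊓ 𝐂[P] : Subgroup _) * (Fix F (W : Set V)).relIndex P) ≤ q ^ (finrank F W ^ 2)) := by
  induction hd : finrank F W generalizing W with
  | zero =>
    obtain rfl := Submodule.finrank_eq_zero.1 hd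
    have h1 : P ≤ Fix F ((⊥ : Submodule F V) : Set V) := fun g _ x hx => by
      obtain rfl : x = 0 := hx
      exact smul_zero g
    refine ⟨?_, fun e => absurd h1 e⟩
    rw [relIndex_eq_one.2 h1, mul_one]
    have := card_le_of_le (inf_le_left : AW B ⊥ ⊓ 𝐂[P] ≤ AW B ⊥)
    rwa [h.card_AW hW, hd] at this
  | succ d ih =>
    obtain ⟨f, -, hfW, hg⟩ := h.exists_hyp hP (fun g hg => SU_le_Gam (hle hg).1) hW
      (by rintro rfl; simp at hd) fun g hg => (hle hg).2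
    obtain ⟨W', hW', hdim, hle', m, n, e1, e2, h1, h2⟩ := h.JL_step hW hle hfW hg
    obtain ⟨i1, i2⟩ := ih (hW.mono hW') hle' (by omega)
    obtain rfl : finrank F W' = d := by omega
    rw [e1, e2, mul_comm n, mul_mul_mul_comm,
      show (finrank F W' + 1) ^ 2 = finrank F W' ^ 2 + (2 * finrank F W' + 1) by ring, pow_add]
    refine ⟨Nat.mul_le_mul i1 h1, fun hn => ?_⟩
    by_cases hc : P ≤ Fix F (W' : Set V)
    · rw [mul_left_comm, pow_succ' q]
      exact Nat.mul_le_mul i1 (Nat.mul_le_mul_left _ (h2 hc hn))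
    · rw [← mul_assoc]
      exact Nat.mul_le_mul (i2 hc) h1

end Sp

end Cfsg.Agent.U52
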