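import Mathlib
import Cfsg.Agent.U52.Cfg3
import Cfsg.Agent.U52.Emb
import Cfsg.Agent.U52.AWb
import Cfsg.Agent.U52.JJ
import Cfsg.Agent.GT.PiGroups

set_option autoImplicit false
set_option linter.unusedSectionVars false

namespace Cfsg.Agent.U52

open Cfsg Cfsg.Agent.Cl Cfsg.Agent.Loc.Mss Subgroup Module
open Cfsg.Agent.StdB (C1 mem_C1 El)
open scoped commutatorElement

variable {F : Type*} [Field F] [Finite F] [CharP F 2] {σ : F →+* F} {V : Type*} [AddCommGroup V] [Module F V]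
  [Finite V] {B : V →ₗ[F] V →ₛₗ[σ] F} {q : ℕ} {G : Type*} [Group G] [Finite G]

theorem CB_sq {A : Type*} [Group A] {g x : A} (g2 : g * g = 1) (x2 : x * x = 1)
    (e : x * (g * x⁻¹) = g * x⁻¹ * x) : g * x⁻¹ * (g * x⁻¹) = 1 := by
  rw [inv_eq_of_mul_eq_one_right x2] at e ⊢
  rw [mul_assoc g x, e, mul_assoc g x, x2, mul_one, g2]

theorem CB_comm {A : Type*} [Group A] {L Y : Subgroup A} (h : Y ≤ 𝐍[L]) : ⁅L ⊔ Y, L ⊔ Y⁆ ≤ L ⊔ ⁅Y, Y⁆ := by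
  have h1 : L ≤ 𝐍[L ⊔ ⁅Y, Y⁆] := norm_of_le le_sup_left
  have h2 : Y ≤ 𝐍[L ⊔ ⁅Y, Y⁆] := norm_sup h (norm_comm (norm_of_le le_rfl) (norm_of_le le_rfl))
  exact sup_comm_le h1 h2 ((comm_le_left (sup_le (norm_of_le le_rfl) h)).trans le_sup_left)
    (comm_sup_le h1 h2 ((comm_le_right h).trans le_sup_left) le_sup_right)

namespace Cfg

variable (c : Cfg B q G)

theorem CB_cent_t : c.C ≤ 𝐂[zpowers c.t] := fun g hg => mem_cent.2 fun a ha => by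
  rcases (StdB.mem_zpowers_two c.t2).1 ha with rfl | rfl
  · simp
  · exact (mem_C1.1 hg).symm

theorem CB_mul {x y : SG F V} (hx : x ∈ SU B) (hy : y ∈ SU B) : c.Ψ (x * y) = c.Ψ x * c.Ψ y := ev_mul hx hy

theorem CB_two {x : SG F V} (hx : x * x = 1) : c.Ψ x * c.Ψ x = 1 := by
  by_cases h : x ∈ SU B
  · rw [← c.CB_mul h h, hx]; exact ev_one
  · rw [Ψ, ev, dif_neg h, mul_one]

theorem t_notMem : c.t ∉ c.L :=
  fun h => by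
  have := c.sp.cen_odd c.ker le_rfl h c.cen
  rw [StdB.orderOf_eq_two c.t2 c.t1] at this
  exact absurd this (by decide)

theorem inv_K0 {g : G} (hg : g ∈ c.K0) (g2 : g * g = 1) : g = 1 ∨ g = c.t := by
  by_contra hn
  push Not at hn
  have hP : zpowers g ≤ c.K0 := zpowers_le.2 hg
  have h1 := c.cyc (zpowers g ⊔ zpowers c.t) (pg_sup (StdB.pg_zpowers g2) (StdB.pg_zpowers c.t2)
    (norm_of_cent ((hP.trans inf_le_left).trans c.CB_cent_t))) (sup_le hP (zpowers_le.2 c.t_mem_K0))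
  exact hn.2 (HxD.Cy.inv_eq h1 (mem_sup_left (mem_zpowers _)) (mem_sup_right (mem_zpowers _)) g2 c.t2 hn.1 c.t1)

theorem K0_dec (h2 : c.Two) {g : G} (hg : g ∈ c.K0) : ∃ o ∈ c.K0, Odd (orderOf o) ∧ (g = o ∨ g = o * c.t) := by
  obtain ⟨k, m, hm, e⟩ := Nat.exists_eq_two_pow_mul_odd (orderOf_pos g).ne'
  have hu := h2 (g ^ m) (pow_mem hg m) ⟨k, by rw [← pow_mul, mul_comm, ← e, pow_orderOf_eq_one]⟩
  rcases hu with hu | hu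
  · exact ⟨g, hg, hm.of_dvd_nat (orderOf_dvd_of_pow_eq_one hu), Or.inl rfl⟩
  · refine ⟨g * c.t, mul_mem hg c.t_mem_K0, hm.of_dvd_nat (orderOf_dvd_of_pow_eq_one ?_), Or.inr ?_⟩
    · rw [Commute.mul_pow (mem_C1.1 hg.1), hu]
      obtain ⟨j, rfl⟩ := hm
      rw [pow_succ, pow_mul, sq, c.t2, one_pow, one_mul, c.t2]
    · rw [mul_assoc, c.t2, mul_one]

theorem act {g : G} (hg : g ∈ c.C) : ∃ γ ∈ Gam B, Act c.ψ g γ :=
  c.sp.exists_act c.ker (c.nrm hg)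

theorem norm_K0 : c.C ≤ 𝐍[c.K0] :=
  norm_inf (norm_of_le le_rfl) (norm_cent c.nrm)

theorem mem_K0 {g : G} {γ : SG F V} (hg : g ∈ c.C) (ha : Act c.ψ g γ) (hγ : γ ∈ SU B) : g * (c.Ψ γ)⁻¹ ∈ c.K0 :=
  mem_inf.2 ⟨mul_mem hg (inv_mem (c.L_le_C (c.Ψ_mem γ))), ha.mul_inv_cent hγ⟩

theorem CB_inv {g : G} {a : SG F V} (hg : g ∈ c.C) (g2 : g * g = 1) (ha : a ∈ SU B) (a2 : a * a = 1)
    (h : Act c.ψ g a) : g = c.Ψ a ∨ g = c.t * c.Ψ a := by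
  have hk := c.mem_K0 hg h ha
  exact (c.inv_K0 hk (CB_sq g2 (c.CB_two a2) (mem_cent.1 hk.2 _ (c.Ψ_mem a)))).imp mul_inv_eq_one.1
    mul_inv_eq_iff_eq_mul.1

theorem CB_sc {g : G} {s a : SG F V} (hg : g ∈ c.C) (hs : s ∈ Sc F V) (ha : a ∈ SU B) (h : Act c.ψ g (s * a)) :
    g * (c.Ψ a)⁻¹ ∈ c.K0 := by
  have := h.of_Sc SU_le_SL (inv_mem hs)
  rw [Sc_conj hs (fld_SU ha)] at this
  exact c.mem_K0 hg this ha

theorem inv_lin {g : G} {γ : SG F V} (hg : g ∈ c.C) (g2 : g * g = 1) (hγ : γ ∈ Gam B) (ha : Act c.ψ g γ)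
    (hf : fld γ = 1) : ∃ a ∈ SU B, a * a = 1 ∧ (g = c.Ψ a ∨ g = c.t * c.Ψ a) := by
  obtain ⟨a, ha1, a2, ha2⟩ := c.sp.exists_act_inv c.ker (c.nrm hg) g2
  have h1 := fld_Sc (c.sp.act_uniq c.ker le_rfl (c.sp.Gam_norm hγ) (c.sp.Gam_norm ha1) ha ha2)
  rw [map_mul, map_inv, hf, inv_one, one_mul] at h1
  have h2 := c.sp.JJ_SU ha1 a2 h1
  exact ⟨a, h2, a2, c.CB_inv hg g2 h2 a2 ha2⟩

theorem perf_le {X : Subgroup G} (hX : X ≤ c.C) (hp : ⁅X, X⁆ = X) : X ≤ c.L := by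
  have h0 : X ≤ c.L ⊔ c.K0 := fun x hx => by
    obtain ⟨γ, h1, h2⟩ := c.sp.act_der2 c.ker (hX.trans c.nrm) (x := x) (by rwa [hp, hp])
    rw [← inv_mul_cancel_right x (c.Ψ γ)]
    exact mul_mem (mem_sup_right (c.mem_K0 (hX hx) h2 h1)) (mem_sup_left (c.Ψ_mem γ))
  obtain ⟨Y, ⟨h1, h2⟩, hmin⟩ :=
    (wellFounded_lt (α := Subgroup G)).has_min {Y | Y ≤ c.K0 ∧ X ≤ c.L ⊔ Y} ⟨c.K0, le_rfl, h0⟩
  have h3 : ⁅Y, Y⁆ ≤ Y := comm_le_left (norm_of_le le_rfl)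
  have h4 : ⁅Y, Y⁆ = Y := by
    refine eq_of_le_of_not_lt h3 (hmin _ ⟨h3.trans h1, ?_⟩)
    rw [← hp]
    exact (commutator_mono h2 h2).trans (CB_comm (norm_of_cent (h1.trans inf_le_right)))
  obtain ⟨R, hR⟩ := Syl.exists 2 c.K0
  rwa [HxD.Cy.perfect_eq_bot hR (c.cyc R hR.pg hR.le) h1 h4, sup_bot_eq] at h2

theorem mem_E {W : Submodule F V} {g : G} : g ∈ c.E W ↔ ∃ a ∈ AW B W, g = c.Ψ a ∨ g = c.t * c.Ψ a := by
  rw [E, mem_sup_norm' (norm_of_cent (((im_le_range _).trans c.L_le_C).trans c.CB_cent_t))]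
  constructor
  · rintro ⟨x, hx, n, hn, rfl⟩
    obtain ⟨a, ha, rfl⟩ := (mem_im' (AW_le W)).1 hx
    refine ⟨a, ha, ?_⟩
    rcases (StdB.mem_zpowers_two c.t2).1 hn with rfl | rfl
    · exact Or.inl (mul_one _)
    · exact Or.inr (c.comm_t (c.Ψ_mem a))
  · rintro ⟨a, ha, rfl | rfl⟩
    · exact ⟨_, ev_mem_im ha, 1, one_mem _, mul_one _⟩
    · exact ⟨_, ev_mem_im ha, c.t, mem_zpowers _, c.comm_t (c.Ψ_mem a)⟩

theorem E_le (W : Submodule F V) : c.E W ≤ c.C :=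
  sup_le ((im_le_range _).trans c.L_le_C) (zpowers_le.2 (mem_C1.2 rfl))

theorem t_mem_E (W : Submodule F V) : c.t ∈ c.E W :=
  mem_sup_right (mem_zpowers _)

theorem E_el {W : Submodule F V} (hW : TI B W) : El (c.E W) :=
  fun g hg => by
  obtain ⟨a, ha, rfl | rfl⟩ := c.mem_E.1 hg
  · exact c.CB_two (c.sp.AW_sq hW ha)
  · rw [mul_assoc, ← mul_assoc (c.Ψ a), c.comm_t (c.Ψ_mem a), mul_assoc, c.CB_two (c.sp.AW_sq hW ha), mul_one, c.t2]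

theorem E_inf (W : Submodule F V) : c.E W ⊓ c.L = c.I (AW B W) := by
  refine le_antisymm (fun g hg => ?_) (le_inf le_sup_left (im_le_range _))
  obtain ⟨a, ha, rfl | rfl⟩ := c.mem_E.1 hg.1
  · exact ev_mem_im ha
  · exact absurd ((mul_mem_cancel_right (c.Ψ_mem a)).1 hg.2) c.t_notMem

theorem card_E {W : Submodule F V} (hW : TI B W) : Nat.card (c.E W) = 2 * q ^ (finrank F W ^ 2) := by
  rw [E, GT.card_sup_of_inf_eq_bot (norm_of_cent (((im_le_range _).trans c.L_le_C).trans c.CB_cent_t)),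
    c.ker.card_im (JJ_pg (c.sp.AW_el hW)) (AW_le W), c.sp.card_AW hW, Nat.card_zpowers,
    StdB.orderOf_eq_two c.t2 c.t1, mul_comm]
  refine eq_bot_iff.2 fun g hg => ?_
  rcases (StdB.mem_zpowers_two c.t2).1 hg.2 with e | e
  · exact e
  · exact absurd (e ▸ im_le_range _ hg.1) c.t_notMem

theorem cj_E {g : G} {γ : SG F V} (hg : g ∈ c.C) (hγ : γ ∈ Gam B) (ha : Act c.ψ g γ) (W : Submodule F V) :
    cj(g, c.E W) = c.E (mapW γ W) := by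
  rw [E, E, cj_sup, c.sp.act_AW c.ker hγ ha, cj_of_cent (c.CB_cent_t hg)]

theorem CB_lift {E : Subgroup G} (hE : El E) (hle : E ≤ c.C) :
    ∃ α : E →* SG F V, (∀ s : E, Act c.ψ s (α s)) ∧ El α.range ∧ α.range ≤ Gam B ∧
      Nat.card E ≤ 2 * Nat.card α.range := by
  obtain ⟨α, hα⟩ := c.sp.lift2 c.ker (JJ_pg hE) (hle.trans c.nrm)
  refine ⟨α, fun s => (hα s).2, ?_, ?_, ?_⟩
  · rintro _ ⟨s, rfl⟩
    rw [← map_mul, show s * s = 1 from Subtype.ext (hE s s.2), map_one]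
  · rintro _ ⟨s, rfl⟩
    exact (hα s).1
  · rw [← card_mul_index α.ker, index_ker, ← StdB.orderOf_eq_two c.t2 c.t1, ← Nat.card_zpowers]
    refine Nat.mul_le_mul_right _ (Nat.card_le_card_of_injective
      (fun s : α.ker => (⟨s.1.1, (StdB.mem_zpowers_two c.t2).2 (c.inv_K0 ⟨hle s.1.2, act_one_iff.1 ?_⟩
        (hE _ s.1.2))⟩ : zpowers c.t)) fun s s' e => Subtype.ext (Subtype.ext (Subtype.mk.inj e)))
    have := (hα s.1).2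
    rwa [show α s.1 = 1 from s.2] at this

theorem el_le {E : Subgroup G} (hE : El E) (hle : E ≤ c.C) : Nat.card E ≤ 2 * q ^ ((finrank F V / 2) ^ 2) := by
  obtain ⟨α, -, h1, h2, h3⟩ := c.CB_lift hE hle
  exact h3.trans (Nat.mul_le_mul_left _ (c.sp.el_le h1 h2))

theorem el_le' {E : Subgroup G} (hE : El E) {g : G} (hle : E ≤ C1 (g * c.t * g⁻¹)) :
    Nat.card E ≤ 2 * q ^ ((finrank F V / 2) ^ 2) :=
  (c.conj g).el_le hE hle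

theorem el_eq {E : Subgroup G} (hE : El E) (hle : E ≤ c.C)
    (hl : ∀ g ∈ E, ∀ γ ∈ Gam B, γ * γ = 1 → Act c.ψ g γ → fld γ = 1)
    (hc : 2 * q ^ ((finrank F V / 2) ^ 2) ≤ Nat.card E) : ∃ W, MaxTI B W ∧ E = c.E W := by
  obtain ⟨α, h0, h1, h2, h3⟩ := c.CB_lift hE hle
  obtain ⟨W, hW, e⟩ := c.sp.el_eq h1 h2 (by
    rintro _ ⟨s, rfl⟩
    exact hl s s.2 _ (h2 ⟨s, rfl⟩) (h1 _ ⟨s, rfl⟩) (h0 s)) (Nat.le_of_mul_le_mul_left (hc.trans h3) two_pos)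
  refine ⟨W, hW, eq_of_le_of_card_ge (fun g hg => ?_) (by rwa [c.card_E hW.ti, hW.dim])⟩
  have ha : α ⟨g, hg⟩ ∈ AW B W := e ▸ ⟨_, rfl⟩
  exact c.mem_E.2 ⟨_, ha, c.CB_inv (hle hg) (hE g hg) (AW_le W ha) (c.sp.AW_sq hW.ti ha) (h0 ⟨g, hg⟩)⟩

theorem mem_PX {X : Submodule F V} (hX : TI B X) {y : G} :
    y ∈ c.PX X ↔ y ∈ 𝐂[c.I (FW B X)] ∧ ∃ a ∈ AW B X, y * c.t * y⁻¹ = c.t * c.Ψ a := by
  have key : y ∈ 𝐂[c.I (FW B X)] → ∀ a ∈ AW B X, y * c.Ψ a * y⁻¹ = c.Ψ a := fun h a ha => by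
    rw [← mem_cent.1 h _ (ev_mem_im (RW_le_FW X (c.sp.AW_le_RW hX ha))), mul_inv_cancel_right]
  refine and_congr_right fun h => ⟨fun hn => ?_, fun ⟨a, ha, e⟩ => mem_norm_of_cj_le (cj_le_iff.2 fun g hg => ?_)⟩
  · obtain ⟨a, ha, e | e⟩ := c.mem_E.1 (conj_mem_of_norm hn (c.t_mem_E X))
    · rw [← key h a ha, mul_left_inj, mul_right_inj] at e
      exact absurd (e ▸ c.Ψ_mem a) c.t_notMem
    · exact ⟨a, ha, e⟩
  · obtain ⟨b, hb, rfl | rfl⟩ := c.mem_E.1 hg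
    · rwa [key h b hb]
    · rw [← conj_mul, key h b hb, e]
      exact mul_mem (c.mem_E.2 ⟨a, ha, Or.inr rfl⟩) (c.mem_E.2 ⟨b, hb, Or.inl rfl⟩)

theorem cj_PX {g : G} {γ : SG F V} (hg : g ∈ c.C) (hγ : γ ∈ Gam B) (ha : Act c.ψ g γ) (X : Submodule F V) :
    cj(g, c.PX X) = c.PX (mapW γ X) := by
  rw [PX, PX, cj_inf, cj_cent, cj_norm, c.sp.act_FW c.ker hγ ha, c.cj_E hg hγ ha]

theorem cenRW {X : Submodule F V} (hX : TI B X) (h0 : X ≠ ⊥) {y : G} (hy : y ∈ c.C) (hc : y ∈ 𝐂[c.I (RW B X)]) :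
    ∃ k ∈ c.K0, ∃ a ∈ AW B X, y = k * c.Ψ a := by
  obtain ⟨γ, h1, h2⟩ := c.act hy
  obtain ⟨s, hs, a, ha, rfl⟩ :=
    c.sp.cen_RW hX h0 h1 ((c.sp.cent_act c.ker h1 h2 (c.sp.RW_two hX) (RW_le X)).1 hc)
  exact ⟨_, c.CB_sc hy hs (AW_le X ha) h2, a, ha, (inv_mul_cancel_right _ _).symm⟩

theorem Tight.cenRW {c : Cfg B q G} (ht : c.Tight) {X : Submodule F V} (hX : TI B X) (h0 : X ≠ ⊥) {y : G}
    (hy : y ∈ c.C) (hc : y ∈ 𝐂[c.I (RW B X)]) : y ∈ c.E X := by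
  obtain ⟨k, hk, a, ha, rfl⟩ := c.cenRW hX h0 hy hc
  refine c.mem_E.2 ⟨a, ha, ?_⟩
  rcases ht k hk with rfl | rfl
  · exact Or.inl (one_mul _)
  · exact Or.inr rfl

theorem Tight.cenFW {c : Cfg B q G} (ht : c.Tight) {X : Submodule F V} (hX : TI B X) (h0 : X ≠ ⊥) {y : G}
    (hy : y ∈ c.C) (hc : y ∈ 𝐂[c.I (FW B X)]) : y ∈ c.E X :=
  ht.cenRW hX h0 hy (cent_anti (im_mono (RW_le_FW X)) hc)

theorem CB_E1 {e : V} (he : Iso B e) {g : G} :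
    g ∈ c.E (F ∙ e) ↔ ∃ a, σ a = a ∧ (g = c.z e a ∨ g = c.t * c.z e a) := by
  rw [c.mem_E]
  constructor
  · rintro ⟨x, hx, h⟩
    obtain ⟨a, ha, rfl⟩ := (c.sp.mem_Zv he).1 hx
    exact ⟨a, ha, h⟩
  · rintro ⟨a, ha, h⟩
    exact ⟨_, (c.sp.mem_Zv he).2 ⟨a, ha, rfl⟩, h⟩

theorem Tight.cenQ {c : Cfg B q G} (ht : c.Tight) {e : V} (he : Iso B e) {y : G} (hy : y ∈ c.C)
    (hc : y ∈ 𝐂[c.I (Qv B e)]) : ∃ a, σ a = a ∧ (y = c.z e a ∨ y = c.t * c.z e a) :=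
  (c.CB_E1 he).1 (ht.cenRW (TI_span he.iso) (mt Submodule.span_singleton_eq_bot.1 he.ne) hy hc)

theorem Tight.cenV {c : Cfg B q G} (ht : c.Tight) {e : V} (he : Iso B e) {y : G} (hy : y ∈ c.C)
    (hZ : y ∈ 𝐂[c.I (Zv B e)]) (hc : ∀ x ∈ Qv B e, y * c.Ψ x * y⁻¹ * (c.Ψ x)⁻¹ ∈ c.I (Zv B e)) :
    ∃ x ∈ Qv B e, y = c.Ψ x ∨ y = c.t * c.Ψ x := by
  obtain ⟨γ, h1, h2⟩ := c.act hy
  have h3 : γ ∈ 𝐂[Zv B e] := (c.sp.cent_act c.ker h1 h2 (JJ_pg (c.sp.AW_el (TI_span he.iso))) (Zv_le e)).1 hZ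
  have h4 : γ ∈ 𝐍[Qv B e] := c.sp.RW_norm ⟨h1, c.sp.norm_Q_of_cen he h1 one_ne_zero
    (mem_cent.1 h3 _ ((c.sp.mem_Zv he).2 ⟨1, map_one σ, rfl⟩)).symm⟩
  obtain ⟨s, hs, x, hx, rfl⟩ := c.sp.cen_V he h1 h3 fun x hx => by
    obtain ⟨z, hz, e'⟩ := (mem_im' (Zv_le e)).1 (hc x hx)
    have h5 := conj_mem_of_norm h4 hx
    rw [h2 x (Qv_le e hx), ← ev_inv (Qv_le e hx), ← ev_mul (Qv_le e h5) (inv_mem (Qv_le e hx))] at e'
    rwa [← c.ker.inj_two (c.sp.Qv_two he.iso) (Qv_le e) (c.sp.Zv_le_Qv he.iso hz) (mul_mem h5 (inv_mem hx)) e']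
  exact ⟨x, hx, (ht _ (c.CB_sc hy hs (Qv_le e hx) h2)).imp mul_inv_eq_one.1 mul_inv_eq_iff_eq_mul.1⟩

theorem odd_cenQ {e : V} (he : Iso B e) {o : G} (ho : o ∈ c.C) (hodd : Odd (orderOf o))
    (hc : o ∈ 𝐂[c.I (Qv B e)]) : o ∈ c.K0 := by
  obtain ⟨k, hk, a, ha, rfl⟩ := c.cenRW (TI_span he.iso) (mt Submodule.span_singleton_eq_bot.1 he.ne) ho hc
  refine mem_of_pow_mem (p := 2) (k := 1) (Nat.coprime_two_right.2 hodd) ?_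
  rw [pow_one, sq, mul_assoc, ← mul_assoc (c.Ψ a), mem_cent.1 hk.2 _ (c.Ψ_mem a), mul_assoc,
    c.CB_two (c.sp.AW_sq (TI_span he.iso) ha), mul_one]
  exact mul_mem hk hk

theorem cen_M1_Q {e : V} (he : Iso B e) : c.I (M1 B e) ⊓ 𝐂[c.I (Qv B e)] ≤ c.I (Zv B e) := by
  rintro g ⟨h1, h2⟩
  obtain ⟨x, hx, rfl⟩ := (mem_im' (M1_le e)).1 h1
  have h3 := SU_le_Gam (M1_le e hx)
  obtain ⟨s, hs, z, hz, rfl⟩ := c.sp.cen_Q he h3
    ((c.sp.cent_act c.ker h3 (act_ev (M1_le e hx)) (c.sp.Qv_two he.iso) (Qv_le e)).1 h2)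
  have h4 := (mem_M1.1 hx).2
  rw [mul_smul, (mem_M1.1 (Qv_le_M1 e (c.sp.Zv_le_Qv he.iso hz))).2] at h4
  rw [c.sp.Sc_M1 he.ne hs h4, one_mul]
  exact ev_mem_im hz

theorem mem_IZ {e : V} (he : Iso B e) {g : G} : g ∈ c.I (Zv B e) ↔ ∃ a, σ a = a ∧ g = c.z e a := by
  rw [mem_im' (Zv_le e)]
  constructor
  · rintro ⟨x, hx, rfl⟩
    obtain ⟨a, ha, rfl⟩ := (c.sp.mem_Zv he).1 hx
    exact ⟨a, ha, rfl⟩
  · rintro ⟨a, ha, rfl⟩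
    exact ⟨_, (c.sp.mem_Zv he).2 ⟨a, ha, rfl⟩, rfl⟩

theorem mem_E1 {e : V} (he : Iso B e) {g : G} :
    g ∈ c.E (F ∙ e) ↔ ∃ a, σ a = a ∧ (g = c.z e a ∨ g = c.t * c.z e a) :=
  c.CB_E1 he

theorem mem_Yt {v : V} (hv : Iso B v) {y : G} :
    y ∈ c.Yt v ↔ y ∈ 𝐂[c.I (M1 B v)] ∧ ∃ a, σ a = a ∧ y * c.t * y⁻¹ = c.t * c.z v a := by
  rw [Yt, c.mem_PX (TI_span hv.iso), FW_span]
  refine and_congr_right fun _ => ⟨?_, ?_⟩
  · rintro ⟨x, hx, h⟩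
    obtain ⟨a, ha, rfl⟩ := (c.sp.mem_Zv hv).1 hx
    exact ⟨a, ha, h⟩
  · rintro ⟨a, ha, h⟩
    exact ⟨_, (c.sp.mem_Zv hv).2 ⟨a, ha, rfl⟩, h⟩

theorem Ψ_inj {e : V} (he : e ≠ 0) {x y : SG F V} (hx : x ∈ M1 B e) (hy : y ∈ M1 B e) (h : c.Ψ x = c.Ψ y) : x = y :=
  c.ker.inj_fix he (M1_le e hx) (M1_le e hy) (mem_M1.1 hx).2 (mem_M1.1 hy).2 h

theorem Ψ_ne (x y : SG F V) : c.Ψ x ≠ c.t * c.Ψ y :=
  fun e => c.t_notMem ((mul_mem_cancel_right (c.Ψ_mem y)).1 (e ▸ c.Ψ_mem x))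

theorem t_Ψ (x : SG F V) : c.t * c.Ψ x = c.Ψ x * c.t :=
  (c.comm_t (c.Ψ_mem x)).symm

theorem t_z (v : V) (a : F) : c.t * c.z v a = c.z v a * c.t :=
  c.t_Ψ _

theorem t_x (v w : V) : c.t * c.x v w = c.x v w * c.t :=
  c.t_Ψ _

theorem z_zero (v : V) : c.z v 0 = 1 := by
  rw [z, tv_zero, ev_one]

theorem z_zero_left (a : F) : c.z 0 a = 1 := by
  rw [z, tv_zero_left, ev_one]

theorem z_add {v : V} (hv : B v v = 0) {a b : F} (ha : σ a = a) (hb : σ b = b) : c.z v (a + b) = c.z v a * c.z v b := by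
  rw [z, ← tv_mul hv, ev_mul (c.sp.tv_mem hv ha) (c.sp.tv_mem hv hb), z, z]

theorem z_sq {v : V} (hv : B v v = 0) (a : F) : c.z v a * c.z v a = 1 :=
  c.CB_two (c.sp.tv_sq hv a)

theorem z_inj {v : V} (hv : Iso B v) {a b : F} (ha : σ a = a) (hb : σ b = b) (e : c.z v a = c.z v b) : a = b :=
  c.sp.tv_inj hv (c.Ψ_inj hv.ne (c.sp.M1_tv hv.iso hv.iso ha) (c.sp.M1_tv hv.iso hv.iso hb) e)

theorem z_eq_one {v : V} (hv : Iso B v) {a : F} (ha : σ a = a) : c.z v a = 1 ↔ a = 0 :=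
  ⟨fun e => c.z_inj hv ha (map_zero σ) (e.trans (c.z_zero v).symm), fun e => e ▸ c.z_zero v⟩

theorem z_sm (l : F) (v : V) (a : F) : c.z (l • v) a = c.z v (a * (l * σ l)) := by
  rw [z, tv_sm, z]

theorem z_act {g : G} {γ : SG F V} (hγ : γ ∈ Gam B) (ha : Act c.ψ g γ) {v : V} (hv : B v v = 0) {a : F}
    (h : σ a = a) : g * c.z v a * g⁻¹ = c.z (γ • v) (fld γ a) := by
  rw [z, ha _ (c.sp.tv_mem hv h), tv_conj hγ hv, z]

theorem z_eqv {g : SG F V} (hg : g ∈ SU B) {v : V} (hv : B v v = 0) {a : F} (h : σ a = a) :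
    c.Ψ g * c.z v a * (c.Ψ g)⁻¹ = c.z (g • v) a := by
  rw [c.z_act (SU_le_Gam hg) (act_ev hg) hv h, fld_SU hg]; rfl

theorem z_cent {v : V} (hv : B v v = 0) {a : F} (h : σ a = a) : c.z v a ∈ 𝐂[c.I (M1 B v)] :=
  (mem_cent_im (M1_le v)).2 fun x hx => ev_comm (c.sp.tv_mem hv h) (M1_le v hx)
    (c.sp.AW_comm (by rwa [FW_span]) (c.sp.tv_mem_AW (Submodule.mem_span_singleton_self v) hv h)).symm

theorem z_perp {v w : V} (hv : B v v = 0) (hwv : B w v = 0) (hw : B w w = 0) {a b : F} (ha : σ a = a) (hb : σ b = b) :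
    c.z v a * c.z w b = c.z w b * c.z v a :=
  (mem_cent.1 (c.z_cent hv ha) _ (ev_mem_im (c.sp.M1_tv hw hwv hb))).symm

theorem z_plane {v w : V} (hv : B v v = 0) (hwv : B w v = 0) (hw : B w w = 0) {a : F} (ha : σ a = a) :
    c.z (v + w) a = c.z v a * c.z w a * c.x (a • v) w := by
  have h1 := c.sp.tv_mem hv ha
  have h2 := c.sp.tv_mem hw ha
  rw [z, c.sp.tv_add hv hwv hw ha, ev_mul (mul_mem h1 h2) (c.sp.xx_mem (by simp [hv]) (by simp [hwv]) hw),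
    ev_mul h1 h2, z, z, x]

theorem x_symm {v w : V} (hv : B v v = 0) (hwv : B w v = 0) (hw : B w w = 0) : c.x v w = c.x w v := by
  rw [x, c.sp.xx_symm hv hwv hw, x]

theorem x_sq {v w : V} (hv : B v v = 0) (hwv : B w v = 0) (hw : B w w = 0) : c.x v w * c.x v w = 1 :=
  c.CB_two (c.sp.xx_sq hv hwv hw)

theorem x_zero {v : V} (hv : B v v = 0) : c.x v 0 = 1 := by
  rw [x, c.sp.xx_zero hv, ev_one]

theorem x_sm {v w : V} (hv : B v v = 0) (hwv : B w v = 0) (a : F) : c.x (a • v) w = c.x v (σ a • w) := by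
  rw [x, c.sp.xx_sm hv hwv, x]

theorem x_add {v w w' : V} (hv : B v v = 0) (hwv : B w v = 0) (hw : B w w = 0) (hwv' : B w' v = 0) (hw' : B w' w' = 0)
    (hww : B w' w = 0) : c.x v (w + w') = c.x v w * c.x v w' := by
  rw [x, c.sp.xx_add hv hwv hwv' hww, ev_mul (c.sp.xx_mem hv hwv hw) (c.sp.xx_mem hv hwv' hw'), x, x]

theorem x_mul {v w w' : V} (hv : B v v = 0) (hwv : B w v = 0) (hw : B w w = 0) (hwv' : B w' v = 0) (hw' : B w' w' = 0)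
    (hww : σ (B w' w) = B w' w) : c.x v w * c.x v w' = c.x v (w + w') * c.z v (B w' w) := by
  have h1 := c.sp.xx_mem hv hwv hw
  have h2 := c.sp.xx_mem hv hwv' hw'
  have h3 := c.sp.tv_mem hv hww
  have e := c.sp.xx_mul hv hwv hwv'
  rw [x, x, ← ev_mul h1 h2, e, ev_mul ((mul_mem_cancel_right h3).1 (e ▸ mul_mem h1 h2)) h3, x, z]

theorem x_comm {v w w' : V} (hv : B v v = 0) (hwv : B w v = 0) (hw : B w w = 0) (hwv' : B w' v = 0)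
    (hw' : B w' w' = 0) : c.x v w * c.x v w' = c.x v w' * c.x v w * c.z v (B w w' + B w' w) := by
  have h1 := c.sp.xx_mem hv hwv hw
  have h2 := c.sp.xx_mem hv hwv' hw'
  rw [x, x, ← ev_mul h1 h2, c.sp.xx_comm hv hwv hwv', ev_mul (mul_mem h2 h1)
    (c.sp.tv_mem hv (by rw [map_add, c.sp.symm, c.sp.symm, add_comm])), ev_mul h2 h1, z]

theorem x_add_smul {v w : V} (hv : B v v = 0) (hwv : B w v = 0) (hw : B w w = 0) (a : F) :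
    c.x v (w + a • v) = c.x v w * c.z v (a + σ a) := by
  rw [x, c.sp.xx_add_smul hv hwv, ev_mul (c.sp.xx_mem hv hwv hw)
    (c.sp.tv_mem hv (by rw [map_add, c.sp.ss, add_comm])), x, z]

theorem x_act {g : G} {γ : SG F V} (hγ : γ ∈ Gam B) (ha : Act c.ψ g γ) {v w : V} (hv : B v v = 0) (hwv : B w v = 0)
    (hw : B w w = 0) : g * c.x v w * g⁻¹ = c.x (γ • v) (γ • w) := by
  rw [x, ha _ (c.sp.xx_mem hv hwv hw), c.sp.xx_conj hγ hv hwv, x]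

theorem x_eqv {g : SG F V} (hg : g ∈ SU B) {v w : V} (hv : B v v = 0) (hwv : B w v = 0) (hw : B w w = 0) :
    c.Ψ g * c.x v w * (c.Ψ g)⁻¹ = c.x (g • v) (g • w) :=
  c.x_act (SU_le_Gam hg) (act_ev hg) hv hwv hw

theorem z_x {u v w : V} (hu : B u u = 0) (hv : B v v = 0) (hwv : B w v = 0) (hw : B w w = 0) (hvu : B v u = 0)
    (hwu : B w u = 0) {a : F} (ha : σ a = a) : c.z u a * c.x v w = c.x v w * c.z u a :=
  (mem_cent.1 (c.z_cent hu ha) _ (ev_mem_im (mem_M1.2 ⟨c.sp.xx_mem hv hwv hw, by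
    rw [c.sp.xx_smul hv hwv, c.sp.zero_symm hvu, c.sp.zero_symm hwu]; simp⟩))).symm

theorem CB_nf {e1 e2 : V} (h1 : B e1 e1 = 0) (h21 : B e2 e1 = 0) (h2 : B e2 e2 = 0) {α β : F} (hα : σ α = α)
    (hβ : σ β = β) (l : F) :
    c.z e1 α * c.z e2 β * c.x e1 (l • e2) = c.Ψ (tv B e1 α * tv B e2 β * xx B e1 (l • e2)) := by
  have h3 := c.sp.tv_mem h1 hα
  have h4 := c.sp.tv_mem h2 hβ
  rw [c.CB_mul (mul_mem h3 h4) (c.sp.xx_mem h1 (by simp [h21]) (by simp [h2])), c.CB_mul h3 h4, z, z, x]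

theorem nf_inj {e1 e2 : V} (hi : LinearIndependent F ![e1, e2]) (h1 : B e1 e1 = 0) (h21 : B e2 e1 = 0)
    (h2 : B e2 e2 = 0) {α β l : F} (hα : σ α = α) (hβ : σ β = β) (e : c.z e1 α * c.z e2 β * c.x e1 (l • e2) = 1) :
    α = 0 ∧ β = 0 ∧ l = 0 := by
  rw [c.CB_nf h1 h21 h2 hα hβ] at e
  have h3 : B (l • e2) e1 = 0 := by simp [h21]
  exact c.sp.AW_two_inj hi h1 h21 h2 (c.Ψ_inj (e := e1) (hi.ne_zero 0)
    (mul_mem (mul_mem (c.sp.M1_tv h1 h1 hα) (c.sp.M1_tv h2 h21 hβ))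
      (mem_M1.2 ⟨c.sp.xx_mem h1 h3 (by simp [h2]), c.sp.ei_self h1 h3 0⟩)) (one_mem _) (e.trans ev_one.symm))

theorem mem_IA2 {e1 e2 : V} (h1 : B e1 e1 = 0) (h21 : B e2 e1 = 0) (h2 : B e2 e2 = 0) {g : G} :
    g ∈ c.I (AW B (Submodule.span F {e1, e2})) ↔
      ∃ α β l : F, σ α = α ∧ σ β = β ∧ g = c.z e1 α * c.z e2 β * c.x e1 (l • e2) := by
  rw [mem_im' (AW_le _)]
  constructor
  · rintro ⟨a, ha, rfl⟩
    obtain ⟨α, β, l, hα, hβ, rfl⟩ := c.sp.AW_two h1 h21 h2 ha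
    exact ⟨α, β, l, hα, hβ, (c.CB_nf h1 h21 h2 hα hβ l).symm⟩
  · rintro ⟨α, β, l, hα, hβ, rfl⟩
    have hT : TI B (Submodule.span F {e1, e2}) := by
      rw [Submodule.span_insert]
      exact c.sp.AWa_sup (TI_span h1) h2 (mem_uPerp_span_singleton.2 (c.sp.zero_symm h21))
    have m1 : e1 ∈ Submodule.span F {e1, e2} := Submodule.subset_span (by simp)
    have m2 : e2 ∈ Submodule.span F {e1, e2} := Submodule.subset_span (by simp)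
    exact ⟨_, mul_mem (mul_mem (c.sp.tv_mem_AW m1 h1 hα) (c.sp.tv_mem_AW m2 h2 hβ))
      (c.sp.xx_mem_AW hT m1 (Submodule.smul_mem _ l m2)), (c.CB_nf h1 h21 h2 hα hβ l).symm⟩

end Cfg

end Cfsg.Agent.U52
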