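import Mathlib
import Cfsg.Agent.U52.Cfg2
import Cfsg.Agent.U52.AWb
import Cfsg.Agent.U52.Cen
import Cfsg.Agent.U52.M1
import Cfsg.Agent.Chev.CTA2

set_option autoImplicit false
set_option linter.unusedSectionVars false

namespace Cfsg.Agent.U52

open Cfsg Cfsg.Agent.Cl Cfsg.Agent.Loc.Mss Subgroup Module
open Cfsg.Agent.StdB (C1 mem_C1 El)
open scoped commutatorElement

variable {F : Type*} [Field F] [Finite F] [CharP F 2] {σ : F →+* F} {V : Type*} [AddCommGroup V] [Module F V]
  [Finite V] {B : V →ₗ[F] V →ₛₗ[σ] F} {q : ℕ} {G : Type*} [Group G] [Finite G]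

namespace SLa

theorem dual_mul {g a g' a' : SG F V} (h : Dual B g a) (h' : Dual B g' a') : Dual B (g * g') (a * a') :=
  ⟨by rw [map_mul, map_mul, h.fld_eq, h'.fld_eq], fun x y => by
    rw [mul_smul, mul_smul, h.map, h'.map, map_mul]; rfl⟩

theorem exists_dual (h : Sp B q) (g : SG F V) : ∃ a, Dual B g a := by
  choose f hf using fun x : V => h.herm.exists_rep
    { toFun := fun z => fld g (B (g⁻¹ • z) x)
      map_add' := fun z z' => by rw [smul_add, map_add, LinearMap.add_apply, map_add]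
      map_smul' := fun a z => by
        rw [smul_sm, map_smul, LinearMap.smul_apply, smul_eq_mul, map_mul, fld_apply_inv]; rfl }
  replace hf : ∀ x z, B z (f x) = fld g (B (g⁻¹ • z) x) := hf
  let f' : V →+ V := AddMonoidHom.mk' f fun x y => h.herm.ext_right fun z => by
    rw [map_add, hf, hf, hf, map_add, map_add]
  have hi : Function.Injective f' := (injective_iff_map_eq_zero f').2 fun x e => h.herm.nondeg' x fun z => by
    have := hf x (g • z)
    rw [show f x = 0 from e, map_zero, inv_smul_smul] at this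
    exact (map_eq_zero _).1 this.symm
  refine ⟨SG.mk' (AddEquiv.ofBijective f' (Finite.injective_iff_bijective.1 hi)) (fld g) fun a x =>
    h.herm.ext_right fun z => ?_, rfl, fun x y => ?_⟩
  · change B z (f (a • x)) = B z (fld g a • f x)
    rw [hf, map_smulₛₗ (B _), map_smulₛₗ (B _), hf, smul_eq_mul, smul_eq_mul, map_mul, h.aut_σ]
  · change B (f x) (g • y) = _
    rw [← h.symm, hf, inv_smul_smul, ← h.aut_σ, h.symm]

theorem exists_mu (h : Sp B q) {n : ℕ} (b b' : Fin n → V) (hb : ∀ i j, B (b i) (b' j) = if i = j then 1 else 0)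
    (hs : ∀ j, b' j ∈ Submodule.span F (Set.range b)) :
    ∃ μ : Matrix.SpecialLinearGroup (Fin n) F →* SG F V, Function.Injective μ ∧
      μ.range = SLY B (Submodule.span F (Set.range b)) ∧ ∀ i j (e : i ≠ j) a,
        μ (Matrix.SpecialLinearGroup.transvection e a) = trv B (b i) (b' j) a := by
  have sm : ∀ (c : Fin n → F) j, B (∑ i, c i • b i) (b' j) = c j := fun c j => by simp [hb]
  have li : LinearIndependent F b := Fintype.linearIndependent_iff.2 fun c e j => by
    rw [← sm c j, e, map_zero, LinearMap.zero_apply]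
  have co : ∀ (y : Submodule.span F (Set.range b)) j, (Basis.span li).equivFun y j = B y (b' j) := fun y j => by
    conv_rhs => rw [← (Basis.span li).sum_equivFun y]
    simp only [Submodule.coe_sum, Submodule.coe_smul, Basis.coe_span_apply, sm]
  have bi : ∀ i, (Basis.span li i : V) = b i := fun i => Basis.coe_span_apply li i
  generalize Basis.span li = β at co bi
  generalize Submodule.span F (Set.range b) = Y at *
  have hc : IsCompl Y (uPerp B Y) := h.herm.isCompl_uPerp (h.herm.disjoint_of_forall fun u hu e =>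
    congrArg Subtype.val (β.equivFun.map_eq_zero_iff.1 (funext fun j => (co ⟨u, hu⟩ j).trans (e _ (hs j)))))
  refine ⟨lin.comp ((uSum hc).comp ((MonoidHom.inl _ _).comp ((slAut F Y).subtype.comp
    (slEquivBasis β).toMonoidHom))), lin_injective.comp ((uSum_injective hc).comp ((Prod.mk_left_injective 1).comp
      (Subtype.val_injective.comp (slEquivBasis β).injective))), le_antisymm ?_ ?_, fun i j e a => ?_⟩
  · rintro _ ⟨A, rfl⟩
    change lin (uSum hc ((slEquivBasis β A).1, 1)) ∈ _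
    refine ⟨⟨lin_mem_SL.2 (mem_slAut.2 ?_), fun _ => Iff.rfl, fun x _ => ?_⟩,
      fun x hx => uSum_apply_right hc _ ⟨x, hx⟩⟩
    · rw [det_uSum, mem_slAut.1 (slEquivBasis β A).2, map_one, mul_one]
    · obtain ⟨y, z, rfl⟩ := u_exists_add_of_isCompl hc x
      rw [lin_smul, uSum_apply_add]
      simpa using sub_mem ((slEquivBasis β A).1 y).2 y.2
  · rintro _ ⟨⟨⟨k, hk, rfl⟩, -, h1⟩, h2⟩
    have s1 : k ∈ uStab F (Y : Set V) := mem_uStab_of_forall fun v hv => by
      simpa using add_mem (h1 v trivial) hv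
    have s2 : k ∈ uStab F (uPerp B Y : Set V) := mem_uStab_of_forall fun v hv => by
      rwa [show k v = v from h2 v hv]
    have e2 : uRestrict _ ⟨k, s2⟩ = 1 := uRestrict_eq_one_iff.2 h2
    have e1 := det_eq_det_uRestrict_mul hc s1 s2
    rw [e2, map_one, mul_one, mem_slAut.1 hk] at e1
    obtain ⟨A, hA⟩ := (slEquivBasis β).surjective ⟨_, mem_slAut.2 e1.symm⟩
    refine ⟨A, ?_⟩
    change lin (uSum hc ((slEquivBasis β A).1, 1)) = _
    rw [hA, ← e2, uSum_uRestrict]
  · refine SG.ext2 (fun x => ?_) (fld_trv _ _ _).symm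
    obtain ⟨y, z, rfl⟩ := u_exists_add_of_isCompl hc x
    change uSum hc ((slEquivBasis β _).1, 1) _ = _
    rw [uSum_apply_add, trv_smul (by rw [hb, if_neg e]), slEquivBasis_apply,
      Matrix.SpecialLinearGroup.transvection_coe, Matrix.add_mulVec, Matrix.one_mulVec, map_add,
      LinearEquiv.symm_apply_apply, Matrix.single_mulVec, co, map_add, LinearMap.add_apply,
      h.zero_symm (z.2 _ (hs j)), add_zero, Basis.equivFun_symm_apply, Finset.sum_eq_single i]
    · simp [bi, add_right_comm]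
    · simp +contextual
    · simp

end SLa

namespace Sp

open SLa

variable (h : Sp B q)
include h

theorem dual_unique {g a b : SG F V} (ha : Dual B g a) (hb : Dual B g b) : a = b := by
  refine SG.ext2 (fun x => h.herm.ext_left fun z => ?_) (ha.fld_eq.trans hb.fld_eq.symm)
  rw [← smul_inv_smul g z, ha.map, hb.map]

theorem dual_symm {g a : SG F V} (ha : Dual B g a) : Dual B a g := by
  exact ⟨ha.fld_eq.symm, fun x y => by rw [← h.symm, ha.map, ← h.aut_σ, h.symm, ha.fld_eq]⟩

theorem exists_du : ∃ du : SG F V →* SG F V, ∀ g, Dual B g (du g) := by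
  choose d hd using exists_dual h
  exact ⟨MonoidHom.mk' d fun g g' => h.dual_unique (hd _) (dual_mul (hd g) (hd g')), hd⟩

theorem dual_self_iff {g : SG F V} : Dual B g g ↔ g ∈ Gam B := by
  exact ⟨fun e => e.map, fun e => ⟨rfl, e⟩⟩

theorem dual_Sc {g a : SG F V} (ha : Dual B g a) (hg : g ∈ Sc F V) : a ∈ Sc F V := by
  obtain ⟨c, hc, rfl⟩ := eq_sc hg
  have h0 : σ c ≠ 0 := by simpa using hc
  rw [h.dual_unique ha (b := sc V (σ c)⁻¹) ⟨by rw [fld_sc, fld_sc], fun x y => by
    rw [sc_smul hc, sc_smul (inv_ne_zero h0), fld_sc]; simp [h0]⟩]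
  exact sc_mem _

theorem dual_trv {w v : V} (hv : B w v = 0) (a : F) : Dual B (trv B w v a) (trv B v w (σ a)) := by
  have hv' := h.zero_symm hv
  refine ⟨by simp, fun x y => ?_⟩
  rw [trv_smul hv, trv_smul hv', fld_trv]
  simp only [map_add, map_smul, map_smulₛₗ, LinearMap.add_apply, LinearMap.smul_apply, smul_eq_mul, map_mul, h.symm,
    hv', mul_zero, add_zero, RingAut.one_apply]
  linear_combination (σ a * B x w * B v y) * CharTwo.two_eq_zero (R := F)

theorem dual_tv {v : V} (hv : B v v = 0) (a : F) : Dual B (tv B v a) (tv B v (σ a)) := by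
  simpa only [trv_self hv] using h.dual_trv hv a

theorem trv_plane {p r : V} (hp : B p p = 1) (hr : B r r = 1) (hpr : B p r = 0) (a : F) :
    ∃ e ∈ Submodule.span F {p, r}, ∃ f ∈ Submodule.span F {p, r}, B e e = 0 ∧ B f f = 0 ∧
      ∃ c b : F, trv B p r a = tv B f c * tv B e b * tv B f c := by
  obtain ⟨ω, hω⟩ := h.exists_omega
  have h0 : ω ≠ 0 := by
    rintro rfl
    simp at hω
  have h2 := CharTwo.two_eq_zero (R := F)
  have hrp := h.zero_symm hpr
  have hc : ω⁻¹ * ω = 1 := inv_mul_cancel₀ h0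
  have he : B (p + r) (p + r) = 0 := by simp [hp, hr, hpr, hrp, CharTwo.add_self_eq_zero]
  have hf : B (σ ω • p + ω • r) (σ ω • p + ω • r) = 0 := by
    simp [hp, hr, hpr, hrp, h.ss, mul_comm, CharTwo.add_self_eq_zero]
  refine ⟨p + r, Submodule.mem_span_pair.2 ⟨1, 1, by simp⟩, σ ω • p + ω • r, Submodule.mem_span_pair.2 ⟨_, _, rfl⟩,
    he, hf, ω⁻¹, a * ω * ω, SG.ext2 (fun x => ?_) (fld_trv _ _ _)⟩
  have h1 : B (tv B (σ ω • p + ω • r) ω⁻¹ • x) (p + r) = ω⁻¹ * B x r := by
    rw [tv_smul hf]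
    simp only [map_add, map_smul, map_smulₛₗ, LinearMap.add_apply, LinearMap.smul_apply, smul_eq_mul, hp, hr, hpr,
      hrp, h.ss]
    linear_combination (ω⁻¹ * (ω * B x p + σ ω * B x r) + ω⁻¹ * B x r) * hω + (B x p - B x r) * hc + B x p * h2
  have h3 : tv B (σ ω • p + ω • r) ω⁻¹ • (p + r) = ω⁻¹ • p := by
    have : B (p + r) (σ ω • p + ω • r) = 1 := by simp [hp, hr, hpr, hrp, h.ss, hω]
    rw [tv_smul hf, this, mul_one, smul_add, smul_smul, smul_smul, hc, one_smul, add_add_add_comm,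
      vadd_self (F := F) r, add_zero]
    nth_rw 1 [← one_smul F p]
    rw [← add_smul]
    congr 1
    linear_combination ω⁻¹ * hω - hc
  rw [mul_smul, mul_smul, tv_smul he, h1, smul_add, ← mul_smul, h.tv_sq hf, one_smul, smul_sm_of rfl, h3,
    trv_smul hpr, smul_smul]
  congr 2
  field_simp

theorem exists_slHom {n : ℕ} (hn : 3 ≤ n) (b b' : Fin n → V) (hb : ∀ i j, B (b i) (b' j) = if i = j then 1 else 0)
    (hs : ∀ j, b' j ∈ Submodule.span F (Set.range b)) {y : Ch.RtA n → F → G} (hy : Ch.SLRel y) :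
    ∃ ρ : SLY B (Submodule.span F (Set.range b)) →* G, ∀ (r : Ch.RtA n) a, ev ρ (trv B (b r.1.1) (b' r.1.2) a) = y r a := by
  obtain ⟨μ, hi, hr, e⟩ := exists_mu h b b' hb hs
  obtain ⟨Φ, hΦ⟩ := Chev.slRel_exists_hom hn hy
  rw [← hr]
  refine ⟨Φ.comp (MonoidHom.ofInjective hi).symm.toMonoidHom, fun r a => ?_⟩
  rw [← e _ _ r.2, ← hΦ]
  exact (ev_coe (MonoidHom.ofInjective hi _)).trans (congrArg Φ ((MonoidHom.ofInjective hi).symm_apply_apply _))

theorem SLY_gen {n : ℕ} (b b' : Fin n → V) (hb : ∀ i j, B (b i) (b' j) = if i = j then 1 else 0)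
    (hs : ∀ j, b' j ∈ Submodule.span F (Set.range b)) :
    SLY B (Submodule.span F (Set.range b)) = closure {g | ∃ i j a, i ≠ j ∧ g = trv B (b i) (b' j) a} := by
  obtain ⟨μ, -, hr, e⟩ := exists_mu h b b' hb hs
  rw [← hr, MonoidHom.range_eq_map, ← sl_closure_transvections, MonoidHom.map_closure]
  congr 1
  ext g
  exact ⟨by rintro ⟨_, ⟨i, j, k, a, rfl⟩, rfl⟩; exact ⟨i, j, a, k, e i j k a⟩,
    by rintro ⟨i, j, a, k, rfl⟩; exact ⟨_, ⟨i, j, k, a, rfl⟩, e i j k a⟩⟩

theorem SLY_top : SLY B ⊤ = SL F V := by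
  refine le_antisymm (inf_le_left.trans inf_le_left) fun g hg => ⟨⟨hg, fun _ => Iff.rfl, fun _ _ => trivial⟩,
    fun x hx => ?_⟩
  rw [h.herm.uPerp_top] at hx
  rw [show x = 0 from hx, smul_zero]

theorem SL_gen : SL F V = closure {g | ∃ v a, B v v = 0 ∧ g = tv B v a} := by
  refine le_antisymm ?_ ((closure_le _).2 (by rintro _ ⟨v, a, hv, rfl⟩; exact tv_mem_SL hv a))
  obtain ⟨b, hb⟩ := h.herm.exists_orthonormal_basis rfl
  rw [← h.SLY_top, ← b.span_eq, h.SLY_gen b b hb fun j => Submodule.subset_span ⟨j, rfl⟩, closure_le]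
  rintro _ ⟨i, j, a, hij, rfl⟩
  obtain ⟨e, -, f, -, he, hf, c, d, k⟩ := h.trv_plane (p := b i) (r := b j) (by simp [hb]) (by simp [hb])
    (by simp [hb, hij]) a
  rw [k]
  exact mul_mem (mul_mem (subset_closure ⟨f, c, hf, rfl⟩) (subset_closure ⟨e, d, he, rfl⟩))
    (subset_closure ⟨f, c, hf, rfl⟩)

theorem dual_SL {g a : SG F V} (ha : Dual B g a) (hg : g ∈ SL F V) : a ∈ SL F V := by
  obtain ⟨du, hd⟩ := h.exists_du
  rw [h.dual_unique ha (hd g)]
  refine (h.SL_gen.le.trans ((closure_le ((SL F V).comap du)).2 ?_)) hg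
  rintro _ ⟨v, c, hv, rfl⟩
  exact mem_comap.2 (h.dual_unique (h.dual_tv hv c) (hd _) ▸ tv_mem_SL hv _)

end Sp

end Cfsg.Agent.U52
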