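import Mathlib
import Cfsg.Agent.U52.Cfg2
import Cfsg.Agent.U52.SLa
import Cfsg.Agent.U52.Flag
import Cfsg.Agent.U52.JJ

/-! Big elementary abelian subgroups of the special linear group that centralize a given involution. -/

set_option autoImplicit false
set_option linter.unusedSectionVars false

namespace Cfsg.Agent.U52

open Cfsg Cfsg.Agent.Cl Cfsg.Agent.Loc.Mss Subgroup Module
open Cfsg.Agent.StdB (C1 mem_C1 El)
open scoped commutatorElement

variable {F : Type*} [Field F] [Finite F] [CharP F 2] {σ : F →+* F} {V : Type*} [AddCommGroup V] [Module F V]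
  [Finite V] {B : V →ₗ[F] V →ₛₗ[σ] F} {q : ℕ} {G : Type*} [Group G] [Finite G]

namespace SLb

/-- The linear maps that are trivial on `W` and `V / W`. -/
def HW (W : Submodule F V) : Subgroup (SG F V) := (fld : SG F V →* RingAut F).ker ⊓ Mv ⊤ W ⊓ Fix F W

theorem mem_HW {W : Submodule F V} {g : SG F V} :
    g ∈ HW W ↔ fld g = 1 ∧ (∀ x, g • x - x ∈ W) ∧ ∀ x ∈ W, g • x = x :=
  ⟨fun h => ⟨h.1.1, fun x => h.1.2.2 x trivial, h.2⟩,
    fun h => ⟨⟨h.1, fun _ => Iff.rfl, fun x _ => h.2.1 x⟩, h.2.2⟩⟩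

theorem HW_el (W : Submodule F V) : El (HW W) := fun g hg => by
  obtain ⟨h1, h2, h3⟩ := mem_HW.1 hg
  refine SG.ext2 (fun x => ?_) (by rw [map_mul, h1, map_one, mul_one])
  have := h3 _ (h2 x)
  rw [smul_sub, sub_eq_iff_eq_add, vsub (F := F), add_right_comm, vadd_self (F := F), zero_add] at this
  rw [mul_smul, this, one_smul]

theorem HW_le (W : Submodule F V) : HW W ≤ SL F V := fun g hg => by
  obtain ⟨k, rfl⟩ := exists_lin (mem_HW.1 hg).1
  have h1 : k * k = 1 := lin_injective (by rw [map_mul, HW_el W _ hg, map_one])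
  have h2 : (LinearEquiv.det k : F) * LinearEquiv.det k = 1 * 1 := by
    rw [← Units.val_mul, ← map_mul, h1, map_one, Units.val_one, mul_one]
  exact lin_mem_SL.2 (Units.ext (flag_sq_inj h2))

theorem card_le {T : Type*} {W : Submodule F V} {D : Subgroup (SG F V)} (N : T → V →ₗ[F] V) (h1 : ∀ t x, N t x ∈ W)
    (h2 : ∀ t, ∀ x ∈ W, N t x = 0) (inj : Function.Injective N)
    (hD : ∀ t g, (∀ x, g • x = x + N t x) → fld g = 1 → g ∈ D) : Nat.card T ≤ Nat.card (HW W ⊓ D : Subgroup _) := by
  have e : ∀ t, Function.Involutive (LinearMap.id + N t : V →ₗ[F] V) := fun t x => by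
    simp only [LinearMap.add_apply, LinearMap.id_apply, map_add, h2 t _ (h1 t x), add_zero]
    rw [add_assoc, vadd_self (F := F), add_zero]
  refine Nat.card_le_card_of_injective (fun t => ⟨lin (LinearEquiv.ofInvolutive _ (e t)), mem_HW.2 ⟨rfl, fun x => ?_,
    fun x hx => ?_⟩, hD t _ (fun _ => rfl) rfl⟩) fun t t' k => inj (LinearMap.ext fun x => ?_)
  · exact (add_sub_cancel_left x (N t x)).symm ▸ h1 t x
  · exact add_eq_left.2 (h2 t x hx)
  · exact add_left_cancel (congrArg (fun g : (HW W ⊓ D : Subgroup (SG F V)) => (g : SG F V) • x) k)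

section NS

variable {I J : Type*} [Fintype I] [Fintype J] (w : I → V) (f : J → V →ₗ[F] F)

/-- The map `x ↦ ∑ S i j f j x w i`. -/
noncomputable def NS (S : I → J → F) : V →ₗ[F] V := ∑ i, (∑ j, S i j • f j).smulRight (w i)

theorem NS_apply (S : I → J → F) (x : V) : NS w f S x = ∑ i, (∑ j, S i j * f j x) • w i := by
  simp [NS, LinearMap.sum_apply]

variable {w f}

theorem NS_inj (hw : LinearIndependent F w) (hf : ∀ c : J → F, (∀ x, ∑ j, c j * f j x = 0) → c = 0) :
    Function.Injective (NS w f) := fun S S' e => funext fun i => sub_eq_zero.1 (hf _ fun x => by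
  have h1 := LinearMap.congr_fun e x
  rw [NS_apply, NS_apply, ← sub_eq_zero, ← Finset.sum_sub_distrib] at h1
  simp only [← sub_smul] at h1
  simpa only [← Finset.sum_sub_distrib, ← sub_mul, Pi.sub_apply] using Fintype.linearIndependent_iff.1 hw _ h1 i)

theorem card_le' {T : Type*} {D : Subgroup (SG F V)} (hw : LinearIndependent F w)
    (hf : ∀ c : J → F, (∀ x, ∑ j, c j * f j x = 0) → c = 0) (h0 : ∀ i j, f j (w i) = 0) (S : T → I → J → F)
    (inj : Function.Injective S) (hD : ∀ t g, (∀ x, g • x = x + NS w f (S t) x) → fld g = 1 → g ∈ D) :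
    Nat.card T ≤ Nat.card (HW (⨅ j, LinearMap.ker (f j)) ⊓ D : Subgroup _) :=
  card_le (fun t => NS w f (S t)) (fun t x => by simp [NS_apply, h0]) (fun t x hx => by
    simp only [Submodule.mem_iInf, LinearMap.mem_ker] at hx
    simp [NS_apply, hx]) ((NS_inj hw hf).comp inj) hD

end NS

theorem between {A C : Submodule F V} (h : A ≤ C) {d : ℕ} (h1 : finrank F A ≤ d) (h2 : d ≤ finrank F C) :
    ∃ W, A ≤ W ∧ W ≤ C ∧ finrank F W = d := by
  induction d, h1 using Nat.le_induction with
  | base => exact ⟨A, le_rfl, h, rfl⟩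
  | succ d hd ih =>
    obtain ⟨W, a, b, c⟩ := ih (by omega)
    obtain ⟨v, hv, hv'⟩ := SetLike.not_le_iff_exists.1 fun e : C ≤ W => by
      have := Submodule.finrank_mono e
      omega
    exact ⟨W ⊔ F ∙ v, le_sup_of_le_left a, sup_le b ((Submodule.span_singleton_le_iff_mem _ _).2 hv), by
      rw [Submodule.finrank_sup_span_singleton hv', c]⟩

/-- A totally isotropic subspace of half the dimension for a symmetric bilinear form. -/
theorem exists_ti (β : V →ₗ[F] V →ₗ[F] F) (hs : ∀ x y, β x y = β y x) (j : ℕ) (hj : j ≤ finrank F V / 2) :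
    ∃ w : Fin j → V, LinearIndependent F w ∧ ∀ i l, β (w i) (w l) = 0 := by
  induction j with
  | zero => exact ⟨Fin.elim0, linearIndependent_empty_type, fun i => i.elim0⟩
  | succ j ih =>
    obtain ⟨w, h1, h2⟩ := ih (by omega)
    have : ExpChar F 2 := .prime Nat.prime_two
    let l : V →ₗ[F] F :=
      { toFun := fun x => (frobeniusEquiv F 2).symm (β x x)
        map_add' := fun x y => by
          rw [← map_add]
          congr 1
          simp only [map_add, LinearMap.add_apply, hs y x]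
          rw [add_assoc, ← add_assoc (β x y), CharTwo.add_self_eq_zero, zero_add]
        map_smul' := fun c x => by
          rw [RingEquiv.symm_apply_eq, RingHom.id_apply, smul_eq_mul, map_mul, RingEquiv.apply_symm_apply]
          simp [frobenius_def, sq, mul_assoc] }
    let Φ : V →ₗ[F] F × (Fin j → F) := l.prod (LinearMap.pi fun i => β (w i))
    have a1 := Φ.finrank_range_add_finrank_ker
    have a2 := Submodule.finrank_le (LinearMap.range Φ)
    rw [finrank_prod, finrank_self, finrank_fin_fun] at a2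
    obtain ⟨v, hv, hv'⟩ := SetLike.not_le_iff_exists.1
      fun e : LinearMap.ker Φ ≤ Submodule.span F (Set.range w) => by
        have a3 := Submodule.finrank_mono e
        rw [finrank_span_eq_card h1, Fintype.card_fin] at a3
        omega
    have b1 : β v v = 0 := (map_eq_zero_iff _ (frobeniusEquiv F 2).symm.injective).1 (congrArg Prod.fst hv)
    have b2 : ∀ i, β (w i) v = 0 := fun i => congrFun (congrArg Prod.snd hv) i
    refine ⟨Fin.cons v w, h1.finCons hv', fun i l => ?_⟩
    refine Fin.cases ?_ (fun i => ?_) i <;> refine Fin.cases ?_ (fun l => ?_) l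
    exacts [b1, (hs _ _).trans (b2 l), b2 i, h2 i l]

variable (B) in
/-- The isometries of `B (γ x) y`. -/
def Iv (γ : SG F V) : Subgroup (SG F V) where
  carrier := {g | ∀ x y, B (γ • g • x) (g • y) = B (γ • x) y}
  one_mem' _ _ := rfl
  mul_mem' {g k} hg hk x y := by rw [mul_smul, mul_smul, hg, hk]
  inv_mem' {g} hg x y := by rw [← hg, smul_inv_smul, smul_inv_smul]

end SLb

open SLb

namespace Sp

variable (h : Sp B q)
include h

theorem big_inner {γ : SG F V} (hf : fld γ = 1) (g2 : γ * γ = 1) :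
    ∃ H ≤ SL F V ⊓ C1 γ, El H ∧ 2 * q ^ ((finrank F V / 2) ^ 2) < Nat.card H := by
  let N : V →ₗ[F] V := (toLin γ hf).toLinearMap - LinearMap.id
  have hN : ∀ x, N x = γ • x - x := fun _ => rfl
  have h1 : LinearMap.range N ≤ LinearMap.ker N := by
    rintro _ ⟨x, rfl⟩
    rw [LinearMap.mem_ker, hN, hN, smul_sub, ← mul_smul, g2, one_smul, vsub (F := F) x, vsub (F := F) _ x, add_comm x,
      sub_self]
  have h2 := N.finrank_range_add_finrank_ker
  have h3 := Submodule.finrank_mono h1
  obtain ⟨W, w1, w2, w3⟩ := between h1 (d := finrank F V / 2) (by omega) (by omega)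
  refine ⟨HW W ⊓ C1 γ, inf_le_inf_right _ (HW_le W), fun g hg => HW_el W g hg.1, h.num1.trans_le ?_⟩
  refine le_trans ?_ (card_le (fun φ : (V ⧸ W) →ₗ[F] W => W.subtype ∘ₗ φ ∘ₗ W.mkQ) (fun φ x => (φ _).2)
    (fun φ x hx => by simp [(Submodule.Quotient.mk_eq_zero W).2 hx]) (fun φ φ' e => ?_) fun φ g hg h1 => ?_)
  · have h4 := W.finrank_quotient_add_finrank
    have h5 := h.two_le_k
    rw [Module.natCard_eq_pow_finrank (K := F), finrank_linearMap, h.uf.card, ← pow_mul, w3]
    refine Nat.pow_le_pow_right (by have := h.uf.two_le; omega) ?_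
    rw [← mul_assoc, mul_comm _ (finrank F V / 2)]
    exact Nat.mul_le_mul_left _ (by omega)
  · refine LinearMap.ext fun x => ?_
    obtain ⟨x, rfl⟩ := W.mkQ_surjective x
    exact Subtype.ext (LinearMap.congr_fun e x)
  · refine mem_C1.2 (SG.ext2 (fun x => ?_) (by rw [map_mul, map_mul, h1, hf]))
    have a1 : W.mkQ (γ • x) = W.mkQ x := (Submodule.Quotient.eq W).2 (w1 ⟨x, rfl⟩)
    have a2 : ∀ y : W, γ • (y : V) = y := fun y => sub_eq_zero.1 (w2 y.2)
    rw [mul_smul, mul_smul, hg, hg, smul_add]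
    simp only [LinearMap.comp_apply, Submodule.subtype_apply, a1, a2]

theorem big_graph {γ γ' : SG F V} (hf : fld γ ≠ 1) (hd : Dual B γ γ') (h2 : γ * γ' ∈ Sc F V) :
    ∃ H ≤ SL F V, El H ∧ 2 * q ^ ((finrank F V / 2) ^ 2) < Nat.card H ∧ ∀ x ∈ H, Dual B x (γ⁻¹ * x * γ) := by
  obtain ⟨a1, a, -, a2⟩ := h2
  rw [map_mul, hd.fld_eq] at a1
  have f1 := (h.fld_of_sq a1).resolve_left hf
  have f2 : ∀ c, fld γ⁻¹ c = σ c := fun c => by rw [map_inv, inv_eq_of_mul_eq_one_right a1, f1]
  let β : V →ₗ[F] V →ₗ[F] F := LinearMap.mk₂ F (fun x y => B x (γ⁻¹ • y)) (fun x x' y => by simp)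
    (fun c x y => by simp) (fun x y y' => by simp) fun c x y => by
      rw [smul_sm, f2, map_smulₛₗ, h.ss]
  have hβ : ∀ x y, β x y = B x (γ⁻¹ • y) := fun _ _ => rfl
  have nd : ∀ y, (∀ x, β x y = 0) → y = 0 := fun y e =>
    (smul_eq_zero_iff_eq γ⁻¹).1 (h.herm.nondeg _ fun x => h.zero_symm (e x))
  have s1 : ∀ x y, β x y = a * β y x := fun x y => by
    have := hd.map x (γ⁻¹ • y)
    rw [smul_inv_smul, eq_inv_smul_iff.2 ((mul_smul _ _ _).symm.trans (a2 x)), smul_sm, f2, f1, map_smul,
      LinearMap.smul_apply, smul_eq_mul, ← h.symm y, ← map_mul] at this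
    exact (σ.injective this).symm
  have s2 : ∀ x y, β x y = β y x := by
    have := h.nontrivial
    obtain ⟨y, hy⟩ := exists_ne (0 : V)
    obtain ⟨x, hx⟩ := not_forall.1 (mt (nd y) hy)
    have e : a * a = 1 * 1 := mul_right_cancel₀ hx (by rw [mul_assoc, ← s1, ← s1, one_mul, one_mul])
    intro x y
    rw [s1, flag_sq_inj e, one_mul]
  obtain ⟨w, w1, w2⟩ := exists_ti β s2 _ le_rfl
  refine ⟨HW (⨅ j, LinearMap.ker (β (w j))) ⊓ Iv B γ⁻¹, inf_le_left.trans (HW_le _), fun g hg => HW_el _ g hg.1,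
    h.num1.trans_le ?_, fun g hg => ⟨?_, fun x y => ?_⟩⟩
  · refine le_trans ?_ (card_le' w1 (fun c hc => funext (Fintype.linearIndependent_iff.1 w1 c (nd _ fun x => ?_)))
      (fun i j => w2 j i) (fun (s : Sym2 (Fin (finrank F V / 2)) → F) i j => s s(i, j))
      (fun s s' e => funext (Sym2.ind fun i j => congrFun (congrFun e i) j)) fun s g hg _ x y => ?_)
    · rw [Nat.card_fun, Nat.card_eq_fintype_card (α := Sym2 _), Sym2.card, Fintype.card_fin, h.uf.card, ← pow_mul,
        mul_comm 2, ← Nat.add_one_mul_choose_eq, Nat.choose_one_right, mul_comm]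
    · simpa [s2 x] using hc x
    · rw [← h.symm, ← h.symm y, ← hβ, ← hβ, hg, hg]
      congr 1
      simp only [map_add, LinearMap.add_apply, NS_apply, map_sum, map_smul, LinearMap.sum_apply,
        LinearMap.smul_apply, smul_eq_mul, w2, mul_zero, Finset.sum_const_zero, add_zero, s2 y (w _), Finset.sum_mul]
      rw [add_assoc, add_eq_left, CharTwo.add_eq_zero, Finset.sum_comm]
      exact Finset.sum_congr rfl fun i _ => Finset.sum_congr rfl fun j _ => by rw [Sym2.eq_swap]; ring
  · rw [map_mul, map_mul, (mem_HW.1 hg.1).1, mul_one, ← map_mul, inv_mul_cancel, map_one]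
  · rw [mul_smul, mul_smul, hg.2, inv_smul_smul, (mem_HW.1 hg.1).1]
    rfl

theorem big_field {γ : SG F V} (hf : fld γ ≠ 1) (g2 : γ * γ = 1) (ho : Odd (finrank F V)) :
    ∃ H ≤ SL F V ⊓ C1 γ, El H ∧ 2 * q ^ ((finrank F V / 2) ^ 2) < Nat.card H := by
  classical
  have f1 := h.flag_fld_eq g2 hf
  obtain ⟨ω, hω⟩ := h.exists_omega
  obtain ⟨s, s1, s2, s3⟩ := exists_linearIndependent F {x : V | γ • x = x}
  have s4 : ⊤ ≤ Submodule.span F (Set.range ((↑) : s → V)) := fun x _ => by
    obtain ⟨y, -, y', -, e1, e2, rfl⟩ := h.span_fix g2 hf (U := ⊤) (fun _ => Iff.rfl) (x := x) trivial hω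
    rw [Subtype.range_coe, s2]
    exact add_mem (Submodule.subset_span e1) (Submodule.smul_mem _ _ (Submodule.subset_span e2))
  have := Fintype.ofFinite s
  set k := finrank F V / 2 with hk
  have e : s ≃ Fin k ⊕ Fin (k + 1) := Fintype.equivOfCardEq (by
    rw [← finrank_eq_card_basis (Basis.mk s3 s4), Fintype.card_sum, Fintype.card_fin, Fintype.card_fin]
    rw [Nat.odd_iff] at ho
    omega)
  let b := (Basis.mk s3 s4).reindex e
  have b1 : ∀ i, γ • b i = b i := fun i => by
    rw [Basis.reindex_apply, Basis.mk_apply]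
    exact s1 (e.symm i).2
  have b2 : ∀ x i, b.coord i (γ • x) = σ (b.coord i x) := fun x i => by
    conv_lhs => rw [← b.sum_repr x, Finset.smul_sum]
    simp only [smul_sm, b1, f1, Basis.coord_apply, b.repr_sum_self]
  refine ⟨HW (⨅ j, LinearMap.ker (b.coord (.inr j))) ⊓ C1 γ, inf_le_inf_right _ (HW_le _), fun g hg => HW_el _ g hg.1,
    h.num1.trans_le ?_⟩
  refine le_trans ?_ (card_le' (b.linearIndependent.comp _ Sum.inl_injective) (fun c hc => funext fun j => ?_)
    (fun i j => by simp) (fun (s : Fin k → Fin (k + 1) → {a : F // σ a = a}) i j => s i j)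
    (fun s s' e => funext₂ fun i j => Subtype.ext (congrFun (congrFun e i) j)) fun s g hg h1 => ?_)
  · rw [Nat.card_fun, Nat.card_fun, h.uf.card_fixed, Nat.card_fin, Nat.card_fin, ← pow_mul, mul_comm]
  · simpa [Finsupp.single_apply] using hc (b (.inr j))
  · refine mem_C1.2 (SG.ext2 (fun x => ?_) (by rw [map_mul, map_mul, h1, mul_one, one_mul]))
    rw [mul_smul, mul_smul, hg, hg, smul_add, NS_apply, NS_apply, Finset.smul_sum]
    simp only [Function.comp, smul_sm, b1, b2, f1, map_sum, map_mul, (s _ _).2]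

end Sp

end Cfsg.Agent.U52
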