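import Mathlib
import Cfsg.Agent.U52.Cfg3
import Cfsg.Agent.U52.PtB

set_option autoImplicit false
set_option linter.unusedSectionVars false
set_option linter.unusedVariables false

namespace Cfsg.Agent.U52

open Cfsg Cfsg.Agent.Cl Cfsg.Agent.Loc.Mss Subgroup Module
open Cfsg.Agent.StdB (C1 mem_C1 El)
open scoped commutatorElement

variable {F : Type*} [Field F] [Finite F] [CharP F 2] {σ : F →+* F} {V : Type*} [AddCommGroup V] [Module F V]
  [Finite V] {B : V →ₗ[F] V →ₛₗ[σ] F} {q : ℕ} {G : Type*} [Group G] [Finite G]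

theorem R4a_aux {x y x' y' a b d e : G} (h1 : x * x' = x' * x * a) (h2 : x * y' = y' * x * b)
    (h3 : y * x' = x' * y * d) (h4 : y * y' = y' * y * e) (c1 : Commute a y') (c2 : Commute a y) (c3 : Commute b y)
    (c4 : Commute d y') : x * y * (x' * y') = x' * y' * (x * y) * (b * a * e * d) := by
  calc _ = x * (y * x') * y' := by group
    _ = x * x' * (y * y') * d := by rw [h3, mul_assoc x, mul_assoc _ d, c4.eq]; group
    _ = x' * x * (a * y') * y * e * d := by rw [h1, h4]; group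
    _ = x' * (x * y') * a * y * e * d := by rw [c1.eq]; group
    _ = x' * y' * x * (b * a * y) * e * d := by rw [h2]; group
    _ = _ := by rw [(c3.mul_left c2).eq]; group

namespace Cfg.Pt

variable {c : Cfg B q G} {s : c.Pt} {θ : F}

variable (s) in
/-- The doubled group of a point. -/
noncomputable def ZZ (v : V) (α β : F) : G := c.z v α * s.zs v β

variable (s) in
/-- The doubled root group of a line. -/
noncomputable def PP (e u w : V) : G := c.x e u * s.xs e w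

theorem ZZ_mul {v : V} (hv : B v v = 0) {α β α' β' : F} (h1 : σ α = α) (h2 : σ β = β) (h3 : σ α' = α')
    (h4 : σ β' = β') : s.ZZ v α β * s.ZZ v α' β' = s.ZZ v (α + α') (β + β') := by
  rw [ZZ, ZZ, ZZ, c.z_add hv h1 h3, s.add v hv _ _ h2 h4]
  exact (show Commute _ _ from s.zs_z hv hv hv h2 h3).mul_mul_mul_comm _ _

theorem ZZ_zero {v : V} (hv : B v v = 0) : s.ZZ v 0 0 = 1 := by rw [ZZ, c.z_zero, s.zs_zero hv, mul_one]

theorem ZZ_ZZ {v w : V} (hv : B v v = 0) (hwv : B w v = 0) (hw : B w w = 0) {α β α' β' : F} (h1 : σ α = α)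
    (h2 : σ β = β) (h3 : σ α' = α') (h4 : σ β' = β') : Commute (s.ZZ v α β) (s.ZZ w α' β') :=
  .mul_left (.mul_right (c.z_perp hv hwv hw h1 h3) (s.zs_z hw hwv hv h4 h1).symm)
    (.mul_right (s.zs_z hv (c.sp.zero_symm hwv) hw h2 h3) (s.perp v w hv hwv hw _ _ h2 h4))

theorem ZZ_x {u v w : V} (hu : B u u = 0) (hv : B v v = 0) (hwv : B w v = 0) (hw : B w w = 0) (hvu : B v u = 0)
    (hwu : B w u = 0) {α β : F} (h1 : σ α = α) (h2 : σ β = β) : Commute (s.ZZ u α β) (c.x v w) :=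
  .mul_left (c.z_x hu hv hwv hw hvu hwu h1) (s.zs_x hu hv hwv hw (c.sp.zero_symm hvu) (c.sp.zero_symm hwu) h2)

theorem ZZ_xs {u v w : V} (hu : B u u = 0) (hv : B v v = 0) (hwv : B w v = 0) (hw : B w w = 0) (hvu : B v u = 0)
    (hwu : B w u = 0) {α β : F} (h1 : σ α = α) (h2 : σ β = β) : Commute (s.ZZ u α β) (s.xs v w) :=
  .mul_left (s.z_xs hu hv hwv hw hvu hwu h1) (s.zs_xs hu hv hwv hw hvu hwu h2)

theorem ZZ_PP {u v w : V} (hu : B u u = 0) (hv : B v v = 0) (hwv : B w v = 0) (hw : B w w = 0) (hvu : B v u = 0)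
    (hwu : B w u = 0) {α β : F} (h1 : σ α = α) (h2 : σ β = β) (l m : F) :
    Commute (s.ZZ u α β) (s.PP v (l • w) (m • w)) :=
  .mul_right (ZZ_x hu hv (by simp [hwv]) (by simp [hw]) hvu (by simp [hwu]) h1 h2)
    (ZZ_xs hu hv (by simp [hwv]) (by simp [hw]) hvu (by simp [hwu]) h1 h2)

theorem R4a_tr (h : Sp B q) (u w : V) : σ (B u w + B w u) = B u w + B w u := by
  rw [map_add, h.symm, h.symm, add_comm]

theorem R4a_N (h : Sp B q) (u w : V) : σ (B u w * B w u) = B u w * B w u := by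
  rw [map_mul, h.symm, h.symm, mul_comm]

theorem Pl.xs_x' (h : s.Pl) {e w w' : V} (he : B e e = 0) (hw : B w e = 0) (hww : B w w = 0) (hw' : B w' e = 0)
    (hww' : B w' w' = 0) : s.xs e w * c.x e w' = c.x e w' * s.xs e w * s.zs e (B w w' + B w' w) := by
  rw [h.x_xs he hw hww hw' hww', mul_assoc, s.zs_sq he (R4a_tr c.sp _ _), mul_one]

theorem Pl.PP_mul (h : s.Pl) {e v : V} (he : B e e = 0) (hv : B v e = 0) (hvv : B v v = 0) (l m l' m' : F) :
    s.PP e (l • v) (m • v) * s.PP e (l' • v) (m' • v) = s.PP e ((l + l') • v) ((m + m') • v) := by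
  have k : Commute (s.xs e (m • v)) (c.x e (l' • v)) := by
    have := h.xs_x' he (w := m • v) (w' := l' • v) (by simp [hv]) (by simp [hvv]) (by simp [hv]) (by simp [hvv])
    simpa [hvv, s.zs_zero he, commute_iff_eq] using this
  rw [PP, PP, PP, h.xs_add he hv hvv, add_smul l,
    c.x_add he (by simp [hv]) (by simp [hvv]) (by simp [hv]) (by simp [hvv]) (by simp [hvv])]
  exact k.mul_mul_mul_comm _ _

theorem PP_zero {e : V} (he : B e e = 0) : s.PP e 0 0 = 1 := by rw [PP, c.x_zero he, s.xs_zero he, mul_one]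

theorem Pl.PP_sq (h : s.Pl) {e v : V} (he : B e e = 0) (hv : B v e = 0) (hvv : B v v = 0) (l m : F) :
    s.PP e (l • v) (m • v) * s.PP e (l • v) (m • v) = 1 := by
  rw [h.PP_mul he hv hvv, CharTwo.add_self_eq_zero, CharTwo.add_self_eq_zero, zero_smul, PP_zero he]

theorem Pl.PP_symm (h : s.Pl) {e v : V} (he : B e e = 0) (hv : B v e = 0) (hvv : B v v = 0) (l m : F) :
    s.PP v (l • e) (m • e) = s.PP e (σ l • v) (σ m • v) := by
  have hev := c.sp.zero_symm hv
  rw [PP, PP, c.x_symm hvv (by simp [hev]) (by simp [he]), c.x_sm he hv,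
    s.xs_symm hvv (by simp [hev]) (by simp [he]), h.xs_sm he hv hvv]

theorem R2.PP_comm {δ : F} (h : s.R2 δ) {e u w u' w' : V} (he : B e e = 0) (hu : B u e = 0) (huu : B u u = 0)
    (hw : B w e = 0) (hww : B w w = 0) (hu' : B u' e = 0) (huu' : B u' u' = 0) (hw' : B w' e = 0)
    (hww' : B w' w' = 0) : s.PP e u w * s.PP e u' w' = s.PP e u' w' * s.PP e u w *
      s.ZZ e (B u u' + B u' u + δ * (B w w' + B w' w)) (B w' u + B u w' + (B w w' + B w' w) + (B w u' + B u' w)) := by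
  have t := R4a_tr c.sp
  have hd : σ (δ * (B w w' + B w' w)) = δ * (B w w' + B w' w) := by rw [map_mul, h.hδ, t]
  have h4 := h.r2 e w w' he hw hww hw' hww'
  rw [mul_assoc] at h4
  rw [PP, PP, R4a_aux (c.x_comm he hu huu hu' huu') (h.toPl.x_xs he hw' hww' hu huu) (h.toPl.xs_x' he hw hww hu' huu') h4
    (s.z_xs he he hw' hww' he hw' (t _ _)) (s.z_xs he he hw hww he hw (t _ _)) (s.zs_xs he he hw hww he hw (t _ _))
    (s.zs_xs he he hw' hww' he hw' (t _ _)), ZZ, c.z_add he (t _ _) hd,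
    s.add e he _ _ (by rw [map_add, t, t]) (t _ _), s.add e he _ _ (t _ _) (t _ _), s.zs_z he he he (t _ _) (t _ _),
    s.zs_z he he he (t _ _) hd, mul_assoc (c.z e _) (s.zs e _), ← mul_assoc (s.zs e _) (c.z e _),
    s.zs_z he he he (t _ _) hd]
  simp only [mul_assoc]

theorem Pl.x_ZZ (h : s.Pl) {e u v : V} (he : B e e = 0) (hu : B u e = 0) (huu : B u u = 0) (hv : B v e = 0)
    (hvv : B v v = 0) {α β : F} (h1 : σ α = α) (h2 : σ β = β) :
    c.x e u * s.ZZ v α β * c.x e u = s.ZZ v α β * s.PP e ((α * B u v) • v) ((β * B u v) • v) *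
      s.ZZ e (α * (B u v * B v u)) (β * (B u v * B v u)) := by
  have hev := c.sp.zero_symm hv
  have n1 : σ (α * (B u v * B v u)) = α * (B u v * B v u) := by rw [map_mul, h1, R4a_N c.sp]
  have e1 := c.z_eqv (c.sp.xx_mem he hu huu) hvv h1
  rw [show (c.Ψ (xx B e u))⁻¹ = c.x e u from inv_eq_of_mul_eq_one_right (c.x_sq he hu huu), c.sp.xx_smul he hu, hv,
    zero_smul, add_zero, c.z_plane hvv (by simp [hev]) (by simp [he]) h1, c.z_sm,
    c.x_symm (v := α • v) (by simp [hvv]) (by simp [hev]) (by simp [he]), c.x_sm he (by simp [hv]), c.sp.symm,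
    smul_smul, mul_comm (B v u), mul_comm (B u v) α, mul_assoc (c.z v α),
    c.z_x he he (by simp [hv]) (by simp [hvv]) he (by simp [hv]) n1, ← mul_assoc] at e1
  have k1 : Commute (c.x e ((α * B u v) • v) * c.z e (α * (B u v * B v u))) (s.zs v β) :=
    .mul_left (s.zs_x hvv he (by simp [hv]) (by simp [hvv]) hv (by simp [hvv]) h2).symm (s.zs_z hvv hv he h2 n1).symm
  have k2 : Commute (c.z e (α * (B u v * B v u))) (s.xs e ((β * B u v) • v)) :=
    s.z_xs he he (by simp [hv]) (by simp [hvv]) he (by simp [hv]) n1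
  calc _ = c.x e u * c.z v α * c.x e u * (c.x e u * s.zs v β * c.x e u) := by
        simp only [ZZ, mul_assoc, ← mul_assoc (c.x e u) (c.x e u), c.x_sq he hu huu, one_mul]
    _ = _ := by
        rw [show c.x e u * c.z v α * c.x e u = _ from e1, h.x_zs he hu huu hv hvv h2, mul_assoc (c.z v α),
          mul_assoc (s.zs v β), k1.mul_mul_mul_comm, k2.mul_mul_mul_comm, ZZ, ZZ, PP]
        simp only [mul_assoc]

theorem Rel.xs_ZZ {δ : F} (h : s.Rel δ) {e w v : V} (he : B e e = 0) (hw : B w e = 0) (hww : B w w = 0)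
    (hv : B v e = 0) (hvv : B v v = 0) {α β : F} (h1 : σ α = α) (h2 : σ β = β) :
    s.xs e w * s.ZZ v α β * s.xs e w = s.ZZ v α β * s.PP e ((δ * (β * B w v)) • v) ((α * B w v + β * B w v) • v) *
      s.ZZ e (δ * (α * (B w v * B v w)) + δ * (β * (B w v * B v w)))
        (α * (B w v * B v w) + (1 + δ) * (β * (B w v * B v w))) := by
  have n0 := R4a_N c.sp w v
  have n1 : σ (α * (B w v * B v w)) = α * (B w v * B v w) := by rw [map_mul, h1, n0]
  have n2 : σ (β * (B w v * B v w)) = β * (B w v * B v w) := by rw [map_mul, h2, n0]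
  have n3 : σ (δ * (α * (B w v * B v w))) = δ * (α * (B w v * B v w)) := by rw [map_mul, h.hδ, n1]
  have n4 : σ (δ * (β * (B w v * B v w))) = δ * (β * (B w v * B v w)) := by rw [map_mul, h.hδ, n2]
  have n5 : σ ((1 + δ) * (β * (B w v * B v w))) = (1 + δ) * (β * (B w v * B v w)) := by
    rw [map_mul, map_add, map_one, h.hδ, n2]
  have a1 := h.r3z e w v he hw hww hv hvv α h1
  have a2 := h.r3s e w v he hw hww hv hvv β h2
  have p1 : s.xs e ((α * B w v) • v) = s.PP e ((0 : F) • v) ((α * B w v) • v) := by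
    rw [PP, zero_smul, c.x_zero he, one_mul]
  have p2 : s.xs e ((β * B w v) • v) * c.x e ((δ * (β * B w v)) • v) =
      s.PP e ((δ * (β * B w v)) • v) ((β * B w v) • v) := by
    have := h.toPl.xs_x' he (w := (β * B w v) • v) (w' := (δ * (β * B w v)) • v) (by simp [hv]) (by simp [hvv])
      (by simp [hv]) (by simp [hvv])
    simpa [hvv, s.zs_zero he, PP] using this
  rw [mul_assoc (_ * _) (s.zs e _), s.zs_z he he he n1 n3, p1] at a1
  rw [mul_assoc (_ * _) (s.zs e _), s.zs_z he he he n5 n4, mul_assoc (s.zs v β), p2] at a2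
  have hev := c.sp.zero_symm hv
  have z0 : s.zs v β = s.ZZ v 0 β := by rw [ZZ, c.z_zero, one_mul]
  have k1 : Commute (s.PP e ((0 : F) • v) ((α * B w v) • v) * s.ZZ e _ _) (s.ZZ v 0 β) :=
    .mul_left (ZZ_PP hvv he hv hvv hev hvv (map_zero σ) h2 _ _).symm (ZZ_ZZ he hv hvv n3 n1 (map_zero σ) h2)
  rw [← z0] at k1
  calc _ = s.xs e w * c.z v α * s.xs e w * (s.xs e w * s.zs v β * s.xs e w) := by
        simp only [ZZ, mul_assoc, ← mul_assoc (s.xs e w) (s.xs e w), s.xs_sq he hw hww, one_mul]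
    _ = _ := by
        rw [a1, a2, ← ZZ, ← ZZ, mul_assoc (c.z v α), mul_assoc (s.zs v β), k1.mul_mul_mul_comm,
          (ZZ_PP he he hv hvv he hv n3 n1 _ _).mul_mul_mul_comm, h.toPl.PP_mul he hv hvv, ZZ_mul he n3 n1 n4 n5,
          zero_add, ← ZZ, mul_assoc]

theorem Rel.PP_ZZ {δ κ : F} (h : s.Rel δ) (k1 : κ + σ κ = 1) (k2 : κ * σ κ = δ) {e w v : V} (he : B e e = 0)
    (hw : B w e = 0) (hww : B w w = 0) (hv : B v e = 0) (hvv : B v v = 0) {α β : F} (h1 : σ α = α) (h2 : σ β = β) :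
    s.PP e (κ • w) w * s.ZZ v α β * (s.PP e (κ • w) w)⁻¹ =
      s.ZZ v α β * s.PP e (((α * κ + δ * β) * B w v) • v) (((β * κ + α + β) * B w v) • v) := by
  have hu : B (κ • w) e = 0 := by simp [hw]
  have huu : B (κ • w) (κ • w) = 0 := by simp [hww]
  have n0 := R4a_N c.sp w v
  have t := R4a_tr c.sp
  have a1 := h.xs_ZZ he hw hww hv hvv h1 h2
  have a2 := h.toPl.x_ZZ he hu huu hv hvv h1 h2
  have a3 := h.toR2.PP_comm he hu huu (w := 0) (by simp) (by simp) (u' := (δ * (β * B w v)) • v) (by simp [hv])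
    (by simp [hvv]) (w' := (α * B w v + β * B w v) • v) (by simp [hv]) (by simp [hvv])
  rw [PP.eq_1 s e (κ • w), s.xs_zero he, mul_one] at a3
  generalize hγ : δ * (α * (B w v * B v w)) + δ * (β * (B w v * B v w)) = γ at a1
  generalize hε : α * (B w v * B v w) + (1 + δ) * (β * (B w v * B v w)) = ε at a1
  have n1 : σ γ = γ := by simp only [← hγ, map_add, map_mul σ δ, map_mul σ α, map_mul σ β, h.hδ, h1, h2, n0]
  have n2 : σ ε = ε := by
    simp only [← hε, map_add, map_mul σ (1 + δ), map_mul σ α, map_mul σ β, map_one, h.hδ, h1, h2, n0]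
  have n3 : σ (α * (B (κ • w) v * B v (κ • w))) = α * (B (κ • w) v * B v (κ • w)) := by rw [map_mul, h1, R4a_N c.sp]
  have n4 : σ (β * (B (κ • w) v * B v (κ • w))) = β * (B (κ • w) v * B v (κ • w)) := by rw [map_mul, h2, R4a_N c.sp]
  simp only [map_zero, LinearMap.zero_apply, add_zero, mul_zero] at a3
  have x2 := c.x_sq he hu huu
  calc _ = c.x e (κ • w) * (s.xs e w * s.ZZ v α β * s.xs e w) * c.x e (κ • w) := by
        rw [PP, mul_inv_rev, inv_eq_of_mul_eq_one_right x2, inv_eq_of_mul_eq_one_right (s.xs_sq he hw hww)]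
        simp only [mul_assoc]
    _ = c.x e (κ • w) * s.ZZ v α β * c.x e (κ • w) * (c.x e (κ • w) *
          s.PP e ((δ * (β * B w v)) • v) ((α * B w v + β * B w v) • v) * (c.x e (κ • w) * s.ZZ e γ ε)) := by
        rw [a1, ← (ZZ_x he he hu huu he hu n1 n2).eq]
        simp only [mul_assoc, ← mul_assoc (c.x e (κ • w)) (c.x e (κ • w)), x2, one_mul]
    _ = _ := by
        rw [a2, a3, mul_assoc (_ * c.x e _), ← mul_assoc (s.ZZ e _ _), (ZZ_x he he hu huu he hu (t _ _) (t _ _)).eq,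
          mul_assoc (s.PP e _ _), mul_assoc (c.x e _), ← mul_assoc (c.x e _), x2, one_mul, ZZ_mul he (t _ _) (t _ _) n1 n2,
          mul_assoc (s.ZZ v α β), mul_assoc (s.ZZ v α β), (ZZ_PP he he hv hvv he hv n3 n4 _ _).mul_mul_mul_comm,
          h.toPl.PP_mul he hv hvv, ZZ_mul he n3 n4 (by rw [map_add, t, n1]) (by rw [map_add, t, n2])]
        have s1 := c.sp.symm w v
        simp only [map_smul, LinearMap.smul_apply, map_smulₛₗ, smul_eq_mul, map_mul, map_add, h.hδ, h1, h2, s1]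
        rw [show _ + (_ + γ) = 0 by rw [← hγ]; grind, show _ + (_ + ε) = 0 by rw [← hε]; grind, ZZ_zero he, mul_one]
        congr 3 <;> ring

theorem R4a_K (h : Sp B q) (a : F) : σ (a + σ a) = a + σ a := by rw [map_add, h.ss, add_comm]

theorem RF.K (h : s.RF θ) (a : F) : σ (a + (a + σ a) * θ) = a + (a + σ a) * θ := by
  have := h.hθ
  rw [map_add, map_mul, R4a_K c.sp]
  grind

theorem RF.k2 (h : s.RF θ) : θ * σ θ = θ * θ + θ := by
  have := h.hθ
  grind

theorem zh_eq (v : V) (a : F) : s.zh θ v a = s.ZZ v (a + (a + σ a) * θ) (a + σ a) := rfl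

theorem rr_eq (w v : V) (a : F) : s.rr θ w v a = s.PP v ((σ θ * a) • w) (a • w) := rfl

theorem RF.rr_eq' (h : s.RF θ) {e w : V} (he : B e e = 0) (hw : B w e = 0) (hww : B w w = 0) (a : F) :
    s.rr θ e w a = s.PP e ((θ * σ a) • w) (σ a • w) := by
  rw [rr_eq, h.toPl.PP_symm he hw hww, map_mul, c.sp.ss]

theorem RF.zh_sq (h : s.RF θ) {v : V} (hv : B v v = 0) (a : F) : s.zh θ v a * s.zh θ v a = 1 := by
  rw [zh_eq, ZZ_mul hv (h.K a) (R4a_K c.sp a) (h.K a) (R4a_K c.sp a), CharTwo.add_self_eq_zero,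
    CharTwo.add_self_eq_zero, ZZ_zero hv]

theorem RF.rr_sq (h : s.RF θ) {w v : V} (hv : B v v = 0) (hwv : B w v = 0) (hw : B w w = 0) (a : F) :
    s.rr θ w v a * s.rr θ w v a = 1 := h.toPl.PP_sq hv hwv hw _ _

theorem zh_K {v : V} (hv : B v v = 0) {a : F} (ha : σ a = a) : s.zh θ v a = c.z v a := by
  rw [zh, ha, CharTwo.add_self_eq_zero, zero_mul, add_zero, s.zs_zero hv, mul_one]

theorem RF.zh_add (h : s.RF θ) {v : V} (hv : B v v = 0) (a b : F) : s.zh θ v (a + b) = s.zh θ v a * s.zh θ v b := by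
  rw [zh_eq, zh_eq, zh_eq, ZZ_mul hv (h.K a) (R4a_K c.sp a) (h.K b) (R4a_K c.sp b), map_add]
  congr 1 <;> ring

theorem RF.t_zh (h : s.RF θ) {v : V} (hv : B v v = 0) (a : F) : c.t * s.zh θ v a * c.t = s.zh θ v (σ a) := by
  rw [zh, zh, ← mul_assoc, c.t_z, mul_assoc, mul_assoc, ← mul_assoc c.t, s.tz v hv _ (R4a_K c.sp a),
    s.zs_z hv hv hv (R4a_K c.sp a) (R4a_K c.sp a), ← mul_assoc, ← c.z_add hv (h.K a) (R4a_K c.sp a), c.sp.ss,
    add_comm (σ a) a]
  congr 2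
  grind

theorem RF.zh_eqv (h : s.RF θ) {g : SG F V} (hg : g ∈ SU B) {v : V} (hv : B v v = 0) (a : F) :
    c.Ψ g * s.zh θ v a * (c.Ψ g)⁻¹ = s.zh θ (g • v) a := by
  rw [zh, zh, ← c.z_eqv hg hv (h.K a), ← s.eqv g hg v hv _ (R4a_K c.sp a)]
  group

theorem RF.zh_sm (h : s.RF θ) {v : V} (hv : B v v = 0) (l a : F) : s.zh θ (l • v) a = s.zh θ v (a * (l * σ l)) := by
  rw [zh, zh, c.z_sm, s.sm v hv _ _ (R4a_K c.sp a), map_mul, map_mul, c.sp.ss]
  congr 2 <;> ring

theorem RF.zh_mem (h : s.RF θ) {X : Subgroup G} [X.Normal] (hL : c.L ≤ X) {v : V} (hv : B v v = 0) (a : F) :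
    s.zh θ v a ∈ X := by
  exact mul_mem (hL (c.z_mem _ _)) (h.toPl.mem_normal hL hv (R4a_K c.sp a))

theorem RF.rr_add (h : s.RF θ) {w v : V} (hv : B v v = 0) (hwv : B w v = 0) (hw : B w w = 0) (a b : F) :
    s.rr θ w v (a + b) = s.rr θ w v a * s.rr θ w v b := by
  rw [rr_eq, rr_eq, rr_eq, h.toPl.PP_mul hv hwv hw, mul_add]

theorem RF.x_eq (h : s.RF θ) {w v : V} (hv : B v v = 0) (hwv : B w v = 0) (hw : B w w = 0) (l : F) :
    c.x v (l • w) = s.rr θ w v l * s.rr θ v w (σ l) := by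
  rw [rr_eq, h.rr_eq' hv hwv hw, c.sp.ss, h.toPl.PP_mul hv hwv hw, CharTwo.add_self_eq_zero, ← add_mul, add_comm, h.hθ,
    one_mul, zero_smul, PP, s.xs_zero hv, mul_one]

theorem RF.zh_zh (h : s.RF θ) {v w : V} (hv : B v v = 0) (hwv : B w v = 0) (hw : B w w = 0) (a b : F) :
    Commute (s.zh θ v a) (s.zh θ w b) := by
  exact ZZ_ZZ hv hwv hw (h.K a) (R4a_K c.sp a) (h.K b) (R4a_K c.sp b)

theorem RF.zh_rr (h : s.RF θ) {u v w : V} (hu : B u u = 0) (hv : B v v = 0) (hwv : B w v = 0) (hw : B w w = 0)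
    (hvu : B v u = 0) (hwu : B w u = 0) (a b : F) : Commute (s.zh θ u a) (s.rr θ w v b) := by
  exact ZZ_PP hu hv hwv hw hvu hwu (h.K a) (R4a_K c.sp a) _ _

theorem RF.rr_rr (h : s.RF θ) {X : Submodule F V} (hX : TI B X) {v w v' w' : V} (hv : v ∈ X) (hw : w ∈ X)
    (hv' : v' ∈ X) (hw' : w' ∈ X) (a b : F) : Commute (s.rr θ w v a) (s.rr θ w' v' b) := by
  have m : ∀ {x}, x ∈ X → ∀ l : F, l • x ∈ X := fun h l => X.smul_mem l h
  refine .mul_left (.mul_right ?_ (s.xs_x hX hv' (m hw' _) hv (m hw _)).symm)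
    (.mul_right (s.xs_x hX hv (m hw _) hv' (m hw' _)) (s.xs_xs hX hv (m hw _) hv' (m hw' _)))
  have a1 := c.sp.xx_mem_AW hX hv (m hw (σ θ * a))
  have a2 := c.sp.xx_mem_AW hX hv' (m hw' (σ θ * b))
  exact (c.CB_mul (AW_le _ a1) (AW_le _ a2)).symm.trans
    ((congrArg c.Ψ (c.sp.AW_ab hX a1 a2)).trans (c.CB_mul (AW_le _ a2) (AW_le _ a1)))

theorem RF.q1 (h : s.RF θ) {e w w' : V} (he : B e e = 0) (hw : B w e = 0) (hww : B w w = 0) (hw' : B w' e = 0)
    (hww' : B w' w' = 0) (a b : F) : Commute (s.rr θ e w a) (s.rr θ e w' b) := by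
  have := h.hθ
  rw [h.rr_eq' he hw hww, h.rr_eq' he hw' hww', commute_iff_eq, h.toR2.PP_comm he (by simp [hw]) (by simp [hww])
    (by simp [hw]) (by simp [hww]) (by simp [hw']) (by simp [hww']) (by simp [hw']) (by simp [hww'])]
  simp only [map_smul, LinearMap.smul_apply, map_smulₛₗ, smul_eq_mul, map_mul, c.sp.ss]
  rw [show _ + (θ * θ + θ) * _ = 0 by grind, show _ + _ + _ + (_ + _) = (0 : F) by grind, ZZ_zero he, mul_one]

theorem RF.q2 (h : s.RF θ) {e w w' : V} (he : B e e = 0) (hw : B w e = 0) (hww : B w w = 0) (hw' : B w' e = 0)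
    (hww' : B w' w' = 0) (a b : F) : Commute (s.rr θ w e a) (s.rr θ w' e b) := by
  have := h.hθ
  rw [rr_eq, rr_eq, commute_iff_eq, h.toR2.PP_comm he (by simp [hw]) (by simp [hww])
    (by simp [hw]) (by simp [hww]) (by simp [hw']) (by simp [hww']) (by simp [hw']) (by simp [hww'])]
  simp only [map_smul, LinearMap.smul_apply, map_smulₛₗ, smul_eq_mul, map_mul, c.sp.ss]
  rw [show _ + (θ * θ + θ) * _ = 0 by grind, show _ + _ + _ + (_ + _) = (0 : F) by grind, ZZ_zero he, mul_one]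

theorem RF.q3 (h : s.RF θ) {e w w' : V} (he : B e e = 0) (hw : B w e = 0) (hww : B w w = 0) (hw' : B w' e = 0)
    (hww' : B w' w' = 0) (a b : F) :
    s.rr θ e w a * s.rr θ w' e b * (s.rr θ e w a)⁻¹ * (s.rr θ w' e b)⁻¹ = s.zh θ e (a * b * B w' w) := by
  have := h.hθ
  have k1 := (h.zh_rr he hww (c.sp.zero_symm hw) he hw he (a * b * B w' w) a).eq
  have k2 := (h.zh_rr he he hw' hww' he hw' (a * b * B w' w) b).eq
  rw [mul_inv_eq_iff_eq_mul, mul_inv_eq_iff_eq_mul, k2, mul_assoc, k1, ← mul_assoc, h.rr_eq' he hw hww, rr_eq,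
    h.toR2.PP_comm he (by simp [hw]) (by simp [hww])
    (by simp [hw]) (by simp [hww]) (by simp [hw']) (by simp [hww']) (by simp [hw']) (by simp [hww']), zh_eq]
  simp only [map_smul, LinearMap.smul_apply, map_smulₛₗ, smul_eq_mul, map_mul, c.sp.ss, c.sp.symm]
  congr 2 <;> grind

theorem RF.r1 (h : s.RF θ) {e w v : V} (he : B e e = 0) (hw : B w e = 0) (hww : B w w = 0) (hv : B v e = 0)
    (hvv : B v v = 0) (a b : F) :
    s.rr θ e w a * s.zh θ v b * (s.rr θ e w a)⁻¹ * (s.zh θ v b)⁻¹ = s.rr θ e v (a * b * B v w) := by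
  have := h.hθ
  have k := (h.zh_rr hvv hvv (c.sp.zero_symm hv) he hvv (c.sp.zero_symm hv) b (a * b * B v w)).eq
  rw [mul_inv_eq_iff_eq_mul, ← k, h.rr_eq' he hw hww, h.rr_eq' he hv hvv, mul_smul, zh_eq,
    h.toRel.PP_ZZ h.hθ h.k2 he (by simp [hw]) (by simp [hww]) hv hvv (h.K b) (R4a_K c.sp b)]
  simp only [map_smul, LinearMap.smul_apply, smul_eq_mul, map_mul, c.sp.symm]
  congr 3 <;> grind

theorem RF.r2' (h : s.RF θ) {e w v : V} (he : B e e = 0) (hw : B w e = 0) (hww : B w w = 0) (hv : B v e = 0)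
    (hvv : B v v = 0) (a b : F) :
    s.zh θ v b * s.rr θ w e a * (s.zh θ v b)⁻¹ * (s.rr θ w e a)⁻¹ = s.rr θ v e (b * a * B w v) := by
  have := h.hθ
  have k := (h.zh_rr hvv he hv hvv (c.sp.zero_symm hv) hvv b (b * a * B w v)).eq
  have e1 : s.rr θ w e a * s.zh θ v b * (s.rr θ w e a)⁻¹ = s.zh θ v b * s.rr θ v e (b * a * B w v) := by
    rw [rr_eq, rr_eq, mul_smul, zh_eq, h.toRel.PP_ZZ (κ := σ θ) (by rw [c.sp.ss, add_comm, h.hθ])
      (by rw [c.sp.ss, mul_comm, h.k2]) he (by simp [hw]) (by simp [hww]) hv hvv (h.K b) (R4a_K c.sp b)]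
    simp only [map_smul, LinearMap.smul_apply, smul_eq_mul]
    congr 3 <;> grind
  rw [inv_eq_of_mul_eq_one_right (h.zh_sq hvv b), mul_assoc, mul_assoc, ← mul_assoc (s.rr θ w e a), e1, ← mul_assoc,
    h.zh_sq hvv, one_mul]

end Cfg.Pt

end Cfsg.Agent.U52
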