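import Mathlib
import Cfsg.Agent.U52.Cfg3
import Cfsg.Agent.U52.Rel4a

set_option autoImplicit false
set_option linter.unusedSectionVars false

namespace Cfsg.Agent.U52

open Cfsg Cfsg.Agent.Cl Cfsg.Agent.Loc.Mss Subgroup Module
open Cfsg.Agent.StdB (C1 mem_C1 El)
open scoped commutatorElement

variable {F : Type*} [Field F] [Finite F] [CharP F 2] {σ : F →+* F} {V : Type*} [AddCommGroup V] [Module F V]
  [Finite V] {B : V →ₗ[F] V →ₛₗ[σ] F} {q : ℕ} {G : Type*} [Group G] [Finite G]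

theorem R4b_l {a b d : G} (h : a * b * a⁻¹ * b⁻¹ = d) : a * b * a⁻¹ = d * b := by rw [← h]; group

theorem R4b_r {a b d : G} (h : a * b * a⁻¹ * b⁻¹ = d) (h2 : a * a = 1) : b * a * b⁻¹ = a * d := by
  rw [← h, ← mul_assoc, ← mul_assoc, ← mul_assoc, h2, one_mul, inv_eq_of_mul_eq_one_right h2]

theorem R4b_cj {a b y : G} (h : a * (b * y * b⁻¹) * a⁻¹ = b * (a * y * a⁻¹) * b⁻¹) :
    Commute (a⁻¹ * b⁻¹ * a * b) y := by
  rw [commute_iff_eq, ← mul_inv_eq_iff_eq_mul]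
  calc _ = a⁻¹ * b⁻¹ * (a * (b * y * b⁻¹) * a⁻¹) * (b * a) := by group
    _ = _ := by rw [h]; group

/-- The abstract argument. -/
theorem R4b_abs {α α' ε p r s u v w pa sa αa αa' : G} (α2 : α * α = 1) (ε2 : ε * ε = 1) (r2 : r * r = 1)
    (pa2 : pa * pa = 1) (h1 : p * r * p⁻¹ * r⁻¹ = α) (h2 : s * u * s⁻¹ * u⁻¹ = α')
    (h3 : pa * r * pa⁻¹ * r⁻¹ = αa) (h4 : sa * u * sa⁻¹ * u⁻¹ = αa') (c1 : Commute α p) (c2 : Commute ε p)
    (c3 : Commute α r) (c4 : Commute α v) (c5 : Commute ε s) (c6 : Commute α' ε) (c7 : Commute αa' ε)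
    (c8 : Commute α pa) (c9 : Commute pa sa) (c10 : Commute r u) (c11 : Commute u v)
    (e1 : ε * r * ε⁻¹ = v * r) (e2 : α * s * α⁻¹ = p * s) (e3 : α * u * α⁻¹ = u * r) (e4 : ε * u * ε⁻¹ = w * u)
    (e5 : α * w * α⁻¹ = w * v) (e6 : α' * pa * α'⁻¹ = sa * pa) (e7 : α * sa * α⁻¹ = pa * sa)
    (e8 : α' * r * α'⁻¹ = r * u) : Commute αa ε := by
  have k1 : Commute (α⁻¹ * ε⁻¹ * α * ε) p := R4b_cj (by rw [c1.mul_inv_cancel, c2.mul_inv_cancel, c1.mul_inv_cancel])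
  have k2 : Commute (α⁻¹ * ε⁻¹ * α * ε) r :=
    R4b_cj (by rw [c3.mul_inv_cancel, e1, (c4.mul_right c3).mul_inv_cancel])
  have k3 : Commute (α⁻¹ * ε⁻¹ * α * ε) s :=
    R4b_cj (by rw [c5.mul_inv_cancel, e2, (c2.mul_right c5).mul_inv_cancel])
  have k4 : Commute (α⁻¹ * ε⁻¹ * α * ε) u := R4b_cj (by
    rw [e4, e3, ← conj_mul, ← conj_mul, e5, e3, e4, e1, mul_assoc w, mul_assoc w, c11.left_comm])
  generalize hz : α⁻¹ * ε⁻¹ * α * ε = z at k1 k2 k3 k4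
  have k5 : Commute z α := h1 ▸ ((k1.mul_right k2).mul_right k1.inv_right).mul_right k2.inv_right
  have k6 : Commute z α' := h2 ▸ ((k3.mul_right k4).mul_right k3.inv_right).mul_right k4.inv_right
  have iα := inv_eq_of_mul_eq_one_right α2
  have iε := inv_eq_of_mul_eq_one_right ε2
  have k7 : α * ε * α⁻¹ = z * ε := by rw [← hz, iα, iε, mul_assoc _ ε ε, ε2, mul_one]
  have k8 : z * z = 1 := by
    calc _ = z * (α * z * α⁻¹) := by rw [k5.symm.mul_inv_cancel]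
      _ = 1 := by
        rw [← hz, iα, iε]
        simp only [mul_assoc, ← mul_assoc α α, ← mul_assoc ε ε, α2, ε2, one_mul]
  have k9 : α * α' * α * ε * (α * α' * α)⁻¹ = ε := by
    calc _ = α * (α' * (α * ε * α⁻¹) * α'⁻¹) * α⁻¹ := by group
      _ = _ := by
        rw [k7, (k6.symm.mul_right c6).mul_inv_cancel, ← conj_mul, k5.symm.mul_inv_cancel, k7, ← mul_assoc, k8, one_mul]
  have l1 : α * α' * α * pa * (α * α' * α)⁻¹ = sa := by
    calc _ = α * (α' * (α * pa * α⁻¹) * α'⁻¹) * α⁻¹ := by group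
      _ = _ := by
        rw [c8.mul_inv_cancel, e6, ← conj_mul, e7, c8.mul_inv_cancel, c9.eq, mul_assoc, pa2, mul_one]
  have l2 : α * α' * α * r * (α * α' * α)⁻¹ = u := by
    calc _ = α * (α' * (α * r * α⁻¹) * α'⁻¹) * α⁻¹ := by group
      _ = _ := by
        rw [c3.mul_inv_cancel, e8, ← conj_mul, e3, c3.mul_inv_cancel, ← c10.eq, ← mul_assoc, r2, one_mul]
  generalize α * α' * α = n at k9 l1 l2
  have l3 : αa = n⁻¹ * αa' * n := by rw [← h3, ← h4, ← l1, ← l2]; group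
  rw [commute_iff_eq, l3]
  calc _ = n⁻¹ * (αa' * (n * ε * n⁻¹)) * n := by group
    _ = n⁻¹ * (n * ε * n⁻¹ * αa') * n := by rw [k9, c7.eq]
    _ = _ := by group

namespace Cfg.Pt

variable {c : Cfg B q G} {s : c.Pt} {θ : F}

theorem RF.line (h : s.RF θ) {e w : V} (he : B e e = 0) (hw : B w e = 0) (hww : B w w = 0) (a b : F) :
    Commute (s.rr θ e w a) (s.rr θ w e b) := by
  have := h.q3 he hw hww hw hww a b
  rw [hww, mul_zero, zh_K he (map_zero σ), c.z_zero] at this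
  exact commutatorElement_eq_one_iff_commute.1 this

theorem RF.opp (h : s.RF θ) {e1 f1 e2 f2 : V} (p : Frame B e1 f1 e2 f2) (a b : F) :
    Commute (s.rr θ e1 f2 a) (s.rr θ f1 e2 b) := by
  have b11 := p.p1.left
  have b44 := p.p1.right
  have b14 := p.p1.pair
  have b41 := p.p1.pair'
  have b22 := p.p2.left
  have b33 := p.p2.right
  have b23 := p.p2.pair
  have b32 := p.p2.pair'
  have b12 := p.ee
  have b13 := p.ef
  have b42 := p.fe
  have b43 := p.ff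
  have b21 := c.sp.zero_symm b12
  have b31 := c.sp.zero_symm b13
  have b24 := c.sp.zero_symm b42
  have b34 := c.sp.zero_symm b43
  refine R4b_abs (α := s.rr θ e1 f2 1) (α' := s.rr θ e2 f1 1) (p := s.rr θ e1 e2 1) (r := s.zh θ f2 1)
    (s := s.zh θ e2 1) (u := s.rr θ f2 f1 1) (v := s.rr θ f1 f2 b) (w := s.zh θ f1 b) (pa := s.rr θ e1 e2 a)
    (sa := s.zh θ e2 a) (αa' := s.rr θ e2 f1 a) (h.rr_sq b33 b13 b11 _) (h.rr_sq b22 b42 b44 _) (h.zh_sq b33 _)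
    (h.rr_sq b22 b12 b11 _) (by simpa [b32] using h.r1 b11 b21 b22 b31 b33 1 1)
    (by simpa [b32] using h.r2' b44 b34 b33 b24 b22 1 1) (by simpa [b32] using h.r1 b11 b21 b22 b31 b33 a 1)
    (by simpa [b32] using h.r2' b44 b34 b33 b24 b22 1 a) (h.q1 b11 b31 b33 b21 b22 _ _) (h.q2 b22 b42 b44 b12 b11 _ _)
    (h.zh_rr b33 b33 b13 b11 b33 b13 _ _).symm (h.q2 b33 b13 b11 b43 b44 _ _)
    (h.zh_rr b22 b22 b42 b44 b22 b42 _ _).symm (h.line b22 b42 b44 _ _) (h.line b22 b42 b44 _ _)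
    (h.q1 b11 b31 b33 b21 b22 _ _) (h.zh_rr b22 b22 b12 b11 b22 b12 _ _).symm
    (h.zh_rr b33 b44 b34 b33 b43 b33 _ _) (h.line b33 b43 b44 _ _)
    (R4b_l (by simpa [b32] using h.r1 b44 b24 b22 b34 b33 b 1))
    (R4b_l (by simpa [b23] using h.r1 b11 b31 b33 b21 b22 1 1))
    (R4b_r (by simpa [b14] using h.q3 b33 b43 b44 b13 b11 1 1) (h.rr_sq b44 b34 b33 _))
    (R4b_l (by simpa [b32] using h.q3 b44 b24 b22 b34 b33 b 1))
    (R4b_r (by simpa [b14] using h.r2' b33 b13 b11 b43 b44 1 b) (h.zh_sq b44 _))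
    (R4b_l (by simpa [b14] using h.q3 b22 b42 b44 b12 b11 1 a))
    (R4b_l (by simpa [b23] using h.r1 b11 b31 b33 b21 b22 1 a))
    (R4b_r (by simpa [b23] using h.r2' b44 b24 b22 b34 b33 1 1) (h.zh_sq b33 _))

theorem R4b_B {e1 f1 e2 f2 : V} (h : Sp B q) (p : Frame B e1 f1 e2 f2) (i j : Fin 4) :
    B (![e1, e2, f2, f1] i) (![e1, e2, f2, f1] j) = if i = j.rev then 1 else 0 := by
  have := h.zero_symm p.ee
  have := h.zero_symm p.ef
  have := h.zero_symm p.fe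
  have := h.zero_symm p.ff
  fin_cases i <;> fin_cases j <;>
    simp [*, p.ee, p.ef, p.fe, p.ff, p.p1.left, p.p1.right, p.p1.pair, p.p1.pair', p.p2.left, p.p2.right, p.p2.pair,
      p.p2.pair', Fin.rev]

theorem RF.slRel (h : s.RF θ) {e1 f1 e2 f2 : V} (p : Frame B e1 f1 e2 f2) : Ch.SLRel (s.y4 θ e1 f1 e2 f2) := by
  have hB := R4b_B c.sp p
  unfold y4
  generalize ![e1, e2, f2, f1] = b at hB
  have h0 : ∀ {i j : Fin 4}, i ≠ j.rev → B (b i) (b j) = 0 := fun h => by rw [hB, if_neg h]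
  have h1 : ∀ {i j : Fin 4}, i = j.rev → B (b i) (b j) = 1 := fun h => by rw [hB, if_pos h]
  have hs : ∀ i : Fin 4, B (b i) (b i) = 0 := fun i => h0 (by revert i; decide)
  refine ⟨?_, ?_, ?_⟩
  · rintro ⟨⟨i, j⟩, hij⟩ t u
    dsimp only at hij ⊢
    split_ifs
    · exact h.zh_add (hs _) _ _
    · exact h.rr_add (hs _) (h0 (by rwa [Fin.rev_rev])) (hs _) _ _
  · rintro ⟨⟨i, j⟩, hij⟩ ⟨⟨k, l⟩, hkl⟩ t u hil hjk
    dsimp only at hij hkl hil hjk ⊢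
    split_ifs with a1 a2 a2
    · exact h.zh_zh (hs _) (h0 (by rw [a1, Fin.rev_rev]; exact hjk.symm)) (hs _) _ _
    · exact h.zh_rr (hs _) (hs _) (h0 (by rwa [Fin.rev_rev])) (hs _) (h0 (by simpa using hil.symm))
        (h0 (by rw [a1, Fin.rev_rev]; exact hjk.symm)) _ _
    · exact (h.zh_rr (hs _) (hs _) (h0 (by rwa [Fin.rev_rev])) (hs _) (h0 (by simpa using hjk))
        (h0 (by rwa [a2, Fin.rev_rev])) _ _).symm
    · obtain rfl | rfl | ⟨rfl, rfl⟩ | ⟨rfl, rfl⟩ :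
          i = k ∨ j = l ∨ (k = j.rev ∧ l = i.rev) ∨ (k = i.rev ∧ l = j.rev) := by
        simp only [Fin.ext_iff, Fin.val_rev, ne_eq] at *
        omega
      · exact h.q1 (hs _) (h0 (by simpa using hij.symm)) (hs _) (h0 (by simpa using hkl.symm)) (hs _) _ _
      · exact h.q2 (hs _) (h0 (by rwa [Fin.rev_rev])) (hs _) (h0 (by rwa [Fin.rev_rev])) (hs _) _ _
      · rw [Fin.rev_rev]
        exact h.line (hs _) (h0 (by simpa using hij.symm)) (hs _) _ _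
      · rw [Fin.rev_rev]
        exact h.opp ⟨⟨hs _, hs _, h1 (Fin.rev_rev _).symm, h1 rfl⟩, ⟨hs _, hs _, h1 (Fin.rev_rev _).symm, h1 rfl⟩,
          h0 a1, h0 (by rwa [Fin.rev_rev]), h0 (by simpa using hij), h0 a2⟩ _ _
  · rintro ⟨⟨i, j⟩, hij⟩ ⟨⟨k, l⟩, hkl⟩ hil t u hjk
    dsimp only at hij hkl hil hjk ⊢
    subst hjk
    obtain ⟨rfl, a2, a3⟩ | ⟨a1, rfl, a3⟩ | ⟨a1, a2, rfl⟩ : (i = j.rev ∧ j ≠ l.rev ∧ i ≠ l.rev) ∨
        (i ≠ j.rev ∧ j = l.rev ∧ i ≠ l.rev) ∨ (i ≠ j.rev ∧ j ≠ l.rev ∧ i = l.rev) := by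
      revert i j l; decide
    · rw [if_pos rfl, if_neg a2, if_neg a3, h.r2' (hs _) (h0 (by rwa [Fin.rev_rev])) (hs _) (h0 (by rwa [Fin.rev_rev]))
        (hs _), h1 (Fin.rev_rev _).symm, mul_one]
    · rw [if_pos rfl, if_neg a1, if_neg a3, h.r1 (hs _) (h0 (Fin.rev_injective.ne hij.symm)) (hs _)
        (h0 (by simpa using hil.symm)) (hs _), h1 (Fin.rev_rev _).symm, mul_one]
    · rw [if_pos rfl, if_neg a1, if_neg a2, h.q3 (hs _) (h0 (Fin.rev_injective.ne hij.symm)) (hs _)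
        (h0 (by rwa [Fin.rev_rev])) (hs _), h1 (Fin.rev_rev _).symm, mul_one]

end Cfg.Pt

end Cfsg.Agent.U52
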