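import Mathlib
import Cfsg.Agent.U52.Cfg3
import Cfsg.Agent.U52.Glue
import Cfsg.Agent.U52.Can
import Cfsg.Agent.U52.SLc

set_option autoImplicit false
set_option linter.unusedSectionVars false

namespace Cfsg.Agent.U52

open Cfsg Cfsg.Agent.Cl Cfsg.Agent.Loc.Mss Subgroup Module
open Cfsg.Agent.StdB (C1 mem_C1 El)
open scoped commutatorElement

variable {F : Type*} [Field F] [Finite F] [CharP F 2] {σ : F →+* F} {V : Type*} [AddCommGroup V] [Module F V]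
  [Finite V] {B : V →ₗ[F] V →ₛₗ[σ] F} {q : ℕ} {G : Type*} [Group G] [Finite G]

namespace FdMk

theorem act_of (h : Sp B q) {ρ : SL F V →* G} {g : G} {γ : SG F V} (hγ : γ ∈ Gam B)
    (e : ∀ v, B v v = 0 → ∀ a, g * ev ρ (tv B v a) * g⁻¹ = ev ρ (tv B (γ • v) (fld γ a))) : Act ρ g γ := by
  intro x hx
  have hx' := hx
  rw [h.SL_gen] at hx'
  induction hx' using closure_induction with
  | mem x hx' => obtain ⟨v, a, hv, rfl⟩ := hx'; rw [e v hv, tv_conj hγ hv]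
  | one => simp [ev_one]
  | mul x y hx' hy' ix iy =>
    rw [← h.SL_gen] at hx' hy'
    rw [ev_mul hx' hy', ← conj_mul, ix hx', iy hy', ← ev_mul (conj_mem_SL γ hx') (conj_mem_SL γ hy'), conj_mul]
  | inv x hx' ix =>
    rw [← h.SL_gen] at hx'
    rw [ev_inv hx', ← conj_inv, ix hx', ← ev_inv (conj_mem_SL γ hx'), conj_inv]

variable {c : Cfg B q G} {s : c.Pt} {θ : F}

theorem fix1 (h : Sp B q) (a : F) : σ (a + σ a) = a + σ a := by rw [map_add, h.ss, add_comm]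

theorem fix2 (h : s.RF θ) (a : F) : σ (a + (a + σ a) * θ) = a + (a + σ a) * θ := by
  have e : σ θ = 1 + θ := by rw [← h.hθ, add_comm θ, add_assoc, CharTwo.add_self_eq_zero, add_zero]
  rw [map_add, map_mul, fix1 c.sp, e]
  linear_combination σ a * CharTwo.two_eq_zero (R := F)

theorem cj_zh (h : s.RF θ) {g : G} {γ : SG F V} (hγ : γ ∈ Gam B) (ha : Act c.ψ g γ) {ξ : F} (hξ : σ ξ = ξ)
    (e : ∀ v, B v v = 0 → ∀ a, σ a = a →
      g * s.zs v a * g⁻¹ = s.zs (γ • v) (fld γ a) * c.z (γ • v) (ξ * fld γ a)) {v : V} (hv : B v v = 0) (a : F) :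
    g * s.zh θ v a * g⁻¹ = c.z (γ • v) (fld γ a + (fld γ a + σ (fld γ a)) * (fld γ θ + ξ)) *
      s.zs (γ • v) (fld γ a + σ (fld γ a)) := by
  have hv' : B (γ • v) (γ • v) = 0 := (Gam_zero hγ).2 hv
  have e1 : fld γ (a + σ a) = fld γ a + σ (fld γ a) := by rw [map_add, c.sp.aut_σ]
  have k : σ (ξ * (fld γ a + σ (fld γ a))) = ξ * (fld γ a + σ (fld γ a)) := by rw [map_mul, hξ, fix1 c.sp]
  rw [Cfg.Pt.zh, ← conj_mul, c.z_act hγ ha hv (fix2 h a), e v hv _ (fix1 c.sp a), e1,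
    s.zs_z hv' hv' hv' (fix1 c.sp _) k, ← mul_assoc, ← c.z_add hv' (c.sp.aut_fix _ (fix2 h a)) k, map_add, map_mul,
    e1]
  congr 2
  ring

end FdMk

theorem Cfg.Pt.RF.fd {c : Cfg B q G} {s : c.Pt} {θ : F} (h : s.RF θ) (h2 : c.Two) : Nonempty c.Fd := by
  obtain ⟨ρ, hρ⟩ := h.glue
  have sp := c.sp
  have hs : {g | ∃ v a, B v v = 0 ∧ g = tv B v a} ⊆ (SL F V : Set (SG F V)) := by
    rintro _ ⟨v, a, hv, rfl⟩; exact tv_mem_SL hv a
  refine ⟨⟨ρ, ?_, fun x hx => ?_, fun x hx x' hd => ?_, fun g hg γ hγ ha => ?_, fun X hX hL => ?_⟩⟩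
  · have key : ∀ x ∈ SL F V, x ∈ ρ.ker.map (SL F V).subtype ↔ ev ρ x = 1 := fun x hx =>
      ⟨fun ⟨y, hy, e⟩ => by rw [← e]; exact (ev_coe (f := ρ) y).trans hy,
        fun e => ⟨⟨x, hx⟩, by rwa [ev_of_mem hx] at e, rfl⟩⟩
    have hle' : ρ.ker.map (SL F V).subtype ≤ SL F V := map_subtype_le _
    rcases sp.SL_normal hle' fun x hx => mem_norm_of_cj_le (cj_le_iff.2 fun y hy => by
      rw [key _ (conj_mem_of_norm (le_normalizer hx) (hle' hy)), ev_conj hx (hle' hy),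
        (key y (hle' hy)).1 hy, mul_one, mul_inv_cancel]) with e | e
    · exact fun x hx e' => e ((key x hx).2 e')
    · obtain ⟨v, hv⟩ := sp.exists_iso
      have := (key _ (tv_mem_SL hv.iso 1)).1 (e.ge (tv_mem_SL hv.iso 1))
      rw [hρ v hv.iso, Cfg.Pt.zh_K hv.iso (map_one σ), c.z_eq_one hv (map_one σ)] at this
      exact absurd this one_ne_zero
  · rw [sp.SU_gen] at hx
    refine ev_ext ?_ ?_ ?_ hx
    · rintro _ ⟨v, a, hv, -, rfl⟩; exact tv_mem_SL hv a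
    · rintro _ ⟨v, a, hv, ha, rfl⟩; exact sp.tv_mem hv ha
    · rintro _ ⟨v, a, hv, ha, rfl⟩; rw [hρ v hv, Cfg.Pt.zh_K hv ha]; rfl
  · obtain ⟨du, hdu⟩ := sp.exists_du
    obtain rfl := sp.dual_unique hd (hdu x)
    clear hd
    have hx' := hx
    rw [sp.SL_gen] at hx'
    have ht : ∀ y, c.t * y * c.t = c.t * y * c.t⁻¹ := fun y => by rw [c.t_inv]
    induction hx' using closure_induction with
    | mem x hx' =>
      obtain ⟨v, a, hv, rfl⟩ := hx'
      rw [sp.dual_unique (hdu _) (sp.dual_tv hv a), hρ v hv, hρ v hv, h.t_zh hv]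
    | one => rw [map_one, ev_one, mul_one, c.t2]
    | mul x y hx' hy' ix iy =>
      rw [← sp.SL_gen] at hx' hy'
      rw [ev_mul hx' hy', map_mul, ev_mul (sp.dual_SL (hdu x) hx') (sp.dual_SL (hdu y) hy'), ← ix hx', ← iy hy',
        ht, ht, ht, conj_mul]
    | inv x hx' ix =>
      rw [← sp.SL_gen] at hx'
      rw [ev_inv hx', map_inv, ev_inv (sp.dual_SL (hdu x) hx'), ← ix hx', ht, ht, conj_inv]
  · obtain ⟨ξ, hξ, e1, e2⟩ := h.toRel.can2 h2 hg hγ ha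
    have e3 : (fld γ θ + ξ + θ) * (fld γ θ + ξ + θ + 1) = 0 := by
      rw [map_add, map_mul] at e1
      linear_combination e1 + (θ * θ + θ + ξ + ξ * ξ + fld γ θ * ξ + fld γ θ * θ + ξ * θ) *
        CharTwo.two_eq_zero (R := F)
    rcases mul_eq_zero.1 e3 with e | e
    · refine Or.inl (FdMk.act_of sp hγ fun v hv a => ?_)
      rw [hρ v hv, hρ _ ((Gam_zero hγ).2 hv), FdMk.cj_zh h hγ ha hξ e2 hv, CharTwo.add_eq_zero.1 e]
      rfl
    · refine Or.inr (FdMk.act_of sp hγ fun v hv a => ?_)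
      have e' : fld γ θ + ξ = θ + 1 := by linear_combination e - (θ + 1) * CharTwo.two_eq_zero (R := F)
      rw [hρ v hv, hρ _ ((Gam_zero hγ).2 hv), show g * c.t * s.zh θ v a * (g * c.t)⁻¹ =
        g * (c.t * s.zh θ v a * c.t) * g⁻¹ by rw [mul_inv_rev, c.t_inv]; simp only [mul_assoc], h.t_zh hv,
        FdMk.cj_zh h hγ ha hξ e2 hv, e', sp.aut_σ, sp.ss, add_comm (σ (fld γ a)) (fld γ a), Cfg.Pt.zh]
      congr 2
      linear_combination σ (fld γ a) * CharTwo.two_eq_zero (R := F)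
  · rw [← im_self, show im ρ (SL F V) = im ρ (closure _) by rw [← sp.SL_gen]]
    refine im_closure_le hs ?_
    rintro _ ⟨v, a, hv, rfl⟩
    rw [hρ v hv]
    exact h.zh_mem hL hv a

end Cfsg.Agent.U52
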