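import Mathlib
import Cfsg.Agent.U52.Cfg3
import Cfsg.Agent.U52.M1
import Cfsg.Agent.U52.AWb
import Cfsg.Agent.U52.Cen
import Cfsg.Agent.U52.Flag

set_option autoImplicit false
set_option linter.unusedSectionVars false

namespace Cfsg.Agent.U52

open Cfsg Cfsg.Agent.Cl Cfsg.Agent.Loc.Mss Subgroup Module
open Cfsg.Agent.StdB (C1 mem_C1 El)
open scoped commutatorElement

variable {F : Type*} [Field F] [Finite F] [CharP F 2] {σ : F →+* F} {V : Type*} [AddCommGroup V] [Module F V]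
  [Finite V] {B : V →ₗ[F] V →ₛₗ[σ] F} {q : ℕ} {G : Type*} [Group G] [Finite G]

namespace Sp

variable (h : Sp B q)
include h

theorem N1a_sq (a : F) : σ a = a * a := by rw [h.uf.pow, h.q2, pow_two]

theorem N1a_cube {a : F} (ha : a ≠ 0) : a ^ 3 = 1 := by
  have := h.ss a
  rw [h.N1a_sq, h.N1a_sq] at this
  exact mul_left_cancel₀ ha (by linear_combination this)

theorem N1a_det {a : F} {k k' : V ≃ₗ[F] V} (e : ∀ x, k' x = a • k x) :
    LinearMap.det (k' : V →ₗ[F] V) = a ^ 5 * LinearMap.det (k : V →ₗ[F] V) := by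
  have : (k' : V →ₗ[F] V) = a • (k : V →ₗ[F] V) := LinearMap.ext e
  rw [this, LinearMap.det_smul, h.five]

theorem N1a_four {l : F} (hl : l * l = l + 1) (c : F) : c = 0 ∨ c = 1 ∨ c = l ∨ c = l + 1 := by
  have h2 : (2 : F) = 0 := CharTwo.two_eq_zero
  have := h.ss c
  rw [h.N1a_sq, h.N1a_sq] at this
  have e : c * ((c + 1) * ((c + l) * (c + (l + 1)))) = 0 := by
    linear_combination this + (c * c + c) * hl + ((c * c + c) * (c * l + l + 1) + c * c * c) * h2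
  simpa only [mul_eq_zero, CharTwo.add_eq_zero] using e

theorem N1a_om : ∃ ω : F, ω * ω = ω + 1 := by
  obtain ⟨ω, hω⟩ := h.exists_omega
  have h2 : (2 : F) = 0 := CharTwo.two_eq_zero
  rw [h.N1a_sq] at hω
  exact ⟨ω, by linear_combination hω - ω * h2⟩

theorem K_two {a : F} (ha : σ a = a) : a = 0 ∨ a = 1 := by
  rw [h.N1a_sq] at ha
  exact (mul_eq_zero.1 (by linear_combination ha : a * (a - 1) = 0)).imp_right sub_eq_zero.1

theorem norm_one {l : F} (hl : l ≠ 0) : l * σ l = 1 := by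
  rw [h.N1a_sq]
  linear_combination h.N1a_cube hl

theorem Sc_SU {s : SG F V} (hs : s ∈ Sc F V) (hu : s ∈ SU B) : s = 1 := by
  obtain ⟨hf, a, ha, e⟩ := hs
  obtain ⟨k, hk, rfl⟩ := hu
  have h1 := h.N1a_det (a := a) (k := 1) (k' := k) e
  rw [(mem_USG'.1 hk).2, LinearEquiv.coe_toLinearMap_one, LinearMap.det_id, mul_one] at h1
  have h3 := h.N1a_cube ha
  have a1 : a = 1 := by linear_combination a * h1 + (a ^ 3 + 1) * h3
  exact SG.ext2 (fun x => by rw [e, a1, one_smul, one_smul]) hf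

theorem lin_dec {g : SG F V} (hg : g ∈ Gam B) (hf : fld g = 1) : ∃ s ∈ Sc F V, ∃ a ∈ SU B, g = s * a := by
  obtain ⟨k, rfl⟩ := exists_lin hf
  set d := LinearMap.det (k : V →ₗ[F] V) with hd
  have d0 : d ≠ 0 := (LinearEquiv.isUnit_det' k).ne_zero
  refine ⟨(sc V d)⁻¹, inv_mem (sc_mem d), sc V d * lin k, ?_, by group⟩
  have hG : sc V d * lin k ∈ Gam B := mul_mem (h.sc_mem_Gam (h.norm_one d0)) hg
  obtain ⟨k', hk'⟩ := exists_lin (g := sc V d * lin k) (by rw [map_mul, fld_sc, fld_lin, mul_one])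
  rw [← hk'] at hG ⊢
  refine lin_mem_SU.2 (mem_USG'.2 ⟨lin_mem_Gam.1 hG, ?_⟩)
  rw [h.N1a_det (a := d) (k := k) fun x => by rw [← lin_smul, hk', mul_smul, sc_smul d0, lin_smul], ← hd]
  linear_combination (d ^ 3 + 1) * h.N1a_cube d0

theorem fld_sq (φ : RingAut F) : φ * φ = 1 := by
  obtain ⟨ω, hω⟩ := h.N1a_om
  have h1 : φ ω * φ ω = φ ω + 1 := by rw [← map_mul, hω, map_add, map_one]
  have h2 : φ (φ ω) = ω := by
    rcases h.N1a_four hω (φ ω) with e | e | e | e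
    · rw [e] at h1; simp at h1
    · rw [e, CharTwo.add_self_eq_zero] at h1; simp at h1
    · rw [e, e]
    · rw [e, map_add, map_one, e, add_assoc, CharTwo.add_self_eq_zero, add_zero]
  refine RingEquiv.ext fun c => ?_
  change φ (φ c) = c
  rcases h.N1a_four hω c with rfl | rfl | rfl | rfl
  · simp
  · simp
  · exact h2
  · rw [map_add, map_add, map_one, map_one, h2]

theorem M1_le_PW (e : V) : M1 B e ≤ PW B (F ∙ e) := (FW_span e).ge.trans (FW_le_PW _)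

theorem N1a_eig {e : V} {g : SG F V} (hs : g ∈ St (F ∙ e)) : ∃ l : F, g • e = l • e := by
  obtain ⟨l, hl⟩ := Submodule.mem_span_singleton.1 (St.mem hs (Submodule.mem_span_singleton_self e))
  exact ⟨l, hl.symm⟩

theorem two_M1 {e : V} (he : Iso B e) {g : SG F V} (hg : g ∈ PW B (F ∙ e)) {n : ℕ} (h2 : g ^ 2 ^ n = 1) :
    g ∈ M1 B e := by
  obtain ⟨l, hl⟩ := h.N1a_eig hg.2
  have := Cen.eig_two (U := ⊥) (x := e) (m := l) (fld_SU hg.1) (fun u hu => by
    rw [(Submodule.mem_bot F).1 hu, smul_zero]; exact zero_mem _) (by simpa using he.ne)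
    (by rw [hl, sub_self]; exact zero_mem _) h2
  exact mem_M1.2 ⟨hg.1, by rw [hl, this, one_smul]⟩

theorem St_of_comm {e : V} (he : Iso B e) {g : SG F V} (hg : g ∈ Gam B) (hc : g * tv B e 1 = tv B e 1 * g) :
    g ∈ St (F ∙ e) := h.norm_Q_of_cen he hg one_ne_zero hc

theorem comm_of_St {e : V} (he : Iso B e) {g : SG F V} (hg : g ∈ Gam B) (hs : g ∈ St (F ∙ e)) :
    g * tv B e 1 = tv B e 1 * g := by
  obtain ⟨l, hl⟩ := h.N1a_eig hs
  have := tv_conj hg he.iso 1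
  rw [hl, map_one, tv_sm, h.norm_one (Cen.eig_ne he.ne hl), mul_one] at this
  exact mul_inv_eq_iff_eq_mul.1 this

theorem St_norm_Q {e : V} (he : Iso B e) : Gam B ⊓ St (F ∙ e) ≤ 𝐍[Qv B e] := h.RW_norm

theorem St_norm_PW {e : V} : Gam B ⊓ St (F ∙ e) ≤ 𝐍[PW B (F ∙ e)] := fun _ hg =>
  mem_norm_of_cj_le (cj_le_iff.2 fun _ ha => mem_PW.2 ⟨conj_mem_SU hg.1 ha.1,
    mul_mem (mul_mem (mem_inf.1 hg).2 (mem_PW.1 ha).2) (inv_mem (mem_inf.1 hg).2)⟩)

theorem PW_cen_Q {e : V} (he : Iso B e) {g : SG F V} (hg : g ∈ SU B) (hc : g ∈ 𝐂[Qv B e]) :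
    g = 1 ∨ g = tv B e 1 := by
  obtain ⟨s, hs, z, hz, rfl⟩ := h.cen_Q he (SU_le_Gam hg) hc
  have : s = 1 := h.Sc_SU hs (by simpa using mul_mem hg (inv_mem (Zv_le e hz)))
  obtain ⟨a, ha, rfl⟩ := (h.mem_Zv he).1 hz
  rw [this, one_mul]
  rcases h.K_two ha with rfl | rfl
  exacts [Or.inl (tv_zero e), Or.inr rfl]

theorem exists_w {e1 f1 e2 f2 : V} (p : Frame B e1 f1 e2 f2) :
    ∃ w, B w w = 1 ∧ B w e1 = 0 ∧ B w f1 = 0 ∧ B w e2 = 0 ∧ B w f2 = 0 := by
  have n0 : Disjoint (⊥ : Submodule F V) (uPerp B ⊥) := disjoint_bot_left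
  have m0 : ∀ x : V, x ∈ uPerp B ⊥ := fun x y hy => by rw [(Submodule.mem_bot F).1 hy]; simp
  obtain ⟨n1, d1⟩ := h.AWb_sup n0 (m0 e1) (m0 f1) p.p1
  rw [finrank_bot] at d1
  obtain ⟨n2, d2⟩ := h.AWb_sup n1 (e := e2) (f := f2)
    (by simp only [uPerp_sup, Submodule.mem_inf, mem_uPerp_span_pair]; exact ⟨m0 _, p.ee, p.fe⟩)
    (by simp only [uPerp_sup, Submodule.mem_inf, mem_uPerp_span_pair]; exact ⟨m0 _, p.ef, p.ff⟩) p.p2
  obtain ⟨w, hw, w0⟩ := h.herm.exists_perp_nonisotropic n2 (by have := h.five; omega)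
  simp only [uPerp_sup, Submodule.mem_inf, mem_uPerp_span_pair] at hw
  exact ⟨w, (h.K_two (h.symm w w)).resolve_left w0, h.zero_symm hw.1.2.1, h.zero_symm hw.1.2.2,
    h.zero_symm hw.2.1, h.zero_symm hw.2.2⟩

theorem frame_dec {e1 f1 e2 f2 w : V} (p : Frame B e1 f1 e2 f2) (hw : B w w = 1) (h1 : B w e1 = 0) (h2 : B w f1 = 0)
    (h3 : B w e2 = 0) (h4 : B w f2 = 0) (x : V) :
    x = B x f1 • e1 + B x e1 • f1 + B x f2 • e2 + B x e2 • f2 + B x w • w := by
  have key : ∀ (c : Fin 5 → F) (y : V), ∑ i, c i • ![e1, f1, e2, f2, w] i = y →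
      B y f1 = c 0 ∧ B y e1 = c 1 ∧ B y f2 = c 2 ∧ B y e2 = c 3 ∧ B y w = c 4 := by
    rintro c y rfl
    simp [Fin.sum_univ_five, p.p1.left, p.p1.right, p.p1.pair, p.p1.pair', p.p2.left, p.p2.right, p.p2.pair,
      p.p2.pair', p.ee, p.ef, p.fe, p.ff, h.zero_symm p.ee, h.zero_symm p.ef, h.zero_symm p.fe, h.zero_symm p.ff,
      hw, h1, h2, h3, h4, h.zero_symm h1, h.zero_symm h2, h.zero_symm h3, h.zero_symm h4]
  have li : LinearIndependent F ![e1, f1, e2, f2, w] := by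
    rw [Fintype.linearIndependent_iff]
    intro c hc i
    obtain ⟨a0, a1, a2, a3, a4⟩ := key c 0 hc
    simp only [map_zero, LinearMap.zero_apply] at a0 a1 a2 a3 a4
    fin_cases i
    exacts [a0.symm, a1.symm, a2.symm, a3.symm, a4.symm]
  have hx : x ∈ Submodule.span F (Set.range ![e1, f1, e2, f2, w]) := by
    rw [li.span_eq_top_of_card_eq_finrank' (by rw [h.five, Fintype.card_fin])]
    trivial
  obtain ⟨c, hc⟩ := (Submodule.mem_span_range_iff_exists_fun F).1 hx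
  obtain ⟨a0, a1, a2, a3, a4⟩ := key c x hc
  rw [a0, a1, a2, a3, a4, ← hc]
  simp [Fin.sum_univ_five]

theorem frame_fix {e1 f1 e2 f2 : V} (p : Frame B e1 f1 e2 f2) {g : SG F V} (hg : g ∈ SU B) (h1 : g • e1 = e1)
    (h2 : g • f1 = f1) (h3 : g • e2 = e2) (h4 : g • f2 = f2) : g = 1 := by
  obtain ⟨w, hw, w1, w2, w3, w4⟩ := h.exists_w p
  have o : ∀ v, g • v = v → B w v = 0 → B (g • w) v = 0 := fun v hv e => by rw [← hv, SU_map hg, e]
  have gw := h.frame_dec p hw w1 w2 w3 w4 (g • w)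
  rw [o _ h1 w1, o _ h2 w2, o _ h3 w3, o _ h4 w4] at gw
  simp only [zero_smul, zero_add] at gw
  set μ := B (g • w) w with hμ
  have w0 : w ≠ 0 := by rintro rfl; simp at hw
  have m0 : 1 + (μ - 1) * B w w ≠ 0 := by
    rw [hw, mul_one, add_sub_cancel]; exact Cen.eig_ne w0 gw
  have hf := fld_SU hg
  have key : ∀ x, g • x = x + ((μ - 1) * B x w) • w := fun x => by
    have hx := h.frame_dec p hw w1 w2 w3 w4 x
    have := congrArg (g • ·) hx
    simp only [smul_add, smul_sm_of hf, h1, h2, h3, h4] at this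
    rw [gw] at this
    generalize g • x = y at this ⊢
    linear_combination (norm := module) this - hx
  obtain ⟨k, hk, rfl⟩ := hg
  have e : k = uRefl B w (μ - 1) := LinearEquiv.ext fun x => by rw [uRefl_apply m0, ← key, lin_smul]
  have d := (mem_USG'.1 hk).2
  rw [e, det_uRefl m0, hw, mul_one, add_sub_cancel] at d
  exact SG.ext2 (fun x => by rw [key, d, sub_self, zero_mul, zero_smul, add_zero, one_smul]) hf

theorem exists_om {e f : V} (p : UHypPair B e f) {l : F} (hl : l ≠ 0) :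
    ∃ d ∈ SU B, d ^ 3 = 1 ∧ d • e = e ∧ d • f = f ∧ ∀ x, B x e = 0 → B x f = 0 → d • x = l • x := by
  have li : l⁻¹ ≠ 0 := inv_ne_zero hl
  have n1 := h.norm_one hl
  have c3 := h.N1a_cube hl
  have hG : sc V l * hy B e f l⁻¹ ∈ Gam B := mul_mem (h.sc_mem_Gam n1) (h.hy_mem_Gam p li)
  refine ⟨sc V l * hy B e f l⁻¹, ?_, ?_, ?_, ?_, fun x a b => ?_⟩
  · obtain ⟨k', hk'⟩ := exists_lin (g := sc V l * hy B e f l⁻¹) (by rw [map_mul, fld_sc, fld_hy, mul_one])
    rw [← hk'] at hG ⊢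
    refine lin_mem_SU.2 (mem_USG'.2 ⟨lin_mem_Gam.1 hG, ?_⟩)
    rw [h.N1a_det (a := l) (k := uHyp B e f l⁻¹) fun x => by
      rw [← lin_smul, hk', mul_smul, sc_smul hl, hy, lin_smul], p.det_uHyp li, map_inv₀, inv_inv, h.N1a_sq]
    field_simp
    linear_combination (l ^ 3 + 1) * c3
  · have hc : Commute (sc V l) (hy B e f l⁻¹) := Sc_comm (sc_mem l) (fld_hy _ _ _)
    have e1 : sc V l ^ 3 = 1 := SG.ext2 (fun x => by
      rw [pow_succ, pow_two, mul_smul, mul_smul, sc_smul hl, sc_smul hl, sc_smul hl, smul_smul, smul_smul,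
        show l * l * l = 1 by linear_combination c3, one_smul, one_smul]) (by rw [map_pow, fld_sc, one_pow, map_one])
    have e2 : hy B e f l⁻¹ ^ 3 = 1 := by
      rw [pow_succ, pow_two, hy_mul p li li, hy_mul p (mul_ne_zero li li) li,
        show l⁻¹ * l⁻¹ * l⁻¹ = 1 by linear_combination h.N1a_cube li, hy_one p]
    rw [hc.mul_pow, e1, e2, one_mul]
  · rw [mul_smul, hy_left p li, sc_smul hl, smul_smul, mul_inv_cancel₀ hl, one_smul]
  · rw [mul_smul, hy_right p li, sc_smul hl, smul_smul, map_inv₀, inv_inv, n1, one_smul]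
  · rw [mul_smul, hy_perp p li a b, sc_smul hl]

end Sp

end Cfsg.Agent.U52
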