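import Mathlib
import Cfsg.Agent.U52.Cfg3
import Cfsg.Agent.U52.N1a

set_option autoImplicit false
set_option linter.unusedSectionVars false

namespace Cfsg.Agent.U52

open Cfsg Cfsg.Agent.Cl Cfsg.Agent.Loc.Mss Subgroup Module
open Cfsg.Agent.StdB (C1 mem_C1 El)
open scoped commutatorElement

variable {F : Type*} [Field F] [Finite F] [CharP F 2] {σ : F →+* F} {V : Type*} [AddCommGroup V] [Module F V]
  [Finite V] {B : V →ₗ[F] V →ₛₗ[σ] F} {q : ℕ} {G : Type*} [Group G] [Finite G]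

namespace N1b

variable (B) in
/-- The group generated by the Eichler maps that fix `e`. -/
noncomputable def H (e : V) : Subgroup (SG F V) :=
  closure {g | ∃ v u s, Iso B v ∧ B v e = 0 ∧ B u v = 0 ∧ B u e = 0 ∧ s + σ s = B u u ∧ g = ei B v u s}

variable (B) in
/-- The elements of `H` that fix `e` and `f`. -/
noncomputable def K (e f : V) : Subgroup (SG F V) := H B e ⊓ (M1 B e ⊓ M1 B f)

variable (B) in
/-- The orbit relation of `K`. -/
def R (e f v v' : V) : Prop := ∃ x ∈ K B e f, x • v = v'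

variable (B) in
/-- The vectors orthogonal to `e` and `f`. -/
def U (e f v : V) : Prop := B v e = 0 ∧ B v f = 0

theorem R.symm {e f v v' : V} (r : R B e f v v') : R B e f v' v := by
  obtain ⟨x, hx, rfl⟩ := r
  exact ⟨x⁻¹, inv_mem hx, inv_smul_smul _ _⟩

theorem R.trans {e f u v w : V} (r : R B e f u v) (r' : R B e f v w) : R B e f u w := by
  obtain ⟨x, hx, rfl⟩ := r
  obtain ⟨y, hy, rfl⟩ := r'
  exact ⟨y * x, mul_mem hy hx, mul_smul _ _ _⟩

theorem U.add {e f v v' : V} (a : U B e f v) (b : U B e f v') : U B e f (v + v') :=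
  ⟨by simp [a.1, b.1], by simp [a.2, b.2]⟩

theorem U.sm {e f v : V} (a : U B e f v) (c : F) : U B e f (c • v) := ⟨by simp [a.1], by simp [a.2]⟩

variable (h : Sp B q)
include h

theorem mv {e a b b' : V} (p : UHypPair B a b) (p' : UHypPair B a b') (ha : B a e = 0) (hb : B b e = B b' e) :
    ∃ x ∈ H B e, x ∈ SU B ∧ x • b = b' ∧ ∀ y, B y a = 0 → B y b = B y b' → x • y = y := by
  have two : (2 : F) = 0 := CharTwo.two_eq_zero
  have h1 : B (b + b' + B b' b • a) a = 0 := by simp [p.pair', p'.pair', p.left, CharTwo.add_self_eq_zero]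
  have hs : B b' b + σ (B b' b) = B (b + b' + B b' b • a) (b + b' + B b' b • a) := by
    simp only [map_add, map_smul, map_smulₛₗ, LinearMap.add_apply, LinearMap.smul_apply, smul_eq_mul, h.symm,
      p.left, p.right, p.pair, p.pair', p'.right, p'.pair, p'.pair']
    linear_combination -(B b' b + B b b') * two
  refine ⟨_, subset_closure ⟨a, _, _, ⟨p.left_ne_zero, p.left⟩, ha, h1, by simp [ha, hb, CharTwo.add_self_eq_zero],
    hs, rfl⟩, h.ei_mem p.left h1 hs, ?_, fun y y1 y2 => ?_⟩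
  · have h2 : B b (b + b' + B b' b • a) = 0 := by simp [p.right, p.pair', h.symm, CharTwo.add_self_eq_zero]
    rw [h.ei_smul p.left h1, h2, p.pair', zero_smul, add_zero, one_smul, mul_one, ← add_assoc, ← add_assoc,
      vadd_self (F := F), zero_add, add_assoc, vadd_self (F := F), add_zero]
  · rw [h.ei_perp p.left h1 _ y1]
    simp [y1, y2, CharTwo.add_self_eq_zero]

theorem mvK {e f a b b' : V} (p : UHypPair B a b) (p' : UHypPair B a b') (ha : U B e f a) (hb : U B e f b)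
    (hb' : U B e f b') : ∃ x ∈ K B e f, x • a = a ∧ x • b = b' := by
  obtain ⟨x, h1, h2, h3, h4⟩ := mv h p p' ha.1 (hb.1.trans hb'.1.symm)
  exact ⟨x, ⟨h1, mem_M1.2 ⟨h2, h4 e (h.zero_symm ha.1) ((h.zero_symm hb.1).trans (h.zero_symm hb'.1).symm)⟩,
    mem_M1.2 ⟨h2, h4 f (h.zero_symm ha.2) ((h.zero_symm hb.2).trans (h.zero_symm hb'.2).symm)⟩⟩,
    h4 a p.left (p.pair.trans p'.pair.symm), h3⟩

theorem R_mv {e f a b b' : V} (p : UHypPair B a b) (p' : UHypPair B a b') (ha : U B e f a) (hb : U B e f b)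
    (hb' : U B e f b') : R B e f b b' := by
  obtain ⟨x, h1, -, h2⟩ := mvK h p p' ha hb hb'
  exact ⟨x, h1, h2⟩

theorem R_sw {e f a b : V} (p : UHypPair B a b) (ha : U B e f a) (hb : U B e f b) : R B e f a b := by
  have h1 : B (a + b) (a + b) = 0 := by simp [p.left, p.right, p.pair, p.pair', CharTwo.add_self_eq_zero]
  exact R_mv h (h.herm.uHypPair h1 p.left (by simp [p.left, p.pair']))
    (h.herm.uHypPair h1 p.right (by simp [p.right, p.pair])) (ha.add hb) ha hb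

theorem R_sm {e f a b w : V} (p : UHypPair B a b) (ha : U B e f a) (hb : U B e f b) (hw : U B e f w)
    (w1 : B w w = 1) (wa : B w a = 0) (wb : B w b = 0) {l : F} (hl : l ≠ 0) : R B e f b (l • b) := by
  have hn := h.norm_one hl
  rcases h.K_two (h.herm.toUInvol.trace_fixed l) with ht | ht
  · have : l = 1 := (h.K_two (CharTwo.add_eq_zero.1 ht).symm).resolve_left hl
    exact ⟨1, one_mem _, by rw [this, one_smul, one_smul]⟩
  have h1 : B (b + w + l • a) (b + w + l • a) = 0 := by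
    simp only [map_add, map_smul, map_smulₛₗ, LinearMap.add_apply, LinearMap.smul_apply, smul_eq_mul,
      p.left, p.right, p.pair, p.pair', w1, wa, wb, h.zero_symm wa, h.zero_symm wb]
    linear_combination ht + (CharTwo.two_eq_zero : (2 : F) = 0)
  have hv := (hb.add hw).add (ha.sm l)
  refine (R_mv h p (h.herm.uHypPair p.left h1 (by simp [p.left, p.pair, h.zero_symm wa])) ha hb hv).trans
    (R_sw h (h.herm.uHypPair (by simp [p.right]) h1 ?_) (hb.sm l) hv).symm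
  simp [p.right, p.pair', h.zero_symm wb, hn]

theorem R_ne {e f a b w v : V} (p : UHypPair B a b) (ha : U B e f a) (hb : U B e f b) (hw : U B e f w)
    (w1 : B w w = 1) (wa : B w a = 0) (wb : B w b = 0) (hv : U B e f v) (v0 : B v v = 0) (hn : B b v ≠ 0) :
    R B e f b v :=
  (R_sm h p ha hb hw w1 wa wb (inv_ne_zero hn)).trans
    (R_sw h (h.herm.uHypPair (by simp [p.right]) v0 (by simp [hn])) (hb.sm _) hv)

theorem R_all {e f a b v : V} (p : Frame B e f a b) (hv : U B e f v) (v0 : Iso B v) : R B e f b v := by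
  obtain ⟨w, w1, we, wf, wa, wb⟩ := h.exists_w p
  have ha : U B e f a := ⟨h.zero_symm p.ee, h.zero_symm p.fe⟩
  have hb : U B e f b := ⟨h.zero_symm p.ef, h.zero_symm p.ff⟩
  by_cases h1 : B b v = 0
  · by_cases h2 : B a v = 0
    · have e1 := h.frame_dec p w1 we wf wa wb v
      rw [hv.1, hv.2, h.zero_symm h1, h.zero_symm h2] at e1
      simp only [zero_smul, zero_add] at e1
      have e2 := v0.iso
      have e3 : B v w ≠ 0 := fun e3 => v0.ne (by rw [e1, e3, zero_smul])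
      generalize B v w = c at e1 e3
      simp [e1, w1, e3] at e2
    · exact (R_sw h p.p2 ha hb).symm.trans (R_ne h p.p2.symm hb ha ⟨we, wf⟩ w1 wb wa hv v0.iso h2)
  · exact R_ne h p.p2 ha hb ⟨we, wf⟩ w1 wa wb hv v0.iso h1

omit h in
theorem U.smul {e f v : V} {g : SG F V} (hg : g ∈ M1 B e ⊓ M1 B f) (a : U B e f v) : U B e f (g • v) :=
  ⟨by rw [← (mem_M1.1 hg.1).2, SU_map (M1_le e hg.1), a.1], by
    rw [← (mem_M1.1 hg.2).2, SU_map (M1_le e hg.1), a.2]⟩

theorem M1_le_H {e : V} (he : Iso B e) : M1 B e ≤ H B e := by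
  intro g hg
  obtain ⟨hg1, hg2⟩ := mem_M1.1 hg
  obtain ⟨f, p⟩ := h.exists_pair he
  obtain ⟨a, b, fr⟩ := h.exists_frame'' p
  have ha : U B e f a := ⟨h.zero_symm fr.ee, h.zero_symm fr.fe⟩
  have hb : U B e f b := ⟨h.zero_symm fr.ef, h.zero_symm fr.ff⟩
  have p' : UHypPair B e (g • f) := h.herm.uHypPair he.iso (by rw [SU_map hg1, p.right])
    (by rw [← p.pair, ← SU_map hg1 e f, hg2])
  obtain ⟨x, x1, x2, x3, x4⟩ := mv h p p' he.iso (p.pair'.trans p'.pair'.symm)
  have k1 : x⁻¹ * g ∈ M1 B e ⊓ M1 B f :=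
    ⟨(M1 B e).mul_mem ((M1 B e).inv_mem (mem_M1.2 ⟨x2, x4 e p.left (p.pair.trans p'.pair.symm)⟩)) hg,
      mem_M1.2 ⟨mul_mem (inv_mem x2) hg1, by rw [mul_smul, ← x3, inv_smul_smul]⟩⟩
  rw [← (H B e).mul_mem_cancel_left (inv_mem x1)]
  generalize x⁻¹ * g = k at k1
  obtain ⟨y, y1, y2⟩ := R_all h fr (hb.smul k1)
    (Iso.smul (SU_le_Gam (M1_le e k1.1)) ⟨fr.p2.right_ne_zero, fr.p2.right⟩)
  have k2 : y⁻¹ * k ∈ M1 B e ⊓ M1 B f := mul_mem (inv_mem y1.2) k1
  have k3 : (y⁻¹ * k) • b = b := by rw [mul_smul, ← y2, inv_smul_smul]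
  rw [← (H B e).mul_mem_cancel_left (inv_mem y1.1)]
  generalize y⁻¹ * k = m at k2 k3
  have m1 := M1_le e k2.1
  obtain ⟨z, z1, z2, z3⟩ := mvK h fr.p2.symm (h.herm.uHypPair fr.p2.right (by rw [SU_map m1, fr.p2.left])
    (by rw [← fr.p2.pair', ← SU_map m1 b a, k3])) hb ha (ha.smul k2)
  have k4 : z⁻¹ * m ∈ M1 B e ⊓ M1 B f := mul_mem (inv_mem z1.2) k2
  rw [← (H B e).mul_mem_cancel_left (inv_mem z1.1), h.frame_fix fr (M1_le e k4.1) (mem_M1.1 k4.1).2
    (mem_M1.1 k4.2).2 (by rw [mul_smul, ← z3, inv_smul_smul]) (by rw [mul_smul, k3, inv_smul_eq_iff, z2])]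
  exact one_mem _

end N1b

namespace Sp

variable (h : Sp B q)
include h

theorem M1_gen {e : V} (he : Iso B e) :
    M1 B e ≤ closure {g | ∃ v u s, Iso B v ∧ B v e = 0 ∧ B u v = 0 ∧ B u e = 0 ∧ s + σ s = B u u ∧ g = ei B v u s} := by
  exact N1b.M1_le_H h he

theorem M1_two {e : V} (he : Iso B e) : M1 B e ≤ closure {g | g ∈ M1 B e ∧ ∃ n : ℕ, g ^ 2 ^ n = 1} := by
  refine (h.M1_gen he).trans (closure_mono ?_)
  rintro _ ⟨v, u, s, hv, h1, h2, h3, h4, rfl⟩
  refine ⟨mem_M1.2 ⟨h.ei_mem hv.iso h2 h4, ?_⟩, pg_iff.1 (h.Qv_two hv.iso) _ ((h.mem_Qv hv).2 ⟨u, s, h2, h4, rfl⟩)⟩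
  rw [h.ei_perp hv.iso h2 s (h.zero_symm h1), h.zero_symm h3, zero_smul, add_zero]

end Sp

end Cfsg.Agent.U52
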