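import Mathlib
import Cfsg.Agent.U52.Cfg3
import Cfsg.Agent.U52.N1a
import Cfsg.Agent.U52.N1b

set_option autoImplicit false
set_option linter.unusedSectionVars false

namespace Cfsg.Agent.U52

open Cfsg Cfsg.Agent.Cl Cfsg.Agent.Loc.Mss Subgroup Module
open Cfsg.Agent.StdB (C1 mem_C1 El)
open scoped commutatorElement

variable {F : Type*} [Field F] [Finite F] [CharP F 2] {σ : F →+* F} {V : Type*} [AddCommGroup V] [Module F V]
  [Finite V] {B : V →ₗ[F] V →ₛₗ[σ] F} {q : ℕ} {G : Type*} [Group G] [Finite G]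

namespace N1c

variable (B) in
/-- The subgroup generated by the elements of odd order of the point stabilizer. -/
abbrev HO (e : V) : Subgroup (SG F V) := closure {g | g ∈ PW B (F ∙ e) ∧ Odd (orderOf g)}

theorem HO_le {e : V} : HO B e ≤ PW B (F ∙ e) := (closure_le _).2 fun _ hg => hg.1

theorem mem_HO {e : V} {d : SG F V} (hd : d ∈ PW B (F ∙ e)) (h3 : d ^ 3 = 1) : d ∈ HO B e :=
  subset_closure ⟨hd, Odd.of_dvd_nat (by decide) (orderOf_dvd_of_pow_eq_one h3)⟩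

theorem comm_mem {e : V} {d x : SG F V} (hd : d ∈ PW B (F ∙ e)) (h3 : d ^ 3 = 1) (hx : x ∈ PW B (F ∙ e)) :
    x * (d * x⁻¹ * d⁻¹) ∈ HO B e := by
  rw [← mul_assoc, ← mul_assoc]
  exact mul_mem (mem_HO (mul_mem (mul_mem hx hd) (inv_mem hx)) (by rw [conj_pow, h3, mul_one, mul_inv_cancel]))
    (inv_mem (mem_HO hd h3))

theorem mem_N {e : V} {d : SG F V} (hd : d ∈ SU B) {l : F} (h : d • e = l • e) : d ∈ PW B (F ∙ e) :=
  mem_PW.2 ⟨hd, mem_St_of fun x hx => by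
    obtain ⟨c, rfl⟩ := Submodule.mem_span_singleton.1 hx
    rw [smul_sm, h]
    exact Submodule.smul_mem _ _ (Submodule.smul_mem _ _ (Submodule.mem_span_singleton_self e))⟩

variable (h : Sp B q)
include h

theorem ei_M1 {e v u : V} (hv : B v v = 0) (hve : B v e = 0) (hu : B u v = 0) (hue : B u e = 0) {s : F}
    (hs : s + σ s = B u u) : ei B v u s ∈ M1 B e :=
  mem_M1.2 ⟨h.ei_mem hv hu hs, by rw [h.ei_perp hv hu s (h.zero_symm hve), h.zero_symm hue, zero_smul, add_zero]⟩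

theorem exists_ei {e v f u : V} (p : UHypPair B v f) (hve : B v e = 0) (hf : e ∈ F ∙ v ∨ B e f = 0)
    (hu : B u v = 0) (huf : B u f = 0) (hue : B u e = 0) : ∃ s, ei B v u s ∈ HO B e := by
  obtain ⟨ω, hω⟩ := h.exists_omega
  have h2 : ∀ a : F, a + a = 0 := CharTwo.add_self_eq_zero
  have ω0 : ω ≠ 0 := fun e => by simp [e] at hω
  have ω1 : σ ω ≠ 0 := (map_ne_zero σ).2 ω0
  obtain ⟨d, hd, d3, dv, -, dx⟩ := h.exists_om p ω0
  have dN : d ∈ PW B (F ∙ e) := by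
    rcases hf with hf | hf
    · obtain ⟨c, rfl⟩ := Submodule.mem_span_singleton.1 hf
      exact mem_N hd (l := 1) (by rw [smul_sm_of (fld_SU hd), dv, one_smul])
    · exact mem_N hd (dx e (h.zero_symm hve) hf)
  have e1 : u = (σ ω)⁻¹ • u + ω • (σ ω)⁻¹ • u := by
    rw [smul_smul, ← add_smul, show (σ ω)⁻¹ + ω * (σ ω)⁻¹ = 1 by
      field_simp
      linear_combination -hω + h2 ω, one_smul]
  have a1 : B ((σ ω)⁻¹ • u) v = 0 := by simp [hu]
  have a2 : B ((σ ω)⁻¹ • u) f = 0 := by simp [huf]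
  have a3 : B ((σ ω)⁻¹ • u) e = 0 := by simp [hue]
  rw [e1]
  generalize (σ ω)⁻¹ • u = u1 at a1 a2 a3
  obtain ⟨s, hs⟩ := h.herm.toUInvol.exists_trace_eq (h.herm.fixed u1)
  have e2 : (ei B v u1 s)⁻¹ = ei B v u1 (s + B u1 u1) := inv_eq_of_mul_eq_one_right (by
    rw [h.ei_mul p.left a1 a1, vadd_self (F := F), h.ei_zero p.left, add_assoc, add_assoc, h2, add_zero, h2,
      tv_zero])
  have := comm_mem dN d3 (h.M1_le_PW e (ei_M1 h p.left hve a1 a3 hs))
  rw [e2, h.ei_conj (SU_le_Gam hd) p.left a1, dv, dx u1 a1 a2, h.ei_mul p.left a1 (by simp [a1])] at this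
  exact ⟨_, this⟩

theorem exists_data {e v : V} (he : Iso B e) (hv : Iso B v) (hve : B v e = 0) :
    ∃ f w, UHypPair B v f ∧ (e ∈ F ∙ v ∨ B e f = 0) ∧ B w w = 1 ∧ B w v = 0 ∧ B w f = 0 ∧ B w e = 0 := by
  by_cases hn : v ∈ F ∙ e
  · obtain ⟨f, p⟩ := h.exists_pair hv
    obtain ⟨e2, f2, fr⟩ := h.exists_frame'' p
    obtain ⟨w, w0, w1, w2, -, -⟩ := h.exists_w fr
    obtain ⟨c, rfl⟩ := Submodule.mem_span_singleton.1 hn
    have c0 : c ≠ 0 := fun e => hv.ne (by rw [e, zero_smul])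
    refine ⟨f, w, p, .inl (Submodule.mem_span_singleton.2 ⟨c⁻¹, inv_smul_smul₀ c0 e⟩), w0, w1, w2, ?_⟩
    simpa [c0] using w1
  · obtain ⟨f, hf, p⟩ := h.M1_partner hv.iso hve hn
    obtain ⟨f1, fr⟩ := h.exists_frame' he p (h.zero_symm hve) (h.zero_symm hf)
    obtain ⟨w, w0, w1, -, w3, w4⟩ := h.exists_w fr
    exact ⟨f, w, p, .inr (h.zero_symm hf), w0, w3, w4, w1⟩

theorem ei_mem_HO {e v u : V} (he : Iso B e) (hv : Iso B v) (hve : B v e = 0) (hu : B u v = 0)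
    (hue : B u e = 0) {s : F} (hs : s + σ s = B u u) : ei B v u s ∈ HO B e := by
  obtain ⟨f, w, p, hf, w0, w1, w2, w3⟩ := exists_data h he hv hve
  have hZ : Zv B v ≤ HO B e := fun g hg => by
    obtain ⟨a, ha, rfl⟩ := (h.mem_Zv hv).1 hg
    rcases h.K_two ha with rfl | rfl
    · rw [tv_zero]
      exact one_mem _
    obtain ⟨ω, hω⟩ := h.exists_omega
    obtain ⟨s1, h1⟩ := exists_ei h p hve hf (u := ω • w) (by simp [w1]) (by simp [w2]) (by simp [w3])
    obtain ⟨s2, h2⟩ := exists_ei h p hve hf w1 w2 w3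
    have := h.M1_comm hv.iso (by simp [w1]) w1 h1 h2
    rw [show B (ω • w) w + B w (ω • w) = 1 by simp [w0, hω]] at this
    exact commutator_le_self _ this
  have a1 : B (u - B u f • v) v = 0 := by simp [hu, hv.iso]
  obtain ⟨s2, h2⟩ := exists_ei h p hve hf a1 (by simp [p.pair]) (by simp [hue, hve])
  have e1 : ei B v u s = ei B v (u - B u f • v) s2 * tv B v (s2 + (s + (B u f + σ (B u f)))) := by
    rw [← h.ei_zero hv.iso, h.ei_mul hv.iso a1 (by simp), add_zero, map_zero, LinearMap.zero_apply, add_zero,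
      ← add_assoc, CharTwo.add_self_eq_zero, zero_add, ← h.ei_add_smul hv.iso a1, sub_add_cancel]
  have h3 : tv B v (s2 + (s + (B u f + σ (B u f)))) ∈ SU B :=
    (mul_mem_cancel_left (PW_le _ (HO_le h2))).1 (e1 ▸ h.ei_mem hv.iso hu hs)
  rw [e1]
  refine mul_mem h2 (hZ (mem_AW.2 ⟨h3, fun x => ?_⟩))
  rw [tv_smul hv.iso, add_sub_cancel_left]
  exact Submodule.smul_mem _ _ (Submodule.mem_span_singleton_self v)

end N1c

theorem Sp.N1_odd (h : Sp B q) {e : V} (he : Iso B e) :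
    PW B (F ∙ e) ≤ closure {g | g ∈ PW B (F ∙ e) ∧ Odd (orderOf g)} := by
  have hM : M1 B e ≤ N1c.HO B e := (h.M1_gen he).trans ((closure_le _).2 (by
    rintro _ ⟨v, u, s, hv, hve, hu, hue, hs, rfl⟩
    exact N1c.ei_mem_HO h he hv hve hu hue hs))
  intro g hg
  obtain ⟨l, hl⟩ := Submodule.mem_span_singleton.1
    (St.mem (mem_PW.1 hg).2 (Submodule.mem_span_singleton_self e))
  have l0 : l ≠ 0 := fun e0 => (smul_ne_zero_iff_ne g).2 he.ne (by rw [← hl, e0, zero_smul])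
  obtain ⟨f, p⟩ := h.exists_pair he
  obtain ⟨e2, f2, fr⟩ := h.exists_frame'' p
  obtain ⟨d, hd, d3, -, -, dx⟩ := h.exists_om fr.p2 l0
  have de := dx e fr.ee fr.ef
  have dH : d ∈ N1c.HO B e := N1c.mem_HO (N1c.mem_N hd de) d3
  refine (mul_mem_cancel_left (inv_mem dH)).1 (hM (mem_M1.2 ⟨mul_mem (inv_mem hd) (mem_PW.1 hg).1, ?_⟩))
  rw [mul_smul, inv_smul_eq_iff, de, hl]

end Cfsg.Agent.U52
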