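import Mathlib
import Cfsg.Agent.U52.Cfg3
import Cfsg.Agent.U52.CB
import Cfsg.Agent.U52.CBa
import Cfsg.Agent.U52.RS
import Cfsg.Agent.U52.TL
import Cfsg.Agent.StdB.Gen
import Cfsg.Agent.StdB.Emb
import Cfsg.Agent.NE.Tools

set_option autoImplicit false
set_option linter.unusedSectionVars false

namespace Cfsg.Agent.U52

open Cfsg Cfsg.Agent.Cl Cfsg.Agent.Loc.Mss Subgroup Module
open Cfsg.Agent.StdB (C1 mem_C1 El)
open scoped commutatorElement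

variable {F : Type*} [Field F] [Finite F] [CharP F 2] {σ : F →+* F} {V : Type*} [AddCommGroup V] [Module F V]
  [Finite V] {B : V →ₗ[F] V →ₛₗ[σ] F} {q : ℕ} {G : Type*} [Group G] [Finite G]

theorem fus1_norm (t : G) : C1 t ≤ 𝐍[zpowers t] := by
  rw [C1, ← centralizer_closure, ← zpowers_eq_closure]; exact cent_le_norm _

theorem fus1_sq {a : G} (h : a * a = 1) : a ^ 2 ^ 1 = 1 := by rw [pow_one, pow_two, h]

namespace Cfg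

variable {c : Cfg B q G}

theorem fus1_card {W : Submodule F V} (hW : MaxTI B W) (g : G) :
    2 * q ^ ((finrank F V / 2) ^ 2) ≤ Nat.card cj(g, c.E W) := by
  rw [card_cj, c.card_E hW.ti, hW.dim]

theorem fus1_cj {W W' : Submodule F V} (hW : MaxTI B W) (hW' : MaxTI B W') :
    ∃ l ∈ c.L, cj(l, c.E W) = c.E W' := by
  obtain ⟨u, hu, rfl⟩ := c.sp.max_conj hW hW'
  exact ⟨_, c.Ψ_mem u, c.cj_E (c.L_le_C (c.Ψ_mem u)) (SU_le_Gam hu) (act_ev hu) W⟩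

theorem exists_Ts : Nonempty c.Ts := by
  obtain ⟨T, hT⟩ := Syl.exists 2 c.C
  obtain ⟨α, hα⟩ := c.sp.lift2 c.ker hT.pg (hT.le.trans c.nrm)
  obtain ⟨e, W, h1, h2, h3, h4, h5⟩ := c.sp.exists_flag (P := α.range)
    (hT.pg.of_surjective α.rangeRestrict α.rangeRestrict_surjective) (by rintro _ ⟨s, rfl⟩; exact (hα s).1)
  exact ⟨⟨T, α, e, W, hT, fun s => (hα s).1, fun s => (hα s).2, h1, h2, h3, fun s => h4 _ ⟨s, rfl⟩,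
    fun s => h5 ⟨s, rfl⟩⟩⟩

theorem ctrl {W : Submodule F V} (hW : MaxTI B W) {g : G} (hg : g * c.t * g⁻¹ ∈ c.E W) :
    ∃ n ∈ 𝐍[c.E W], n * c.t * n⁻¹ = g * c.t * g⁻¹ := by
  have hE := c.E_el hW.ti
  obtain ⟨W', hW', e⟩ := c.el_eq (hE.cj g⁻¹) (cj_le_iff.2 fun a ha => mem_C1.2 (by
    have := mem_cent.1 (hE.le_cent hg) a ha
    calc _ = g⁻¹ * (a * (g * c.t * g⁻¹)) * g := by group
      _ = _ := by rw [this]; group)) (fun y hy γ hγ _ ha => c.E_lin hW hg hy hγ ha) (fus1_card hW _)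
  obtain ⟨l, hl, e'⟩ := fus1_cj (c := c) hW hW'
  refine ⟨g * l, cj_eq_iff.1 (by rw [← cj_cj, e', ← e, cj_cj_inv]), ?_⟩
  rw [mul_assoc g, c.comm_t hl]; group

theorem inner {W : Submodule F V} (hW : MaxTI B W) {g : G} (hg : g * c.t * g⁻¹ ∈ c.C) (hne : g * c.t * g⁻¹ ≠ c.t) :
    ¬ 𝐍[c.E W] ≤ c.C := by
  intro hN
  have u2 : g * c.t * g⁻¹ * (g * c.t * g⁻¹) = 1 := by rw [conj_mul, c.t2, mul_one, mul_inv_cancel]
  obtain ⟨γ, hγ, γ2, ha⟩ := c.sp.exists_act_inv c.ker (c.nrm hg) u2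
  have γ1 : γ ≠ 1 := by
    rintro rfl
    exact (c.inv_K0 ⟨hg, act_one_iff.1 ha⟩ u2).elim (fun e => c.t1 (conj_eq_one_iff.1 e)) hne
  obtain ⟨P, hP, -, x, hx, x2, x1, v, hv, e⟩ := c.sp.RS hγ γ2 γ1
  have hS : P ≤ SU B := hP.trans inf_le_left
  have xP : x ∈ P := comm_le_left le_normalizer hx
  have e1 : c.Ψ v * (g * c.t * g⁻¹) * (c.Ψ v)⁻¹ = c.Ψ x * (g * c.t * g⁻¹) := by
    have h1 := ha _ (inv_mem hv)
    have h2 : v * (γ * v⁻¹ * γ⁻¹) = x := by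
      rw [← mul_assoc, ← mul_assoc, e, ← mem_C1.1 (hP xP).2, mul_inv_cancel_right]
    rw [← h2, Ψ, Ψ, ev_mul hv (conj_mem_SU hγ (inv_mem hv)), ← h1, ev_inv hv]; group
  have hC : cj(g⁻¹, c.I P) ≤ c.C := cj_le_iff.2 fun a ha' => mem_C1.2 (by
    obtain ⟨p, hp, rfl⟩ := (mem_im' hS).1 ha'
    have := ha.comm_of (hS hp) (mem_C1.1 (hP hp).2).symm
    calc _ = g⁻¹ * (ev c.ψ p * (g * c.t * g⁻¹)) * g := by group
      _ = _ := by rw [← this]; group)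
  have hx' : g⁻¹ * c.Ψ x * g⁻¹⁻¹ ∈ ⁅cj(g⁻¹, c.I P), cj(g⁻¹, c.I P)⁆ := by
    rw [← cj_comm, ← im_comm hS hS]; exact conj_mem_cj (ev_mem_im hx)
  obtain ⟨γ', h1, h2, h3⟩ := c.sp.act_der1 c.ker (hC.trans c.nrm) hx'
  obtain ⟨a, aS, a2, ea⟩ := c.inv_lin (hC (comm_le_left le_normalizer hx')) (by
    rw [conj_mul, ← ev_mul (hS xP) (hS xP), x2, ev_one, mul_one, mul_inv_cancel]) h1 h3 h2
  obtain ⟨W', hW', aW⟩ := c.sp.exists_AW aS a2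
  obtain ⟨l, hl, e'⟩ := fus1_cj (c := c) hW' hW
  have e2 : l * g⁻¹ * c.Ψ v * g * c.t * (l * g⁻¹ * c.Ψ v * g)⁻¹ = l * (g⁻¹ * c.Ψ x * g⁻¹⁻¹ * c.t) * l⁻¹ := by
    calc _ = l * g⁻¹ * (c.Ψ v * (g * c.t * g⁻¹) * (c.Ψ v)⁻¹) * g * l⁻¹ := by group
      _ = _ := by rw [e1]; group
  obtain ⟨n, hn, e3⟩ := ctrl hW (g := l * g⁻¹ * c.Ψ v * g) (by
    rw [e2, ← e']; exact conj_mem_cj (mul_mem (c.mem_E.2 ⟨a, aW, ea⟩) (c.t_mem_E _)))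
  rw [mem_C1.1 (hN hn), mul_inv_cancel_right, e2, eq_mul_inv_iff_mul_eq, ← c.comm_t hl, mul_right_inj, eq_comm,
    mul_eq_right, conj_eq_one_iff] at e3
  exact x1 (c.ker.eq_one_of_two (hS xP) e3 (fus1_sq x2))

namespace Ts

variable (y : c.Ts)

theorem fus1_two (s : y.T) : ∃ n, y.α s ^ 2 ^ n = 1 :=
  let ⟨n, h⟩ := y.syl.pg s
  ⟨n, by rw [← map_pow, h, map_one]⟩

theorem fus1_α {x : SG F V} (hx : x ∈ SU B) (h2 : ∃ m, x ^ 2 ^ m = 1) (h : c.Ψ x ∈ y.T) : y.α ⟨_, h⟩ = x :=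
  let ⟨_, h1⟩ := y.fus1_two ⟨_, h⟩
  let ⟨_, h2⟩ := h2
  c.sp.act_eq c.ker (y.gam _) (SU_le_Gam hx) (y.act _) (act_ev hx) (fld_SU hx) h1 h2

theorem t_mem : c.t ∈ y.T :=
  y.syl.le_of_norm (StdB.pg_zpowers_of_pow (fus1_sq c.t2)) (zpowers_le.2 c.t_mem_K0.1)
    (y.syl.le.trans (fus1_norm _)) (mem_zpowers _)

theorem RW_le {X : Submodule F V} (hX : TI B X) (hs : ∀ s, y.α s ∈ St X) : c.I (RW B X) ≤ y.T := by
  obtain ⟨U, hU, e⟩ := syl_of_im (y.syl.inf c.L_le_C (y.syl.le.trans c.nrm))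
  refine (im_mono (c.sp.RW_le_syl hX hU fun x hx => ?_)).trans (e.le.trans inf_le_left)
  rw [← y.fus1_α (hU.le hx) (pg_iff.1 hU.pg x hx) (e.le (ev_mem_im hx)).1]
  exact hs _

theorem Q_le : c.I (Qv B y.e) ≤ y.T :=
  y.RW_le (TI_span y.iso.iso) fun s => mapW_eq_iff.1 (by rw [mapW_span, y.fix])

theorem E_le : c.E y.W ≤ y.T :=
  sup_le ((im_mono (c.sp.AW_le_RW y.max.ti)).trans (y.RW_le y.max.ti y.st)) (zpowers_le.2 y.t_mem)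

theorem T_norm : y.T ≤ 𝐍[c.E y.W] := fun s hs => cj_eq_iff.1 (by
  rw [c.cj_E (y.syl.le hs) (y.gam ⟨s, hs⟩) (y.act ⟨s, hs⟩), mapW_eq_iff.2 (y.st _)])

theorem two_of (hn : ¬ 𝐍[c.E y.W] ≤ c.C) : c.Two := by
  intro g hg ⟨m, hm⟩
  by_contra hc
  refine hn fun n hn => ?_
  have hK : c.K0 ≤ c.C := inf_le_left
  have hS := y.syl.inf hK (y.syl.le.trans c.norm_K0)
  obtain ⟨v, hv, hle⟩ := hS.conj_le (StdB.pg_zpowers_of_pow hm) (zpowers_le.2 hg)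
  obtain ⟨r, hr, r1, r2, -⟩ := NE.exists_central_mod (N := zpowers c.t) (K := y.T ⊓ c.K0) y.syl.pg
    (y.syl.le.trans (fus1_norm _)) inf_le_left (norm_inf le_normalizer (y.syl.le.trans c.norm_K0)) (fun hh => hc (by
      have e := (StdB.mem_zpowers_two c.t2).1 (hh (hle (conj_mem_cj (mem_zpowers g))))
      refine e.imp conj_eq_one_iff.1 fun e => ?_
      calc g = v⁻¹ * (v * g * v⁻¹) * v := by group
        _ = c.t := by rw [e, mul_assoc, ← mem_C1.1 (hK hv)]; group))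
  have rr : r * r = c.t := ((StdB.mem_zpowers_two c.t2).1 r2).resolve_left fun e =>
    r1 ((StdB.mem_zpowers_two c.t2).2 (c.inv_K0 hr.2 e))
  have cyc := c.cyc _ hS.pg hS.le
  have hD : 𝐂[c.E y.W] ≤ c.C := fun d hd => mem_C1.2 (mem_cent.1 hd _ (c.t_mem_E _)).symm
  have hS0 := y.syl.inf hD (norm_cent y.T_norm)
  obtain ⟨d, hd, k, hk, rfl⟩ := hS0.frattini (norm_cent le_rfl hn)
  refine mul_mem (hD hd) ?_
  have cE : ∀ {s : G}, s ∈ c.C → (∀ a ∈ AW B y.W, c.Ψ a * s = s * c.Ψ a) → s ∈ 𝐂[c.E y.W] := fun hs h =>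
    mem_cent.2 fun a ha => by
      obtain ⟨b, hb, rfl | rfl⟩ := c.mem_E.1 ha
      · exact h b hb
      · rw [mul_assoc, h b hb, ← mul_assoc, ← mem_C1.1 hs, mul_assoc]
  have RT := y.RW_le y.max.ti y.st
  have r0 : r ∈ y.T ⊓ 𝐂[c.E y.W] := ⟨hr.1, cE hr.2.1 fun a _ => mem_cent.1 hr.2.2 _ (c.Ψ_mem a)⟩
  have rc : r ∈ 𝐂[(y.T ⊓ 𝐂[c.E y.W] : Subgroup G)] := mem_cent.2 fun s hs => by
    obtain ⟨j, hj⟩ := y.fus1_two ⟨s, hs.1⟩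
    have h1 := c.sp.cen_AW_two y.max (y.gam ⟨s, hs.1⟩) hj
      ((c.sp.cent_act c.ker (y.gam _) (y.act _) (c.sp.AW_el y.max.ti).pg (AW_le _)).1 (cent_anti le_sup_left hs.2))
    have h2 : s * (c.Ψ (y.α ⟨s, hs.1⟩))⁻¹ ∈ y.T ⊓ c.K0 :=
      ⟨y.T.mul_mem hs.1 (y.T.inv_mem (RT (ev_mem_im h1))), c.mem_K0 (y.syl.le hs.1) (y.act ⟨s, hs.1⟩) (U52.RW_le _ h1)⟩
    have h3 : s * (c.Ψ (y.α ⟨s, hs.1⟩))⁻¹ * r = r * (s * (c.Ψ (y.α ⟨s, hs.1⟩))⁻¹) :=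
      congrArg Subtype.val (cyc.isMulCommutative.is_comm.comm ⟨_, h2⟩ ⟨_, hr⟩)
    have h4 := mem_cent.1 hr.2.2 _ (c.Ψ_mem (y.α ⟨s, hs.1⟩))
    calc s * r = s * (c.Ψ (y.α ⟨s, hs.1⟩))⁻¹ * (c.Ψ (y.α ⟨s, hs.1⟩) * r) := by group
      _ = _ := by rw [h4, ← mul_assoc, h3]; group
  have R0 : c.I (RW B y.W) ≤ y.T ⊓ 𝐂[c.E y.W] := le_inf RT fun s hs => cE (y.syl.le (RT hs)) fun a ha => by
    obtain ⟨x, hx, rfl⟩ := (mem_im' (U52.RW_le _)).1 hs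
    exact (ev_comm (U52.RW_le _ hx) (AW_le _ ha) (c.sp.AW_comm (RW_le_FW _ hx) ha)).symm
  obtain ⟨k0, hk0, a, ha, e⟩ := c.cenRW y.max.ti (fun e => y.iso.ne (by simpa [e] using y.eW))
    (y.syl.le (conj_mem_of_norm hk r0).1) (cent_anti R0 (conj_mem_of_norm (norm_cent le_rfl hk) rc))
  have e2 : k * c.t * k⁻¹ = k0 * k0 := by
    rw [← rr, ← conj_mul, e, mul_assoc, ← mul_assoc (c.Ψ a), mem_cent.1 hk0.2 _ (c.Ψ_mem a), mul_assoc,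
      ← ev_mul (AW_le _ ha) (AW_le _ ha), c.sp.AW_sq y.max.ti ha, ev_one, mul_one]
  rcases c.inv_K0 (mul_mem hk0 hk0) (by rw [← e2, conj_mul, c.t2, mul_one, mul_inv_cancel]) with e3 | e3
  · exact absurd (conj_eq_one_iff.1 (e2.trans e3)) c.t1
  · exact mem_C1.2 (mul_inv_eq_iff_eq_mul.1 (e2.trans e3))

theorem not_le {X : Subgroup G} [X.Normal] [IsSimpleGroup X] (hL : c.L ≤ X) (hn : ¬ X ≤ c.C) (hT : 𝐍[y.T] ≤ c.C) :
    ¬ 𝐍[c.E y.W] ≤ c.C := by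
  intro hN
  have hS : Syl 2 y.T ⊤ := Syl.of_norm y.syl.pg le_top fun P hP h1 _ h2 =>
    y.syl.ge_of_le hP h1 (h2.trans hT)
  exact hn (StdB.le_C1_of_isolated (hL (c.z_mem y.e 1)) (c.z_sq y.iso.iso 1)
    (fun e => one_ne_zero ((c.z_eq_one y.iso (map_one σ)).1 e)) hS y.t_mem c.t2 fun g hg =>
      by_contra fun h => inner y.max (y.syl.le hg) h hN)

end Ts

end Cfg

end Cfsg.Agent.U52
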