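import Mathlib
import Cfsg.Agent.U52.Cfg2
import Cfsg.Agent.U52.BlkA

set_option autoImplicit false
set_option linter.unusedSectionVars false

namespace Cfsg.Agent.U52

open Cfsg Cfsg.Agent.Cl Cfsg.Agent.Loc.Mss Subgroup Module
open Cfsg.Agent.StdB (C1 mem_C1 El)
open scoped commutatorElement

variable {F : Type*} [Field F] [Finite F] [CharP F 2] {σ : F →+* F} {V : Type*} [AddCommGroup V] [Module F V]
  [Finite V] {B : V →ₗ[F] V →ₛₗ[σ] F} {q : ℕ} {G : Type*} [Group G] [Finite G]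

namespace Blk

variable (b : Blk G)

theorem Pr.b_D {b : Blk G} {x y : G} (h : b.Pr x y) : IsConj b.z1 y := by
  obtain ⟨k, -, rfl⟩ := h
  exact b.a_D (b.a_Dt (IsConj.refl _)) k

theorem Pr.b_comm {b : Blk G} {x y : G} (h : b.Pr x y) : x * y = y * x := by
  obtain ⟨k, rfl, rfl⟩ := h
  rw [conj_mul, conj_mul, b.z12]

theorem notPr {x y : G} (hx : x ∈ b.U1) (hy : y ∈ b.U1) : ¬ b.Pr x y := by
  rintro ⟨g, rfl, rfl⟩
  have D2 := b.a_Dt (IsConj.refl _)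
  refine b.pur _ (mul_mem hx hy) _ b.z1_mem _ b.a_z2 b.z2 (b.a_sq D2) b.zne (b.a_ne D2) ?_
  exact (isConj_iff.2 ⟨g, by rw [conj_mul]⟩ : IsConj (b.z1 * (b.t * b.z1 * b.t)) _).symm

theorem b_uniq {x y x' y' : G} (h : b.Pr x y) (h' : b.Pr x' y') (e : x * y = x' * y') : y = y' ∨ y = x' := by
  obtain ⟨g, rfl, rfl⟩ := h
  obtain ⟨g', rfl, rfl⟩ := h'
  have hk : g⁻¹ * g' ∈ C1 (b.z1 * (b.t * b.z1 * b.t)) := by
    rw [conj_mul, conj_mul] at e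
    rw [mem_C1]
    generalize b.z1 * (b.t * b.z1 * b.t) = z at e ⊢
    calc g⁻¹ * g' * z = g⁻¹ * (g' * z * g'⁻¹) * g' := by group
      _ = _ := by rw [← e]; group
  have k : g' * b.z1 * g'⁻¹ = g * (g⁻¹ * g' * b.z1 * (g⁻¹ * g')⁻¹) * g⁻¹ := by group
  rcases b.Cz hk with h | h
  · rw [k, h] at e
    exact .inl (mul_left_cancel e)
  · exact .inr (by rw [k, h])

theorem b_sub {d : G} (hd : IsConj b.z1 d) (h : d ∈ b.U1) {x : G} (hx : b.Pr b.z1 x) : b.Pr d x := by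
  have dM : d ∈ C1 b.z1 := b.zc (b.a_U1S0 h)
  have xM : x ∈ C1 b.z1 := mem_C1.2 hx.b_comm.symm
  have tr : ∀ m ∈ C1 b.z1, ∀ y, b.Pr b.z1 (m * y * m⁻¹) ↔ b.Pr b.z1 y := fun m hm y => by
    have e : m * b.z1 * m⁻¹ = b.z1 := blkA_fix (mem_C1.1 hm)
    exact ⟨fun h => Pr.a_of (g := m) (e.symm ▸ h), fun h => e ▸ h.conj m⟩
  have d2 := b.a_sq hd
  have x2 := b.a_sq hx.b_D
  obtain ⟨s, k, ⟨j, hk⟩, ho⟩ := Nat.exists_eq_two_pow_mul_odd (orderOf_pos (d * x)).ne'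
  set r := d * x with hr
  have rM : r ∈ C1 b.z1 := mul_mem dM xM
  have inv : ∀ n : ℕ, d * r ^ n * d⁻¹ = (r ^ n)⁻¹ := fun n => by
    rw [← conj_pow, ← inv_pow, hr, mul_inv_rev, inv_eq_of_mul_eq_one_right d2,
      inv_eq_of_mul_eq_one_right x2, ← mul_assoc, d2, one_mul]
  have e1 : r ^ j * (d * r ^ k) * (r ^ j)⁻¹ = x := by
    have : r ^ j * d = d * (r ^ j)⁻¹ := by
      rw [← inv j, ← mul_assoc, ← mul_assoc, d2, one_mul, inv_eq_of_mul_eq_one_right d2]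
    calc _ = r ^ j * d * r ^ k * (r ^ j)⁻¹ := by group
      _ = d * r := by rw [this, hk]; group
      _ = x := by rw [hr, ← mul_assoc, d2, one_mul]
  have hx' : b.Pr b.z1 (d * r ^ k) := (tr _ (pow_mem rM j) _).1 (e1 ▸ hx)
  have pr : IsPGroup 2 (zpowers (r ^ k)) := by
    refine IsPGroup.of_card (n := s) ?_
    rw [Nat.card_zpowers, orderOf_pow_of_dvd (by omega) ⟨2 ^ s, by rw [ho, mul_comm]⟩, ho,
      Nat.mul_div_cancel _ (by omega)]
  have dn : zpowers d ≤ 𝐍[zpowers (r ^ k)] := zpowers_le.2 (mem_norm_of_cj_le (by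
    rw [MonoidHom.map_zpowers, zpowers_le]
    change d * r ^ k * d⁻¹ ∈ _
    rw [inv]
    exact inv_mem (mem_zpowers _)))
  obtain ⟨m, hm, hle⟩ := b.syl1.conj_le (pg_sup' pr (StdB.pg_zpowers d2) dn)
    (sup_le (zpowers_le.2 (pow_mem rM k)) (zpowers_le.2 dM))
  have m1 : m * d * m⁻¹ ∈ b.U1 := by
    refine (b.a_ds (b.a_D hd m) (hle (conj_mem_cj (mem_sup_right (mem_zpowers d)))).1).resolve_right
      fun h' => b.notPr b.z1_mem h ((tr m hm d).1 ?_)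
    exact b.pairs (IsConj.refl _) b.z1_mem (b.a_D hd m) h'
  have m2 : m * (d * r ^ k) * m⁻¹ ∈ cj(b.t, b.U1) :=
    (b.a_ds (b.a_D hx'.b_D m) (hle (conj_mem_cj (mul_mem (mem_sup_right (mem_zpowers d))
      (mem_sup_left (mem_zpowers _))))).1).resolve_left fun h' => b.notPr b.z1_mem h' ((tr m hm _).2 hx')
  have h3 : b.Pr d (d * r ^ k) := (b.pairs (b.a_D hd m) m1 (b.a_D hx'.b_D m) m2).a_of
  have h4 := h3.conj (r ^ j)
  have e2 : r ^ j * d * (r ^ j)⁻¹ * (r ^ j * (d * r ^ k) * (r ^ j)⁻¹) = d * (d * r ^ k) := by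
    rw [conj_mul, ← mul_assoc d, d2]
    group
  rcases b.b_uniq h4 h3 e2 with e | e
  · rw [e1] at e
    exact e ▸ h3
  · rw [e1] at e
    exact absurd (e ▸ hx) (b.notPr b.z1_mem h)

theorem blk {d : G} (hd : IsConj b.z1 d) (h : d ∈ b.U1) (x : G) : b.Pr d x ↔ b.Pr b.z1 x := by
  obtain ⟨g, e⟩ := isConj_iff.1 hd
  have h1 : {x | b.Pr d x} ⊆ (fun y => g * y * g⁻¹) '' {x | b.Pr b.z1 x} := fun y hy =>
    ⟨g⁻¹ * y * g, Pr.a_of (g := g) (by rw [e]; simpa [mul_assoc] using hy), by group⟩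
  have h3 : {x | b.Pr b.z1 x} = {x | b.Pr d x} :=
    Set.eq_of_subset_of_ncard_le (fun y hy => b.b_sub hd h hy)
      ((Set.ncard_le_ncard h1).trans (Set.ncard_image_le (Set.toFinite _)))
  exact (Set.ext_iff.1 h3 x).symm

end Blk

end Cfsg.Agent.U52
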