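import Mathlib
import Cfsg.Agent.U52.Cfg2
import Cfsg.Agent.U52.BlkB
import Cfsg.Agent.S2901
import Cfsg.Agent.S0205
import Cfsg.Agent.GT.Quasisimple
import Cfsg.Agent.Perm.CompLen

set_option autoImplicit false
set_option linter.unusedSectionVars false

namespace Cfsg.Agent.U52

open Cfsg Cfsg.Agent.Cl Cfsg.Agent.Loc.Mss Subgroup Module
open Cfsg.Agent.StdB (C1 mem_C1 El)
open scoped commutatorElement

variable {F : Type*} [Field F] [Finite F] [CharP F 2] {σ : F →+* F} {V : Type*} [AddCommGroup V] [Module F V]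
  [Finite V] {B : V →ₗ[F] V →ₛₗ[σ] F} {q : ℕ} {G : Type*} [Group G] [Finite G]

namespace BlkC

variable (b : Blk G)

/-- The second involution. -/
abbrev y : G := b.t * b.z1 * b.t

theorem t_inv : b.t⁻¹ = b.t := inv_eq_of_mul_eq_one_right b.t2

theorem t_z : b.t * b.z1 * b.t⁻¹ = y b := by rw [t_inv]

theorem tt (x : G) : b.t * (b.t * x * b.t⁻¹) * b.t⁻¹ = x := by
  rw [t_inv, ← mul_assoc, ← mul_assoc, b.t2, one_mul, mul_assoc, b.t2, mul_one]

theorem t_y : b.t * y b * b.t⁻¹ = b.z1 := by rw [← t_z, tt]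

theorem y_mem : y b ∈ cj(b.t, b.U1) := t_z b ▸ conj_mem_cj b.z1_mem

theorem y_sq : y b * y b = 1 := by rw [← t_z, conj_mul, b.z2]; simp

theorem y_ne : y b ≠ 1 := by rw [← t_z]; simpa using b.zne

theorem z_sq : b.z1 * y b * (b.z1 * y b) = 1 := by
  rw [(show Commute b.z1 (y b) from b.z12).symm.mul_mul_mul_comm, b.z2, y_sq, one_mul]

theorem z_ne : b.z1 * y b ≠ 1 := fun e => by
  have h : b.z1 ∈ b.U1 ⊓ cj(b.t, b.U1) :=
    mem_inf.2 ⟨b.z1_mem, by rw [eq_inv_of_mul_eq_one_left e]; exact inv_mem (y_mem b)⟩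
  rw [b.dj, mem_bot] at h
  exact b.zne h

theorem z_S : b.z1 ∈ b.S := b.U1S b.z1_mem

theorem y_S : y b ∈ b.S := mul_mem (mul_mem b.tS (z_S b)) b.tS

theorem back {x : G} (h : x ∈ cj(b.t, b.U1)) : b.t * x * b.t⁻¹ ∈ b.U1 := by
  have := mem_cj.1 h
  rwa [t_inv, ← show b.t * x * b.t⁻¹ = b.t * x * b.t by rw [t_inv]] at this

theorem pr_comm {b : Blk G} {x w : G} (h : b.Pr x w) : x * w = w * x := by
  obtain ⟨k, rfl, rfl⟩ := h
  rw [conj_mul, conj_mul, b.z12]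

/-- The same partners. -/
def E (x w : G) : Prop := ∀ v, b.Pr x v ↔ b.Pr w v

variable {b} in
theorem E.conj {x w : G} (h : E b x w) (g : G) : E b (g * x * g⁻¹) (g * w * g⁻¹) := by
  have k : ∀ {x w : G}, E b x w → ∀ v, b.Pr (g * x * g⁻¹) v → b.Pr (g * w * g⁻¹) v := fun h v hv => by
    have := ((h _).1 (by simpa [mul_assoc] using hv.conj g⁻¹)).conj g
    simpa [mul_assoc] using this
  exact fun v => ⟨k h v, k (fun y => (h y).symm) v⟩

/-- The stabilizer of both blocks. -/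
def H : Subgroup G where
  carrier := {g | E b (g * b.z1 * g⁻¹) b.z1 ∧ E b (g * y b * g⁻¹) (y b)}
  one_mem' := ⟨fun _ => by simp, fun _ => by simp⟩
  mul_mem' := fun {g h} hg hh =>
    ⟨fun x => ((by simpa only [mul_assoc, mul_inv_rev] using hh.1.conj g x) : _ ↔ b.Pr (g * b.z1 * g⁻¹) x).trans
        (hg.1 x),
      fun x => ((by simpa only [mul_assoc, mul_inv_rev] using hh.2.conj g x) : _ ↔ b.Pr (g * y b * g⁻¹) x).trans
        (hg.2 x)⟩
  inv_mem' := fun {g} hg => ⟨fun x => by simpa [mul_assoc] using (hg.1.conj g⁻¹ x).symm,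
    fun x => by simpa [mul_assoc] using (hg.2.conj g⁻¹ x).symm⟩

theorem fix {g : G} (h1 : g * b.z1 * g⁻¹ = b.z1) (h2 : g * y b * g⁻¹ = y b) : g ∈ H b :=
  ⟨fun _ => by rw [h1], fun _ => by rw [h2]⟩

theorem t_norm : b.t ∈ 𝐍[H b] := mem_norm_of_cj_le (cj_le_iff.2 fun g hg => by
  have e : ∀ x : G, b.t * (g * x * g⁻¹) * b.t⁻¹ = b.t * g * b.t⁻¹ * (b.t * x * b.t⁻¹) * (b.t * g * b.t⁻¹)⁻¹ :=
    fun x => by group
  refine ⟨fun x => ?_, fun x => ?_⟩
  · have := hg.2.conj b.t x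
    rwa [e, t_y] at this
  · have := hg.1.conj b.t x
    rwa [e, t_z] at this)

/-- The stabilizer of the pair of blocks. -/
def SS : Subgroup G := H b ⊔ zpowers b.t

theorem mem_S {g : G} : g ∈ SS b ↔ g ∈ H b ∨ g * b.t ∈ H b := HxD.p1_mem_two b.t2 (t_norm b)

theorem S_norm : SS b ≤ 𝐍[H b] := sup_le le_normalizer (zpowers_le.2 (t_norm b))

theorem t1 (g : G) : g * b.t * b.z1 * (g * b.t)⁻¹ = g * y b * g⁻¹ := by rw [← t_z]; group

theorem t2 (g : G) : g * b.t * y b * (g * b.t)⁻¹ = g * b.z1 * g⁻¹ := by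
  nth_rw 1 [← t_y]; group

theorem Cz_le : C1 (b.z1 * y b) ≤ SS b := fun g hg => by
  have e : g * b.z1 * g⁻¹ * (g * y b * g⁻¹) = b.z1 * y b := by
    rw [conj_mul, mem_C1.1 hg, mul_inv_cancel_right]
  rcases b.Cz hg with h | h
  · exact (mem_S b).2 (.inl (fix b h (by rwa [h, mul_right_inj] at e)))
  · refine (mem_S b).2 (.inr (fix b ?_ (by rw [t2, h])))
    rwa [h, b.z12, mul_right_inj, ← t1] at e

theorem L1_le : b.L1 ≤ H b := by
  have : Fact (Nat.Prime 2) := ⟨Nat.prime_two⟩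
  refine b.gen.trans ((closure_le _).2 ?_)
  rintro g ⟨hg, e⟩
  refine ⟨?_, fun _ => by rw [mul_inv_eq_iff_eq_mul.2 (mem_cent.1 (b.cm hg) _ (y_mem b)).symm]⟩
  have zL := b.U1_le b.z1_mem
  obtain ⟨l, -, hl⟩ := b.sylL.conj_le (P := zpowers b.z1 ⊔ zpowers (g * b.z1 * g⁻¹))
    (pg_sup (StdB.pg_zpowers b.z2) (StdB.pg_zpowers (by rw [conj_mul, b.z2]; simp))
      (norm_of_cent (zpowers_le.2 (mem_cent.2 fun a ha => by
        obtain ⟨n, rfl⟩ := ha
        exact ((show Commute b.z1 _ from e).zpow_right n).symm))))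
    (sup_le (zpowers_le.2 zL) (zpowers_le.2 (mul_mem (mul_mem hg zL) (inv_mem hg))))
  have h1 := b.blk (isConj_iff.2 ⟨l, rfl⟩) (hl (conj_mem_cj (mem_sup_left (mem_zpowers _))))
  have h2 := b.blk ((isConj_iff.2 ⟨g, rfl⟩).trans (isConj_iff.2 ⟨l, rfl⟩))
    (hl (conj_mem_cj (mem_sup_right (mem_zpowers _))))
  have h3 : E b (l * (g * b.z1 * g⁻¹) * l⁻¹) (l * b.z1 * l⁻¹) := fun v => (h2 v).trans (h1 v).symm
  intro v
  simpa [mul_assoc] using h3.conj l⁻¹ v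

theorem pair {h : G} (h1 : h * b.z1 * h⁻¹ ∈ b.S) (h1' : h * y b * h⁻¹ ∈ b.S) : h ∈ SS b := by
  have k : ∀ h : G, h * b.z1 * h⁻¹ ∈ b.U1 → h * y b * h⁻¹ ∈ cj(b.t, b.U1) → h ∈ H b := fun h a c => by
    refine ⟨b.blk (isConj_iff.2 ⟨_, rfl⟩) a, ?_⟩
    have h2 : E b (b.t * (h * y b * h⁻¹) * b.t⁻¹) b.z1 := b.blk
      ((isConj_iff.2 ⟨_, t1 b h⟩).trans (isConj_iff.2 ⟨_, rfl⟩)) (back b c)
    have := h2.conj b.t
    rwa [tt, t_z] at this
  have hp : b.Pr (h * b.z1 * h⁻¹) (h * y b * h⁻¹) := ⟨h, rfl, rfl⟩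
  have h3 := b.ds (h * b.t) (t1 b h ▸ h1')
  rw [t1] at h3
  rcases b.ds h h1 with a | a <;> rcases h3 with c | c
  · exact absurd hp (b.notPr a c)
  · exact (mem_S b).2 (.inl (k h a c))
  · exact (mem_S b).2 (.inr (k _ (t1 b h ▸ c) (t2 b h ▸ a)))
  · exact absurd (hp.conj b.t) (b.notPr (back b a) (back b c))

theorem ext (g : G) : ∃ h : G, h * g ∈ C1 (b.z1 * y b) ∧ cj(h, b.S ⊓ C1 (g * (b.z1 * y b) * g⁻¹)) ≤ b.S := by
  have : Fact (Nat.Prime 2) := ⟨Nat.prime_two⟩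
  obtain ⟨h, -, e1, e2⟩ := StdB.extremal (M := ⊤) (u := g * (b.z1 * y b) * g⁻¹) (g := g⁻¹)
    (A := b.S ⊓ C1 (g * (b.z1 * y b) * g⁻¹)) (b.syl.mono (le_inf le_top b.S_le) le_top) trivial (by group)
    b.syl.pg.to_inf_left (inf_le_inf_right _ le_top)
  exact ⟨h, mem_C1.2 (by nth_rw 2 [← e1]; group), e2⟩

theorem of_S0 {g : G} (hg : g * (b.z1 * y b) * g⁻¹ ∈ b.S ⊓ 𝐍[b.U1]) : g ∈ SS b := by
  obtain ⟨h, e1, e2⟩ := ext b g
  exact (mul_mem_cancel_left (pair b (e2 (conj_mem_cj ⟨z_S b, mem_C1.2 (mem_C1.1 (b.zc hg)).symm⟩))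
    (e2 (conj_mem_cj ⟨y_S b, mem_C1.2 (mem_C1.1 (b.S0_le hg)).symm⟩)))).1 (Cz_le b e1)

theorem z_der {u : G} (hu : u ∈ b.S) (u2 : u * u = 1) (h0 : u * b.t ∈ 𝐍[b.U1]) :
    b.z1 * y b ∈ ⁅b.S ⊓ C1 u, b.S ⊓ C1 u⁆ := by
  have e : ∀ x, u * x * u⁻¹ = b.t * ((u * b.t)⁻¹ * x * (u * b.t)) * b.t⁻¹ := fun x => by
    rw [mul_inv_rev, inv_eq_of_mul_eq_one_right u2]; group
  have c : ∀ x ∈ b.U1, ∀ w ∈ b.U1, Commute x (u * w * u⁻¹) := fun x hx w hw =>
    (mem_cent.1 (b.cm (b.U1_le hx)) _ (e w ▸ conj_mem_cj (conj_mem_of_norm' h0 hw))).symm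
  let φ : b.U1 →* G := MonoidHom.mk' (fun x => x * (u * x * u⁻¹)) fun x w => by
    rw [(c _ w.2 _ x.2).symm.mul_mul_mul_comm, conj_mul]; rfl
  have h1 : φ.range ≤ b.S ⊓ C1 u := by
    rintro _ ⟨x, rfl⟩
    refine mem_inf.2 ⟨mul_mem (b.U1S x.2) (mul_mem (mul_mem hu (b.U1S x.2)) (inv_mem hu)), mem_C1.2 ?_⟩
    show x * (u * x * u⁻¹) * u = u * (x * (u * x * u⁻¹))
    conv_lhs => rw [(c _ x.2 _ x.2).eq]
    rw [inv_eq_of_mul_eq_one_right u2]
    simp only [mul_assoc, u2, mul_one]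
  obtain ⟨x, hx, hx'⟩ := (map_subtype_commutator b.U1).ge b.zd
  have h2 : φ x ∈ ⁅φ.range, φ.range⁆ := by
    rw [MonoidHom.range_eq_map, ← map_commutator]; exact mem_map_of_mem _ hx
  have h3 : φ x = b.z1 * y b := by
    show (x : G) * (u * x * u⁻¹) = _
    rw [show (x : G) = b.z1 from hx', e, mul_assoc _ b.z1, ← mem_C1.1 (b.zc ⟨mul_mem hu b.tS, h0⟩), inv_mul_cancel_left,
      t_z]
  exact h3 ▸ commutator_mono h1 h1 h2

theorem of_S {g : G} (hg : g * (b.z1 * y b) * g⁻¹ ∈ b.S) : g ∈ SS b := by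
  rcases b.sw _ hg with h0 | h0
  · exact of_S0 b ⟨hg, h0⟩
  obtain ⟨h, e1, e2⟩ := ext b g
  have h1 := conj_mem_cj (g := h) (z_der b hg (by rw [conj_mul, z_sq]; simp) h0)
  rw [cj_comm] at h1
  exact (mul_mem_cancel_left (of_S0 b (b.der_S (commutator_mono e2 e2 h1)))).1 (Cz_le b e1)

theorem uf {g : G} (hg : g * (b.z1 * y b) * g⁻¹ ∈ SS b) : g ∈ SS b := by
  have : Fact (Nat.Prime 2) := ⟨Nat.prime_two⟩
  obtain ⟨k, hk, e⟩ := (b.syl.mono (b.S_le.trans (Cz_le b)) le_top).conj_le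
    (StdB.pg_zpowers (by rw [conj_mul, z_sq]; simp)) (zpowers_le.2 hg)
  refine (mul_mem_cancel_left hk).1 (of_S b ?_)
  rw [show k * g * (b.z1 * y b) * (k * g)⁻¹ = k * (g * (b.z1 * y b) * g⁻¹) * k⁻¹ by group]
  exact e (conj_mem_cj (mem_zpowers _))

theorem simple {Y : Subgroup G} [IsSimpleGroup Y] (h1 : b.L1 ≤ Y) (hz : y b ∈ Y) : ¬ Y ≤ SS b := fun h => by
  have zL := b.U1_le b.z1_mem
  have h3 : Y ≤ H b := by
    have hn : ((H b).subgroupOf Y).Normal := ⟨fun a ha g => conj_mem_of_norm (A := H b) (S_norm b (h g.2)) ha⟩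
    rcases hn.eq_bot_or_eq_top with e | e
    · have : (⟨b.z1, h1 zL⟩ : Y) ∈ (H b).subgroupOf Y := L1_le b zL
      rw [e, mem_bot] at this
      exact absurd (congrArg Subtype.val this) b.zne
    · exact subgroupOf_eq_top.1 e
  have h4 : (⟨y b, hz⟩ : Y) ∈ ((C1 b.z1).subgroupOf Y).normalCore := fun w =>
    mem_C1.2 (pr_comm (((h3 w.2).2 _).2 (Blk.Pr.symm ⟨1, by simp, by simp⟩)))
  rcases (inferInstance : ((C1 b.z1).subgroupOf Y).normalCore.Normal).eq_bot_or_eq_top with e | e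
  · rw [e, mem_bot] at h4
    exact absurd (congrArg Subtype.val h4) (y_ne b)
  · exact b.nc fun l hl => (normalCore_le _ (e ▸ mem_top _) : (⟨l, h1 hl⟩ : Y) ∈ (C1 b.z1).subgroupOf Y)

theorem L1_X {X : Subgroup G} [hn : X.Normal] (hX : ∀ g, g ∈ X ∨ g * b.t ∈ X) : b.L1 ≤ X := by
  rw [← b.perf]
  refine commutator_le.2 fun a _ c _ => ?_
  have k : ∀ a ∈ X, ∀ c : G, ⁅a, c⁆ ∈ X := fun a ha c => by
    simpa [commutatorElement_def, mul_assoc] using mul_mem ha (hn.conj_mem _ (inv_mem ha) c)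
  rcases hX a with h | h
  · exact k a h c
  rcases hX c with h' | h'
  · simpa using inv_mem (k c h' a)
  · simpa [commutatorElement_def, mul_assoc] using k _ (mul_mem h (inv_mem h')) c

theorem not_norm : ¬ b.L1 ≤ 𝐍[b.U1] := fun h => by
  have : (b.U1.subgroupOf b.L1).Normal := (normal_subgroupOf_iff_le_normalizer b.U1_le).2 h
  have h1 : ⁅(⊤ : Subgroup b.L1), ⊤⁆ = ⊤ := map_injective b.L1.subtype_injective (by
    rw [map_commutator, map_subtype_top, b.perf])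
  have h2 := GT.perfect_le_of_isSolvable_quotient (N := b.U1.subgroupOf b.L1) h1
    (S0205.result (Nat.odd_iff.2 (Nat.two_dvd_ne_zero.1 b.sylL.nd)))
  exact b.nc ((subgroupOf_eq_top.1 (top_le_iff.1 h2)).trans ((le_inf b.U1S le_normalizer).trans b.zc))

end BlkC

open BlkC in
theorem Blk.false (b : Blk G) {X : Subgroup G} [X.Normal] [IsSimpleGroup X] (hX : ∀ g, g ∈ X ∨ g * b.t ∈ X) : False := by
  have : Fact (Nat.Prime 2) := ⟨Nat.prime_two⟩
  have h1 := L1_X b hX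
  have zL := b.U1_le b.z1_mem
  have h1' : y b ∈ X := t_z b ▸ Normal.conj_mem inferInstance _ (h1 zL) _
  have hz : b.z1 * y b ∈ X := mul_mem (h1 zL) h1'
  have hL : b.L1 ≤ SS b := (L1_le b).trans le_sup_left
  obtain ⟨P, hS, -⟩ := (b.syl.inf (M := X) le_top le_normalizer_of_normal).exists_sylow
  rcases S2901.result (K := X) (fun h => b.nc fun l hl => mem_C1.2 (congrArg Subtype.val
      (h.is_comm.comm (⟨_, h1 hl⟩ : X) ⟨_, h1 zL⟩))) ((SS b).subgroupOf X)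
    (fun e => simple b h1 h1' (subgroupOf_eq_top.1 e)) ⟨_, hz⟩ (Cz_le b (mem_C1.2 rfl))
    ⟨orderOf_eq_prime (by rw [pow_two]; exact Subtype.ext (z_sq b)) fun e => z_ne b (congrArg Subtype.val e),
      P, by
        rw [← SetLike.mem_coe, ← Sylow.coe_coe, hS]
        exact ⟨mul_mem (z_S b) (y_S b), hz⟩,
      fun x hx => Subtype.ext (mem_C1.1 (b.S_le (by
        rw [← SetLike.mem_coe, ← Sylow.coe_coe, hS] at hx
        exact hx.1)))⟩
    (fun x hx => Cz_le b (mem_C1.2 (congrArg Subtype.val (mem_centralizer_singleton_iff.1 hx))))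
    (fun g hg => ⟨g, uf b hg, rfl⟩) with ⟨-, Q, e⟩ | ⟨n, hn, -, ⟨e⟩⟩
  · have hQ := Syl.of_sylow_sub Q
    have h2 : b.L1 ≤ 𝐍[(Q : Subgroup X).map X.subtype] := fun l hl =>
      ((map_subtype_norm (Q : Subgroup X)).le ⟨⟨l, h1 hl⟩, e.le (hL hl), rfl⟩).2
    have h3 : b.U1 ≤ (Q : Subgroup X).map X.subtype :=
      hQ.le_of_norm' b.sylL.pg (b.U1_le.trans h1) (b.U1_le.trans h2)
    refine not_norm b ?_
    rw [← b.sylL.eq_of_le hQ.pg.to_inf_left (le_inf h3 b.U1_le) inf_le_right]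
    exact norm_inf h2 le_normalizer
  · have e' : (SS b ⊓ X : Subgroup G) ≃* alternatingGroup (Fin (n - 1)) :=
      ((subgroupOfEquivOfLe (inf_le_right : SS b ⊓ X ≤ X)).symm.trans
        (MulEquiv.subgroupCongr (inf_subgroupOf_right _ _))).trans e
    have h3 : b.L1 ≤ SS b ⊓ X := le_inf hL h1
    have h4 : 5 ≤ n - 1 := by
      by_contra h5
      obtain rfl : n = 5 := by omega
      have h6 := (card_le_of_le h3).trans_eq (Nat.card_congr e'.toEquiv)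
      rw [nat_card_alternatingGroup] at h6
      have h7 := GT.perfect_eq_bot_of_isSolvable b.perf (Perm.CompLen.isSolvable_of_card_lt_sixty (by
        simp [Nat.factorial] at h6; omega))
      exact b.nc (h7 ▸ bot_le)
    have := alternatingGroup.isSimpleGroup (α := Fin (n - 1)) (by simpa using h4)
    have := e'.isSimpleGroup
    exact simple b h3 ⟨mem_sup_left (fix b (mul_inv_eq_iff_eq_mul.2 b.z12.symm) (mul_inv_cancel_right _ _)), h1'⟩ inf_le_left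

end Cfsg.Agent.U52
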