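import Mathlib
import Cfsg.Agent.U52.Cfg3
import Cfsg.Agent.U52.CB
import Cfsg.Agent.U52.TL

set_option autoImplicit false
set_option linter.unusedSectionVars false

namespace Cfsg.Agent.U52

open Cfsg Cfsg.Agent.Cl Cfsg.Agent.Loc.Mss Subgroup Module
open Cfsg.Agent.StdB (C1 mem_C1 El)
open scoped commutatorElement

variable {F : Type*} [Field F] [Finite F] [CharP F 2] {σ : F →+* F} {V : Type*} [AddCommGroup V] [Module F V]
  [Finite V] {B : V →ₗ[F] V →ₛₗ[σ] F} {q : ℕ} {G : Type*} [Group G] [Finite G]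

theorem PB_two {g : G} {n : ℕ} (h : g ^ 2 ^ n = 1) (ho : Odd (orderOf g)) : g = 1 := by
  have h1 : orderOf g ∣ 2 ^ n := orderOf_dvd_of_pow_eq_one h
  have h2 : (orderOf g).Coprime (2 ^ n) := Nat.Coprime.pow_right n (Nat.coprime_two_right.2 ho)
  exact orderOf_eq_one_iff.1 (h2.eq_one_of_dvd h1)

theorem PB_norm {ψ : SU B →* G} (h : Sp B q) {X : Subgroup G} (hc : Nat.card X = Nat.card ψ.range)
    (h1 : X ≤ 𝐍[ψ.range]) (h2 : ψ.range ≤ 𝐍[X]) : X = ψ.range ∨ X ≤ 𝐂[ψ.range] := by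
  rcases h.normal_range (N := X ⊓ ψ.range) inf_le_right (norm_inf h2 le_normalizer) with e | e
  · right
    have h3 : ⁅ψ.range, X⁆ ≤ 𝐂[ψ.range] :=
      (le_inf (comm_le_right h2) (comm_le_left h1)).trans e
    rw [← comm_eq_bot_iff', ← h.range_perf (ψ := ψ), commutator_comm, eq_bot_iff]
    have h4 : ⁅⁅ψ.range, X⁆, ψ.range⁆ = ⊥ := comm_eq_bot_iff.2 h3
    have := three_subgroups (A := ψ.range) (B := ψ.range) (C := X) (W := ⊥) (norm_normal _ _) (norm_normal _ _)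
      (norm_normal _ _) h4.le (by rw [commutator_comm X]; exact h4.le)
    rwa [commutator_comm]
  · left
    exact (eq_of_le_of_card_ge (inf_eq_right.1 e) hc.le).symm

namespace Cfg.Pd

variable {c : Cfg B q G} (p : c.Pd)

theorem ker2 : IsE p.ψ2 := p.ker.cjh c.t

theorem L1_cent : p.L1 ≤ 𝐂[p.L2] := by
  intro a ha
  obtain ⟨x, -, rfl⟩ := mem_range_iff.1 ha
  refine mem_cent.2 fun b hb => ?_
  obtain ⟨y, -, rfl⟩ := mem_range_iff.1 hb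
  exact (p.comm12 x y).symm

theorem PB_L2_cent : p.L2 ≤ 𝐂[p.L1] := cent_comm p.L1_cent

theorem PB_ne : p.L1 ≠ p.L2 := fun e =>
  c.sp.not_ab p.ker le_rfl (by have := p.L1_cent; rwa [← e] at this)

theorem mem_G0 {g : G} : g ∈ p.G0 ↔ ∃ a ∈ p.L1, ∃ b ∈ p.L2, g = a * b :=
  (mem_sup_norm (norm_of_cent p.PB_L2_cent)).trans
    ⟨fun ⟨a, ha, b, hb, e⟩ => ⟨a, ha, b, hb, e.symm⟩, fun ⟨a, ha, b, hb, e⟩ => ⟨a, ha, b, hb, e.symm⟩⟩

theorem L_le : c.L ≤ p.G0 := by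
  intro g hg
  obtain ⟨x, -, rfl⟩ := mem_range_iff.1 hg
  exact p.mem_G0.2 ⟨_, ev_mem_range x, _, ev_mem_range x, p.diag12 x⟩

theorem G0_le : p.G0 ≤ p.M0 :=
  sup_le (le_inf le_normalizer (norm_of_cent p.L1_cent)) (le_inf (norm_of_cent p.PB_L2_cent) le_normalizer)

theorem M0_le : p.M0 ≤ p.M := norm_sup inf_le_left inf_le_right

theorem t_mem : c.t ∈ p.M := by
  refine cj_eq_iff.1 ?_
  rw [G0, cj_sup, p.cj_L2, ← p.L2_eq, sup_comm]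

theorem t_notMem : c.t ∉ p.M0 := fun h => p.PB_ne (by rw [p.L2_eq, cj_of_norm h.1])

theorem t_norm : c.t ∈ 𝐍[p.M0] := by
  refine cj_eq_iff.1 ?_
  rw [M0, cj_inf, cj_norm, cj_norm, p.cj_L2, ← p.L2_eq, inf_comm]

theorem PB_M0 {g : G} (hg : g ∈ c.C) (h : g ∈ 𝐍[p.L1]) : g ∈ p.M0 := by
  refine ⟨h, cj_eq_iff.1 ?_⟩
  rw [p.L2_eq, cj_cj, mem_C1.1 hg, ← cj_cj, cj_of_norm h]

theorem C_le : c.C ≤ p.M := by
  intro g hg
  obtain ⟨γ, hγ, ha⟩ := c.act hg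
  rcases p.act g hg γ hγ ha with h | h
  · exact p.M0_le (p.PB_M0 hg (h.mem_norm (c.sp.Gam_norm hγ)))
  · have := p.M0_le (p.PB_M0 (mul_mem hg c.t_mem_K0.1) (h.mem_norm (c.sp.Gam_norm hγ)))
    exact (mul_mem_cancel_right p.t_mem).1 this

theorem PB_cj {g : G} (hg : g ∈ p.M) : cj(g, p.L1) = p.L1 ∨ cj(g, p.L1) = p.L2 := by
  have hle : cj(g, p.L1) ≤ p.G0 := cj_le_of_norm le_sup_left hg
  have hn : p.G0 ≤ 𝐍[cj(g, p.L1)] := by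
    rw [← cj_norm, ← cj_of_norm hg]
    exact cj_mono g (p.G0_le.trans inf_le_left)
  rcases PB_norm (ψ := p.ψ1) c.sp (card_cj _ g) (hle.trans (p.G0_le.trans inf_le_left)) (le_sup_left.trans hn)
    with h1 | h1
  · exact Or.inl h1
  rcases PB_norm (ψ := p.ψ2) (X := cj(g, p.L1)) c.sp
    ((card_cj _ g).trans (by rw [← card_cj p.L1 c.t, ← p.L2_eq]))
    (hle.trans (p.G0_le.trans inf_le_right)) (le_sup_right.trans hn) with h2 | h2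
  · exact Or.inr h2
  exfalso
  have h3 : cj(g, p.L1) ≤ 𝐂[cj(g, p.L1)] := (le_cent_sup h1 h2).trans (cent_anti hle)
  rw [← cj_cent, cj_le_cj] at h3
  exact c.sp.not_ab p.ker le_rfl h3

theorem swap {g : G} (hg : g ∈ p.M) (h0 : g ∉ p.M0) : cj(g, p.L1) = p.L2 ∧ cj(g, p.L2) = p.L1 := by
  have h2 : cj(g, p.L2) = p.L1 ∨ cj(g, p.L2) = p.L2 := by
    rw [p.L2_eq, cj_cj, ← p.L2_eq]
    exact p.PB_cj (mul_mem hg p.t_mem)
  have hne : cj(g, p.L1) ≠ cj(g, p.L2) := fun e => p.PB_ne (cj_eq_cj.1 e)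
  rcases p.PB_cj hg with h1 | h1 <;> rcases h2 with h2 | h2
  · exact absurd (h1.trans h2.symm) hne
  · exact absurd ⟨cj_eq_iff.1 h1, cj_eq_iff.1 h2⟩ h0
  · exact ⟨h1, h2⟩
  · exact absurd (h1.trans h2.symm) hne

theorem PB_mul {g u : G} (hg : g ∈ p.M) (h0 : g ∉ p.M0) (hu : u ∈ p.M) (hu0 : u ∉ p.M0) : g * u ∈ p.M0 := by
  obtain ⟨h1, h2⟩ := p.swap hg h0
  obtain ⟨h3, h4⟩ := p.swap hu hu0
  exact ⟨cj_eq_iff.1 (by rw [← cj_cj, h3, h2]), cj_eq_iff.1 (by rw [← cj_cj, h4, h1])⟩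

theorem M_dec {g : G} (hg : g ∈ p.M) : g ∈ p.M0 ∨ g * c.t ∈ p.M0 := by
  by_cases h : g ∈ p.M0
  · exact Or.inl h
  · exact Or.inr (p.PB_mul hg h p.t_mem p.t_notMem)

theorem odd_cent : Odd (Nat.card 𝐂[p.G0]) := by
  refine odd_of_free c.t2 (norm_cent (A := p.G0) le_rfl p.t_mem) fun d hd d2 e => ?_
  rcases c.inv_K0 ⟨mem_C1.2 e, cent_anti p.L_le hd⟩ d2 with h | h
  · exact h
  · subst h
    exact absurd ⟨cent_le_norm _ (cent_anti le_sup_left hd), cent_le_norm _ (cent_anti le_sup_right hd)⟩ p.t_notMem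

theorem PB_cent {g : G} (h1 : g ∈ 𝐂[p.L1]) (h2 : g ∈ 𝐂[p.L2]) : g ∈ 𝐂[p.G0] := by
  rw [G0, cent_sup]; exact ⟨h1, h2⟩

theorem PB_odd {g : G} (h1 : g ∈ 𝐂[p.L1]) (h2 : g ∈ 𝐂[p.L2]) : Odd (orderOf g) :=
  p.odd_cent.of_dvd_nat (orderOf_dvd_natCard _ (p.PB_cent h1 h2))

theorem eq_one_of_cent {g : G} (h1 : g ∈ 𝐂[p.L1]) (h2 : g ∈ 𝐂[p.L2]) {n : ℕ} (h : g ^ 2 ^ n = 1) : g = 1 :=
  PB_two h (p.PB_odd h1 h2)

theorem eq_one_of_mem {g : G} (h1 : g ∈ p.L1) (h2 : g ∈ p.L2) {n : ℕ} (h : g ^ 2 ^ n = 1) : g = 1 :=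
  p.eq_one_of_cent (p.PB_L2_cent h2) (p.L1_cent h1) h

theorem PB_lift {ψ : SU B →* G} (hψ : IsE ψ) {a : G} (ha : a ∈ ψ.range) {n : ℕ} (h : a ^ 2 ^ n = 1) :
    ∃ x ∈ SU B, x ^ 2 ^ n = 1 ∧ ev ψ x = a := by
  obtain ⟨x, hx, ⟨m, hm⟩, e⟩ := exists_two ha h
  refine ⟨x, hx, hψ.eq_one_of_two (pow_mem hx _) (by rw [ev_pow hx, e, h]) (n := m) ?_, e⟩
  rw [← pow_mul, mul_comm, pow_mul, hm, one_pow]

theorem two_dec {g : G} (hg : g ∈ p.G0) {n : ℕ} (h : g ^ 2 ^ n = 1) :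
    ∃ x ∈ SU B, ∃ y ∈ SU B, x ^ 2 ^ n = 1 ∧ y ^ 2 ^ n = 1 ∧ g = ev p.ψ1 x * ev p.ψ2 y := by
  obtain ⟨a, ha, b, hb, rfl⟩ := p.mem_G0.1 hg
  have hc : Commute a b := (mem_cent.1 (p.PB_L2_cent hb) a ha)
  have h1 : a ^ 2 ^ n * b ^ 2 ^ n = 1 := by rw [← hc.mul_pow, h]
  have h2 : a ^ 2 ^ n = (b ^ 2 ^ n)⁻¹ := eq_inv_of_mul_eq_one_left h1
  have ho : Odd (orderOf (a ^ 2 ^ n)) :=
    p.PB_odd (p.PB_L2_cent (h2 ▸ inv_mem (pow_mem hb _))) (p.L1_cent (pow_mem ha _))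
  obtain ⟨k, hk1, hk2⟩ := Nat.chineseRemainder
    (Nat.Coprime.pow_right n (Nat.coprime_two_right.2 ho)) 0 1
  have ha' : (a ^ k) ^ 2 ^ n = 1 := by
    rw [← pow_mul, mul_comm, pow_mul]
    exact orderOf_dvd_iff_pow_eq_one.1 (Nat.modEq_zero_iff_dvd.1 hk1)
  have hg' : (a * b) ^ k = a * b := by
    have := (pow_eq_pow_iff_modEq (x := a * b)).2 (hk2.of_dvd (orderOf_dvd_of_pow_eq_one h))
    rwa [pow_one] at this
  have hb' : (b ^ k) ^ 2 ^ n = 1 := by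
    have := h
    rw [← hg', hc.mul_pow, (hc.pow_pow k k).mul_pow, ha', one_mul] at this
    exact this
  obtain ⟨x, hx, x2, ex⟩ := PB_lift p.ker (pow_mem ha k) ha'
  obtain ⟨y, hy, y2, ey⟩ := PB_lift p.ker2 (pow_mem hb k) hb'
  exact ⟨x, hx, y, hy, x2, y2, by rw [ex, ey, ← hc.mul_pow, hg']⟩

theorem inv_dec {g : G} (hg : g ∈ p.G0) (h : g * g = 1) :
    ∃ a ∈ p.L1, ∃ b ∈ p.L2, a * a = 1 ∧ b * b = 1 ∧ g = a * b := by
  obtain ⟨x, hx, y, hy, x2, y2, e⟩ := p.two_dec hg (n := 1) (by rw [pow_one, pow_two, h])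
  rw [pow_one, pow_two] at x2 y2
  exact ⟨_, ev_mem_range x, _, ev_mem_range y, by rw [← ev_mul hx hx, x2, ev_one],
    by rw [← ev_mul hy hy, y2, ev_one], e⟩

theorem eq_of_act {g : G} {n : ℕ} (h : g ^ 2 ^ n = 1) {x y : SG F V} (hx : x ∈ SU B) (hy : y ∈ SU B) {m : ℕ}
    (hx2 : x ^ 2 ^ m = 1) (hy2 : y ^ 2 ^ m = 1) (h1 : Act p.ψ1 g x) (h2 : Act p.ψ2 g y) :
    g = ev p.ψ1 x * ev p.ψ2 y := by
  have hc : Commute (ev p.ψ1 x) (ev p.ψ2 y) := p.comm12 x y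
  have k1 : g * (ev p.ψ1 x * ev p.ψ2 y)⁻¹ ∈ 𝐂[p.L1] := by
    rw [hc.eq, mul_inv_rev, ← mul_assoc]
    exact mul_mem (h1.mul_inv_cent hx) (inv_mem (p.PB_L2_cent (ev_mem_range y)))
  have k2 : g * (ev p.ψ1 x * ev p.ψ2 y)⁻¹ ∈ 𝐂[p.L2] := by
    rw [mul_inv_rev, ← mul_assoc]
    exact mul_mem (h2.mul_inv_cent hy) (inv_mem (p.L1_cent (ev_mem_range x)))
  have hw : ev p.ψ1 x * ev p.ψ2 y ∈ p.G0 := p.mem_G0.2 ⟨_, ev_mem_range x, _, ev_mem_range y, rfl⟩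
  have w2 : (ev p.ψ1 x * ev p.ψ2 y) ^ 2 ^ m = 1 := by
    rw [hc.mul_pow, ← ev_pow hx, ← ev_pow hy, hx2, hy2, ev_one, ev_one, one_mul]
  set w := ev p.ψ1 x * ev p.ψ2 y
  have hk : Commute w (g * w⁻¹) := mem_cent.1 (p.PB_cent k1 k2) w hw
  have hgw : Commute g w⁻¹ := by
    have : Commute (g * w⁻¹ * w) w⁻¹ := (hk.symm.inv_right).mul_left (Commute.refl w).inv_right
    rwa [inv_mul_cancel_right] at this
  refine mul_inv_eq_one.1 (p.eq_one_of_cent k1 k2 (n := n + m) ?_)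
  rw [hgw.mul_pow, inv_pow, pow_add, pow_mul, h, one_pow, mul_comm (2 ^ n), pow_mul, w2, one_pow, inv_one, one_mul]

theorem act_t {g : G} {γ : SG F V} : Act p.ψ2 (c.t * g * c.t) γ ↔ Act p.ψ1 g γ := by
  refine forall₂_congr fun x _ => ?_
  rw [p.ev2, p.ev2, mul_inv_rev, mul_inv_rev, c.t_inv]
  have : c.t * g * c.t * (c.t * ev p.ψ1 x * c.t) * (c.t * (g⁻¹ * c.t)) =
      c.t * (g * (c.t * c.t) * ev p.ψ1 x * (c.t * c.t) * g⁻¹) * c.t := by group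
  rw [this, c.t2, mul_one, mul_one, mul_left_inj, mul_right_inj]

theorem act12 (x γ : SG F V) {g : G} (h : Act p.ψ1 g γ) : Act p.ψ1 (ev p.ψ2 x * g) γ :=
  h.cent_mul (p.PB_L2_cent (ev_mem_range x))

theorem lift12 {P : Subgroup G} (hP : IsPGroup 2 P) (hle : P ≤ p.M0) : ∃ α β : P →* SG F V,
    (∀ s, α s ∈ Gam B ∧ β s ∈ Gam B ∧ Act p.ψ1 s (α s) ∧ Act p.ψ2 s (β s)) ∧ ∀ s, α s = 1 → β s = 1 → s = 1 := by
  obtain ⟨α, hα⟩ := c.sp.lift2 p.ker hP (hle.trans inf_le_left)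
  obtain ⟨β, hβ⟩ := c.sp.lift2 p.ker2 hP (hle.trans inf_le_right)
  refine ⟨α, β, fun s => ⟨(hα s).1, (hβ s).1, (hα s).2, (hβ s).2⟩, fun s h1 h2 => ?_⟩
  obtain ⟨n, hn⟩ := pg_iff.1 hP s s.2
  exact Subtype.ext (p.eq_one_of_cent (act_one_iff.1 (h1 ▸ (hα s).2)) (act_one_iff.1 (h2 ▸ (hβ s).2)) hn)

theorem el_swap {E : Subgroup G} (hE : El E) (hle : E ≤ p.M) (h0 : ¬ E ≤ p.M0) :
    Nat.card E ≤ 2 * q ^ ((finrank F V / 2) ^ 2) := by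
  classical
  obtain ⟨u, hu, hu0⟩ := SetLike.not_le_iff_exists.1 h0
  have hE0 : El (E ⊓ p.M0) := fun g hg => hE g hg.1
  obtain ⟨α, hα⟩ := c.sp.lift2 p.ker (JJ_pg hE0) (inf_le_right.trans inf_le_left)
  have hinj : Function.Injective α := by
    refine (injective_iff_map_eq_one α).2 fun s hs => Subtype.ext ?_
    have h1 : (s : G) ∈ 𝐂[p.L1] := act_one_iff.1 (hs ▸ (hα s).2)
    have h2 : (s : G) ∈ 𝐂[p.L2] := by
      rw [← (p.swap (hle hu) hu0).1, ← cj_cent]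
      have := conj_mem_cj (g := u) h1
      rwa [JJ_comm hE s.2.1 hu, mul_inv_cancel_right] at this
    exact p.eq_one_of_cent h1 h2 (n := 1) (by rw [pow_one, pow_two]; exact hE0 s s.2)
  have h1 : Nat.card (E ⊓ p.M0 : Subgroup G) ≤ q ^ ((finrank F V / 2) ^ 2) := by
    rw [Nat.card_congr (MonoidHom.ofInjective hinj).toEquiv]
    refine c.sp.el_le ?_ ?_
    · rintro _ ⟨s, rfl⟩
      rw [← map_mul, show s * s = 1 from Subtype.ext (hE0 s s.2), map_one]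
    · rintro _ ⟨s, rfl⟩
      exact (hα s).1
  refine le_trans ?_ (Nat.mul_le_mul_left 2 h1)
  rw [← Nat.card_eq_fintype_card.trans Fintype.card_bool, ← Nat.card_prod]
  refine Nat.card_le_card_of_injective (fun g : E => if h : (g : G) ∈ p.M0 then
    ((true, ⟨g, g.2, h⟩) : Bool × (E ⊓ p.M0 : Subgroup G))
    else (false, ⟨g * u, mul_mem g.2 hu, p.PB_mul (hle g.2) h (hle hu) hu0⟩)) fun g g' e => ?_
  by_cases h : (g : G) ∈ p.M0 <;> by_cases h' : (g' : G) ∈ p.M0 <;>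
    simp only [h, h', dite_true, dite_false, Prod.mk.injEq] at e
  · exact Subtype.ext (Subtype.mk.inj e.2)
  · exact absurd e.1 (by decide)
  · exact absurd e.1 (by decide)
  · exact Subtype.ext (mul_right_cancel (Subtype.mk.inj e.2))

theorem exists_diag {u : G} (hu : u ∈ p.M) (h0 : u ∉ p.M0) (u2 : u * u = 1) : ∃ f : SU B →* G, IsE f ∧
    (∀ x, ev f x = ev p.ψ1 x * (u * ev p.ψ1 x * u)) ∧ f.range ≤ C1 u := by
  have ui : u⁻¹ = u := inv_eq_of_mul_eq_one_right u2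
  have h2 : ∀ a ∈ p.L1, u * a * u ∈ p.L2 := fun a ha => by
    have := conj_mem_cj (g := u) ha
    rwa [(p.swap hu h0).1, ui] at this
  have hc : ∀ a ∈ p.L1, ∀ b ∈ p.L1, u * a * u * b = b * (u * a * u) := fun a ha b hb =>
    mem_cent.1 (p.L1_cent hb) _ (h2 a ha)
  let f : SU B →* G := MonoidHom.mk' (fun x => p.ψ1 x * (u * p.ψ1 x * u)) fun x y => by
    rw [map_mul]
    calc p.ψ1 x * p.ψ1 y * (u * (p.ψ1 x * p.ψ1 y) * u)
        = p.ψ1 x * (p.ψ1 y * (u * p.ψ1 x * u)) * (u⁻¹ * p.ψ1 y * u) := by group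
      _ = _ := by rw [← hc _ ⟨x, rfl⟩ _ ⟨y, rfl⟩, ui]; group
  have hf : ∀ x, f x = p.ψ1 x * (u * p.ψ1 x * u) := fun _ => rfl
  refine ⟨f, c.sp.isE_of_ne fun e => ?_, fun x => ?_, ?_⟩
  · refine c.sp.not_ab p.ker le_rfl (le_trans ?_ p.PB_L2_cent)
    rintro _ ⟨x, rfl⟩
    have : f x = 1 := by rw [← mem_bot, ← e]; exact ⟨x, rfl⟩
    rw [hf] at this
    rw [eq_inv_of_mul_eq_one_left this]
    exact inv_mem (h2 _ ⟨x, rfl⟩)
  · unfold ev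
    split_ifs
    · rfl
    · rw [mul_one, one_mul, u2]
  · rintro _ ⟨x, rfl⟩
    rw [mem_C1, hf]
    calc p.ψ1 x * (u * p.ψ1 x * u) * u = u * p.ψ1 x * u * p.ψ1 x * u := by rw [hc _ ⟨x, rfl⟩ _ ⟨x, rfl⟩]
      _ = _ := by group

theorem PB_im_cent (H H' : Subgroup (SG F V)) : im p.ψ1 H ≤ 𝐂[im p.ψ2 H'] :=
  ((im_le_range H).trans p.L1_cent).trans (cent_anti (im_le_range H'))

theorem card_sup {H H' : Subgroup (SG F V)} (hH : IsPGroup 2 H) (hH' : IsPGroup 2 H') (h : H ≤ SU B) (h' : H' ≤ SU B) :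
    Nat.card (im p.ψ1 H ⊔ im p.ψ2 H' : Subgroup G) = Nat.card H * Nat.card H' := by
  rw [GT.card_sup_of_inf_eq_bot (norm_of_cent (p.PB_im_cent H H')), p.ker.card_im hH h, p.ker2.card_im hH' h']
  refine eq_bot_iff.2 fun g hg => ?_
  obtain ⟨n, hn⟩ := pg_iff.1 (im_two (ψ := p.ψ1) hH) g hg.1
  exact p.eq_one_of_mem (im_le_range _ hg.1) (im_le_range _ hg.2) hn

theorem el_sup {H H' : Subgroup (SG F V)} (hH : El H) (hH' : El H') : El (im p.ψ1 H ⊔ im p.ψ2 H') := by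
  intro g hg
  obtain ⟨a, ha, b, hb, rfl⟩ := (mem_sup_norm' (norm_of_cent (p.PB_im_cent H H'))).1 hg
  have hc : b * a = a * b := mem_cent.1 (p.PB_im_cent H H' ha) b hb
  rw [mul_assoc, ← mul_assoc b, hc, mul_assoc, im_el hH' b hb, mul_one, im_el hH a ha]

theorem two_sup {H H' : Subgroup (SG F V)} (hH : IsPGroup 2 H) (hH' : IsPGroup 2 H') :
    IsPGroup 2 (im p.ψ1 H ⊔ im p.ψ2 H' : Subgroup G) :=
  pg_sup (im_two hH) (im_two hH') (norm_of_cent (p.PB_im_cent H H'))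

theorem cj_im (H : Subgroup (SG F V)) : cj(c.t, im p.ψ1 H) = im p.ψ2 H := (im_cjh c.t H).symm

theorem card_J {W : Submodule F V} (hW : MaxTI B W) :
    Nat.card (p.J W) = q ^ ((finrank F V / 2) ^ 2) * q ^ ((finrank F V / 2) ^ 2) := by
  rw [J, p.card_sup (JJ_pg (c.sp.AW_el hW.ti)) (JJ_pg (c.sp.AW_el hW.ti)) (AW_le W) (AW_le W),
    c.sp.card_AW hW.ti, hW.dim]

end Cfg.Pd

end Cfsg.Agent.U52
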