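import Mathlib
import Cfsg.Agent.U52.Cfg2
import Cfsg.Agent.U52.AWb
import Cfsg.Agent.U52.Flag
import Cfsg.Agent.U52.JS
import Cfsg.Agent.U52.Cen

set_option autoImplicit false
set_option linter.unusedSectionVars false
set_option linter.unusedVariables false

namespace Cfsg.Agent.U52

open Cfsg Cfsg.Agent.Cl Cfsg.Agent.Loc.Mss Subgroup Module
open Cfsg.Agent.StdB (C1 mem_C1 El)
open scoped commutatorElement

variable {F : Type*} [Field F] [Finite F] [CharP F 2] {σ : F →+* F} {V : Type*} [AddCommGroup V] [Module F V]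
  [Finite V] {B : V →ₗ[F] V →ₛₗ[σ] F} {q : ℕ} {G : Type*} [Group G] [Finite G]

theorem Mu_idx_le {A H : Subgroup G} {X : Type*} [Finite X] (φ : A → X)
    (hφ : ∀ a b, φ a = φ b → (a : G)⁻¹ * b ∈ H) : H.relIndex A ≤ Nat.card X :=
  Nat.card_le_card_of_injective (fun c : A ⧸ H.subgroupOf A => φ c.out) fun c d e => by
    rw [← c.out_eq', ← d.out_eq', QuotientGroup.eq]
    exact hφ _ _ e

theorem Mu_le_idx {A : Subgroup G} {g : G} {X : Type*} (φ : X → G) (hφ : Function.Injective φ)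
    (hm : ∀ x, φ x ∈ Cm A g) : Nat.card X ≤ (C1 g).relIndex A := by
  choose a ha e using hm
  refine Nat.card_le_card_of_injective (fun x => ((⟨a x, ha x⟩ : A) : A ⧸ (C1 g).subgroupOf A)) fun x y h => hφ ?_
  have h' := QuotientGroup.eq.1 h
  have : (a x)⁻¹ * a y * g = g * ((a x)⁻¹ * a y) := mem_C1.1 h'
  rw [e x, e y]
  calc a x * g * (a x)⁻¹ * g⁻¹ = a x * (g * ((a x)⁻¹ * a y)) * (a y)⁻¹ * g⁻¹ := by group
    _ = _ := by rw [← this]; group

theorem Mu_rank {V' : Type*} [AddCommGroup V'] [Module F V'] (N : V →ₗ[F] V') (U : Submodule F V) :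
    finrank F (U.map N) + finrank F (U ⊓ LinearMap.ker N : Submodule F V) = finrank F U := by
  rw [← (N.domRestrict U).finrank_range_add_finrank_ker, LinearMap.range_domRestrict, LinearMap.ker_domRestrict,
    ← Submodule.finrank_map_subtype_eq U, Submodule.map_comap_subtype]

theorem Mu_hyp (U : Submodule F V) (f : V) : ∃ H : Submodule F V, (∀ x, x ∈ H ↔ x ∈ U ∧ B x f = 0) ∧
    finrank F U ≤ finrank F H + 1 := by
  refine ⟨U ⊓ LinearMap.ker (B.flip f), fun x => Iff.rfl, ?_⟩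
  have h1 := Mu_rank (B.flip f) U
  have h2 := (U.map (B.flip f)).finrank_le
  rw [finrank_self] at h2
  omega

theorem Mu_fixsp {W : Submodule F V} {k : SG F V} (hf : fld k = 1) (hk : k ∈ St W) (k2 : k * k = 1) :
    ∃ C : Submodule F V, (∀ x, x ∈ C ↔ x ∈ W ∧ k • x = x) ∧ finrank F W ≤ 2 * finrank F C := by
  let N : V →ₗ[F] V := (toLin k hf : V →ₗ[F] V) + LinearMap.id
  have e : ∀ x, N x = k • x + x := fun _ => rfl
  have m : ∀ x, x ∈ W ⊓ LinearMap.ker N ↔ x ∈ W ∧ k • x = x := fun x =>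
    and_congr_right fun _ => by rw [SetLike.mem_coe, LinearMap.mem_ker, e, vadd_eq_zero (F := F)]
  refine ⟨_, m, ?_⟩
  have h1 := Mu_rank N W
  have h2 : finrank F (W.map N) ≤ finrank F (W ⊓ LinearMap.ker N : Submodule F V) := Submodule.finrank_mono (by
    rintro _ ⟨x, hx, rfl⟩
    exact (m _).2 ⟨add_mem (St.mem hk hx) hx, by rw [e, smul_add, ← mul_smul, k2, one_smul, add_comm]⟩)
  omega

theorem Mu_move {W : Submodule F V} {g g' : SG F V} (hg' : g' ∈ St W) (g2' : g' * g' = 1) (hc : g * g' = g' * g)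
    (hn : g ∉ Fix F (W : Set V)) : ∃ w ∈ W, w + g • w ≠ 0 ∧ g' • (w + g • w) = w + g • w := by
  obtain ⟨w, hw, e⟩ : ∃ w ∈ W, g • w ≠ w := by simpa [mem_Fix] using hn
  by_cases h1 : g' • (w + g • w) = w + g • w
  · exact ⟨w, hw, fun e' => e ((vadd_eq_zero (F := F)).1 e').symm, h1⟩
  · have e1 : w + g' • w + g • (w + g' • w) = w + g • w + g' • (w + g • w) := by
      rw [smul_add, smul_add, ← mul_smul, ← mul_smul, hc]; abel
    refine ⟨w + g' • w, add_mem hw (St.mem hg' hw), fun e' => h1 ?_, ?_⟩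
    · exact ((vadd_eq_zero (F := F)).1 (e1 ▸ e')).symm
    · rw [e1, smul_add g' (w + g • w), ← mul_smul, g2', one_smul, add_comm]

namespace Sp

variable (h : Sp B q)
include h

theorem Mu_card (U : Submodule F V) : Nat.card U = q ^ (2 * finrank F U) := by
  rw [Module.natCard_eq_pow_finrank (K := F), h.uf.card, pow_mul]

theorem Mu_cm {W : Submodule F V} (hW : TI B W) {g : SG F V} (hg : g ∈ Gam B ⊓ St W) {w y : V} (hw : w ∈ W)
    (hy : y ∈ W) (e : g • y = y) : xx B (w + g • w) y ∈ Cm (AW B W) g := by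
  have gw := St.mem hg.2 hw
  refine ⟨xx B w y, h.xx_mem_AW hW hw hy, ?_⟩
  rw [inv_eq_of_mul_eq_one_right (h.xx_sq (hW _ hw _ hw) (hW _ hy _ hw) (hW _ hy _ hy)), mul_assoc, mul_assoc,
    ← mul_assoc g, h.xx_conj hg.1 (hW _ hw _ hw) (hW _ hy _ hw), e,
    h.xx_symm (hW _ (add_mem hw gw) _ (add_mem hw gw)) (hW _ hy _ (add_mem hw gw)) (hW _ hy _ hy),
    h.xx_add (hW _ hy _ hy) (hW _ hw _ hy) (hW _ gw _ hy) (hW _ gw _ hw),
    h.xx_symm (hW _ hw _ hw) (hW _ hy _ hw) (hW _ hy _ hy), h.xx_symm (hW _ gw _ gw) (hW _ hy _ gw) (hW _ hy _ hy)]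

theorem Mu_cm' {W : Submodule F V} (hW : TI B W) {g : SG F V} (hg : g ∈ Gam B ⊓ St W) (g2 : g * g = 1)
    (hf : fld g ≠ 1) {e y : V} (he : e ∈ W) (hy : y ∈ W) (e1 : g • e = e) (e2 : g • y = y) :
    xx B e y ∈ Cm (AW B W) g := by
  obtain ⟨ω, hω⟩ := h.exists_omega
  have := h.Mu_cm hW hg (W.smul_mem ω he) hy e2
  rwa [smul_sm, (h.fld_of_sq (by rw [← map_mul, g2, map_one])).resolve_left hf, e1, ← add_smul, hω, one_smul] at this

theorem Mu_ne {e y : V} (he : Iso B e) (hy : B y e = 0) (hn : y ∉ F ∙ e) : xx B e y ≠ 1 := fun e1 => by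
  obtain ⟨c, e2, -⟩ := h.ei_eq_ei he (u := 0) (by simp) hy ((h.xx_zero he.iso).trans e1.symm)
  exact hn (Submodule.mem_span_singleton.2 ⟨c, by rw [e2, zero_add]⟩)

theorem Mu_comm {W : Submodule F V} (hW : TI B W) {e f : V} (he : e ∈ W) (hfe : B f e = 0) {a : SG F V}
    (ha : a ∈ AW B W) {k : F} (hk : σ k = k) (e1 : a • f = f + k • e) : a * xx B e f = xx B e f * a := by
  rw [← mul_inv_eq_iff_eq_mul, h.xx_conj (SU_le_Gam ha.1) (hW _ he _ he) hfe, h.AW_fix ha (hW.le he), e1,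
    h.xx_add_smul (hW _ he _ he) hfe, hk, CharTwo.add_self_eq_zero, tv_zero, mul_one]

theorem Mu_comm' {W : Submodule F V} (hW : TI B W) {e f : V} (he : e ∈ W) (h0 : e ≠ 0) (hfe : B f e = 0)
    {a : SG F V} (ha : a ∈ AW B W) (e1 : a * xx B e f = xx B e f * a) : ∃ k, σ k = k ∧ a • f = f + k • e := by
  rw [← mul_inv_eq_iff_eq_mul, h.xx_conj (SU_le_Gam ha.1) (hW _ he _ he) hfe, h.AW_fix ha (hW.le he)] at e1
  obtain ⟨k, e2, e3⟩ := h.ei_eq_ei ⟨h0, hW _ he _ he⟩ hfe (by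
    rw [← h.AW_fix ha (hW.le he), SU_map ha.1, hfe]) e1.symm
  exact ⟨k, (CharTwo.add_eq_zero.1 (by rw [e3, zero_add])).symm, e2⟩

theorem Mu_xx0 (f : V) : xx B 0 f = 1 :=
  SG.ext2 (fun x => by rw [h.xx_smul (by simp) (by simp)]; simp) (by simp)

theorem Mu_one {W : Submodule F V} {f : V} (hn : f ∉ uPerp B W) : ∃ u ∈ W, B u f = 1 := by
  obtain ⟨u, hu, e⟩ : ∃ u ∈ W, B u f ≠ 0 := by simpa [mem_uPerp] using hn
  exact ⟨(B u f)⁻¹ • u, W.smul_mem _ hu, by simp [e]⟩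

theorem Mu_out {β : SG F V} (b2 : β * β = 1) (hβ : fld β ≠ 1) {U X : Submodule F V} (hU : β ∈ St U)
    (hn : finrank F X < finrank F U) : ∃ y ∈ U, β • y = y ∧ y ∉ X := by
  by_contra hc
  push Not at hc
  refine absurd (Submodule.finrank_mono (show U ≤ X from fun x hx => ?_)) (not_le.2 hn)
  obtain ⟨ω, hω⟩ := h.exists_omega
  obtain ⟨y, hy, y', hy', e1, e2, rfl⟩ := h.span_fix b2 hβ hU hx hω
  exact add_mem (hc y hy e1) (X.smul_mem _ (hc y' hy' e2))

theorem mu_lin {W : Submodule F V} (hW : TI B W) {g : SG F V} (hg : g ∈ PW B W) (g2 : g * g = 1)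
    (hn : g ∉ Fix F (W : Set V)) : q ^ (finrank F W - 1) < (C1 g).relIndex (AW B W) := by
  have hf := fld_SU hg.1
  have hg' : g ∈ Gam B ⊓ St W := ⟨SU_le_Gam hg.1, hg.2⟩
  obtain ⟨C, hC, dC⟩ := Mu_fixsp hf hg.2 g2
  obtain ⟨w, hw, e0, ge⟩ := Mu_move hg.2 g2 rfl hn
  have gw := St.mem hg.2 hw
  obtain ⟨e, he⟩ : ∃ e, e = w + g • w := ⟨_, rfl⟩
  rw [← he] at e0 ge
  have eW : e ∈ W := he ▸ add_mem hw gw
  have ie : Iso B e := ⟨e0, hW _ eW _ eW⟩
  obtain ⟨f, -, ef⟩ := h.herm.exists_partner e0 ie.iso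
  obtain ⟨H, hH, dH⟩ := Mu_hyp (B := B) C f
  have lt : 0 < finrank F C := Module.finrank_pos_iff_exists_ne_zero.2
    ⟨⟨e, (hC e).2 ⟨eW, ge⟩⟩, fun e' => e0 (congrArg Subtype.val e')⟩
  obtain ⟨ω, hω⟩ := h.exists_omega
  let y : Option ({a : F // σ a = a} × H) → V := fun o => o.elim (w + ω • e) fun p => (ω * p.1) • e + p.2
  have yW : ∀ o, y o ∈ W := by
    rintro (_ | p)
    exacts [add_mem hw (W.smul_mem _ eW), add_mem (W.smul_mem _ eW) ((hC _).1 ((hH _).1 p.2.2).1).1]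
  have yf : ∀ p, g • y (some p) = y (some p) := fun p => by
    change g • ((ω * p.1) • e + p.2) = (ω * p.1) • e + p.2
    rw [smul_add, smul_sm_of hf, ge, ((hC _).1 ((hH _).1 p.2.2).1).2]
  have nw : ∀ p (c : F), w + ω • e ≠ y (some p) + c • e := fun p c e' => e0 (by
    have : w = y (some p) + c • e - ω • e := eq_sub_of_add_eq e'
    rw [he, vadd_eq_zero (F := F), this, smul_sub, smul_add, yf, smul_sm_of hf, smul_sm_of hf, ge])
  have := Mu_le_idx (A := AW B W) (g := g) (fun o => xx B e (y o)) (fun o o' e' => ?_) fun o => ?_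
  · have c1 : Nat.card (Option ({a : F // σ a = a} × H)) = q * q ^ (2 * finrank F H) + 1 := by
      rw [Finite.card_option, Nat.card_prod, h.uf.card_fixed, h.Mu_card]
    have c2 : q ^ (finrank F W - 1) ≤ q * q ^ (2 * finrank F H) := by
      rw [← pow_succ']
      exact Nat.pow_le_pow_right (by have := h.uf.two_le; omega) (by omega)
    omega
  · obtain ⟨c, e1, e2⟩ := h.ei_eq_ei ie (hW _ (yW o) _ eW) (hW _ (yW o') _ eW) e'
    rcases o with _ | ⟨⟨a, ha⟩, x⟩ <;> rcases o' with _ | ⟨⟨a', ha'⟩, x'⟩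
    · rfl
    · exact absurd (by rw [e1, add_assoc _ (c • e), vadd_self (F := F), add_zero]; rfl) (nw _ c)
    · exact absurd e1 (nw _ c)
    · have e3 := congrArg (fun x => B x f) e1
      simp only [y, Option.elim, map_add, LinearMap.add_apply, map_smul, LinearMap.smul_apply, ef,
        ((hH _).1 x.2).2, ((hH _).1 x'.2).2, smul_eq_mul, mul_one, add_zero] at e3
      have e4 := congrArg σ e3
      rw [map_add, map_mul, map_mul, ha, ha'] at e4
      obtain rfl : a' = a := by linear_combination e3 + e4 - e2 + (a - a') * hω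
      obtain rfl : c = 0 := by linear_combination -e3
      simp only [y, Option.elim, zero_smul, add_zero, add_right_inj] at e1
      rw [Subtype.ext e1]
  · rcases o with _ | p
    · refine ⟨tv B w 1, h.tv_mem_AW hw (hW _ hw _ hw) (map_one σ), ?_⟩
      have g1 : g • w = e + w := by rw [he, add_right_comm, vadd_self (F := F), zero_add]
      have a1 := h.tv_mem_AW eW ie.iso (map_one σ)
      have a2 := h.tv_mem_AW hw (hW _ hw _ hw) (map_one σ)
      change xx B e (w + ω • e) = _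
      rw [inv_eq_of_mul_eq_one_right (h.tv_sq (hW _ hw _ hw) 1), mul_assoc, mul_assoc, ← mul_assoc g,
        tv_conj hg'.1 (hW _ hw _ hw), map_one, g1, h.tv_add ie.iso (hW _ hw _ eW) (hW _ hw _ hw) (map_one σ),
        one_smul, h.xx_add_smul ie.iso (hW _ hw _ eW), hω, h.AW_ab hW a1 a2, ← mul_assoc, ← mul_assoc,
        h.tv_sq (hW _ hw _ hw), one_mul, h.AW_ab hW a1 (h.xx_mem_AW hW eW hw)]
    · exact he ▸ h.Mu_cm hW hg' hw (yW _) (yf p)

theorem mu_semi {W : Submodule F V} (hW : TI B W) {g : SG F V} (hg : g ∈ Gam B ⊓ St W) (g2 : g * g = 1)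
    (hf : fld g ≠ 1) : (C1 g).relIndex (AW B W) = q ^ (finrank F W * (finrank F W - 1) / 2) := by
  have h1 := ((C1 g).subgroupOf (AW B W)).card_mul_index
  rw [← inf_subgroupOf_left, Nat.card_congr (subgroupOfEquivOfLe inf_le_left).toEquiv, inf_subgroupOf_left,
    h.card_C_semi hW hg g2 hf, h.card_AW hW] at h1
  have h2 : finrank F W ^ 2 = finrank F W * (finrank F W + 1) / 2 + finrank F W * (finrank F W - 1) / 2 := by
    generalize finrank F W = d
    rcases d with _ | d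
    · rfl
    · obtain ⟨m, hm⟩ := Nat.even_mul_succ_self d
      have e1 : (d + 1) * (d + 1 + 1) = 2 * (m + d + 1) := by linarith
      have e2 : (d + 1) * (d + 1 - 1) = 2 * m := by rw [Nat.add_sub_cancel]; linarith
      rw [e1, e2, Nat.mul_div_cancel_left _ two_pos, Nat.mul_div_cancel_left _ two_pos]
      linarith
  rw [h2, pow_add] at h1
  exact Nat.eq_of_mul_eq_mul_left (pow_pos (by have := h.uf.two_le; omega) _) h1

theorem mu_tv {W : Submodule F V} (hW : TI B W) {e f : V} (he : e ∈ W) (hf : B f f = 0) (hfe : B f e = 0) :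
    (C1 (xx B e f)).relIndex (AW B W) ≤ q ^ (2 * (finrank F W - 1)) := by
  have q0 : 0 < q := by have := h.uf.two_le; omega
  by_cases h0 : e = 0
  · rw [relIndex_eq_one.2 fun a _ => mem_C1.2 (by rw [h0, h.Mu_xx0, mul_one, one_mul])]
    exact Nat.one_le_pow _ _ q0
  by_cases hn : f ∈ uPerp B W
  · rw [relIndex_eq_one.2 fun a ha => mem_C1.2 (h.Mu_comm hW he hfe ha (map_zero σ) (by
      rw [h.AW_fix ha hn, zero_smul, add_zero]))]
    exact Nat.one_le_pow _ _ q0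
  obtain ⟨u, hu, uf⟩ := h.Mu_one hn
  obtain ⟨p, -, ep⟩ := h.herm.exists_partner h0 (hW _ he _ he)
  obtain ⟨ω, hω⟩ := h.exists_omega
  obtain ⟨H, hH, -⟩ := Mu_hyp (B := B) W f
  have dH : finrank F H < finrank F W := Submodule.finrank_lt_finrank_of_lt (lt_of_le_of_ne
    (fun x hx => ((hH x).1 hx).1) fun e' => by simpa [uf] using ((hH u).1 (e' ▸ hu)).2)
  let Ψ : V → V := fun y => y - B y f • u + (σ (B (y - B y f • u) p) + ω * B y f) • e
  have add : ∀ y y', Ψ (y - y') = Ψ y - Ψ y' := fun y y' => by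
    simp only [Ψ, map_sub, LinearMap.sub_apply, map_smul, LinearMap.smul_apply, smul_eq_mul, map_mul]
    module
  have mem : ∀ y ∈ W, Ψ y ∈ H := fun y hy => (hH _).2 ⟨add_mem (sub_mem hy (W.smul_mem _ hu)) (W.smul_mem _ he), by
    simp [Ψ, uf, h.zero_symm hfe]⟩
  have ker : ∀ y, σ (B y f) = B y f → Ψ y = 0 → ∃ k, σ k = k ∧ y = k • e := fun y e1 e2 => by
    have e3 := congrArg (fun x => B x p) e2
    obtain ⟨b, hb⟩ : ∃ b, b = B (y - B y f • u) p := ⟨_, rfl⟩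
    simp only [Ψ, map_add, LinearMap.add_apply, ← hb, map_smul B _ e, LinearMap.smul_apply, ep, smul_eq_mul,
      mul_one, map_zero, LinearMap.zero_apply] at e3
    have e4 := congrArg σ e3
    rw [map_add, map_add, map_mul, h.ss, e1, map_zero] at e4
    have e5 : B y f = 0 := by
      linear_combination e3 + e4 - B y f * hω - (b + σ b) * CharTwo.two_eq_zero (R := F)
    simp only [Ψ, ← hb] at e2
    simp only [e5, zero_smul, sub_zero, mul_zero, add_zero] at e2 e3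
    exact ⟨σ b, by rw [h.ss]; exact CharTwo.add_eq_zero.1 e3, (vadd_eq_zero (F := F)).1 e2⟩
  refine (Mu_idx_le (fun a : AW B W => (⟨Ψ ((a : SG F V) • f - f), mem _ ((mem_AW.1 a.2).2 f)⟩ : H)) fun a b e' => ?_).trans ?_
  · have m := mul_mem (inv_mem a.2) b.2
    have e1 : ((a : SG F V)⁻¹ * b) • f - f = ((b : SG F V) • f - f) - ((a : SG F V) • f - f) := by
      apply MulAction.injective (a : SG F V)
      have := h.AW_fix a.2 (hW.le (sub_mem ((mem_AW.1 b.2).2 f) ((mem_AW.1 a.2).2 f)))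
      simp only
      rw [this, smul_sub, ← mul_smul, mul_inv_cancel_left, sub_sub_sub_cancel_right]
    obtain ⟨k, hk, e2⟩ := ker (((a : SG F V)⁻¹ * b) • f - f) (by
      rw [map_sub, LinearMap.sub_apply, hf, sub_zero, h.symm, SU_left m.1,
        inv_eq_of_mul_eq_one_right (h.AW_sq hW m)]) (by rw [e1, add, sub_eq_zero]; exact (congrArg Subtype.val e').symm)
    exact mem_C1.2 (h.Mu_comm hW he hfe m hk (eq_add_of_sub_eq' e2))
  · rw [h.Mu_card]
    exact Nat.pow_le_pow_right q0 (by omega)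

theorem comm_xx_smul {W : Submodule F V} (hW : TI B W) {e f : V} (he : e ∈ W) (hfe : B f e = 0) {a : SG F V}
    (ha : a ∈ AW B W) {c : F} (hc : σ c = c) (e1 : a * xx B e f = xx B e f * a) :
    a * xx B (c • e) f = xx B (c • e) f * a := by
  by_cases h0 : e = 0
  · rwa [h0, smul_zero, ← h0]
  by_cases c0 : c = 0
  · rw [c0, zero_smul, h.Mu_xx0, mul_one, one_mul]
  obtain ⟨k, hk, e2⟩ := h.Mu_comm' hW he h0 hfe ha e1
  exact h.Mu_comm hW (W.smul_mem c he) (by simp [hfe]) ha (k := k * c⁻¹) (by rw [map_mul, map_inv₀, hk, hc])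
    (by rw [e2, smul_smul, inv_mul_cancel_right₀ c0])

theorem mem_TH {W : Submodule F V} (hW : TI B W) {f : V} (hf : B f f = 0) {g : SG F V} :
    g ∈ TH B W f ↔ ∃ e ∈ W, B f e = 0 ∧ g = xx B e f := by
  refine ⟨fun hg => ?_, fun hg => subset_closure hg⟩
  induction hg using closure_induction with
  | mem x hx => exact hx
  | one => exact ⟨0, zero_mem _, by simp, (h.Mu_xx0 f).symm⟩
  | mul x y _ _ hx hy =>
    obtain ⟨e, he, e1, rfl⟩ := hx
    obtain ⟨e', he', e1', rfl⟩ := hy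
    have e2 : B f (e + e') = 0 := by rw [map_add, e1, e1', add_zero]
    refine ⟨e + e', add_mem he he', e2, ?_⟩
    rw [h.xx_symm (hW _ he _ he) e1 hf, h.xx_symm (hW _ he' _ he') e1' hf,
      h.xx_symm (hW _ (add_mem he he') _ (add_mem he he')) e2 hf,
      h.xx_add hf (h.zero_symm e1) (h.zero_symm e1') (hW _ he' _ he)]
  | inv x _ hx =>
    obtain ⟨e, he, e1, rfl⟩ := hx
    exact ⟨e, he, e1, inv_eq_of_mul_eq_one_right (h.xx_sq (hW _ he _ he) e1 hf)⟩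

theorem TH_le {W : Submodule F V} (hW : TI B W) {f : V} (hf : B f f = 0) : TH B W f ≤ PW B W := by
  intro g hg
  obtain ⟨e, he, e1, rfl⟩ := (h.mem_TH hW hf).1 hg
  refine ⟨h.xx_mem (hW _ he _ he) e1 hf, mem_St_of fun x hx => ?_⟩
  rw [h.xx_smul (hW _ he _ he) e1, hW _ hx _ he, zero_smul, add_zero]
  exact add_mem hx (W.smul_mem _ he)

theorem Mu_ex {W : Submodule F V} (h2 : 2 ≤ finrank F W) (f : V) : ∃ e ∈ W, e ≠ 0 ∧ B f e = 0 := by
  obtain ⟨H, hH, dH⟩ := Mu_hyp (B := B) W f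
  obtain ⟨e, he⟩ := Module.finrank_pos_iff_exists_ne_zero.1 (show 0 < finrank F H by omega)
  exact ⟨e, ((hH _).1 e.2).1, fun e' => he (Subtype.ext e'), h.zero_symm ((hH _).1 e.2).2⟩

theorem TH_nc {W : Submodule F V} (hW : TI B W) (h2 : 2 ≤ finrank F W) {f : V} (hf : B f f = 0)
    (hn : f ∉ uPerp B W) : ¬ TH B W f ≤ 𝐂[AW B W] := by
  intro hc
  obtain ⟨e, he, h0, e1⟩ := h.Mu_ex h2 f
  obtain ⟨u, hu, uf⟩ := h.Mu_one hn
  have ha := h.tv_mem_AW hu (hW _ hu _ hu) (map_one σ)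
  obtain ⟨k, -, e2⟩ := h.Mu_comm' hW he h0 e1 ha (mem_cent.1 (hc (subset_closure ⟨e, he, e1, rfl⟩)) _ ha)
  rw [tv_smul (hW _ hu _ hu), h.herm.eq_one_symm uf, mul_one, one_smul, add_right_inj] at e2
  simp [e2, h.zero_symm e1] at uf

theorem TH_fx {W : Submodule F V} (hW : TI B W) (h2 : 2 ≤ finrank F W) {f : V} (hf : B f f = 0)
    (hn : f ∉ uPerp B W) : AW B W ⊓ 𝐂[TH B W f] ≤ ⁅AW B W, TH B W f⁆ := by
  rintro a ⟨ha, hc⟩
  obtain ⟨e, he, h0, e1⟩ := h.Mu_ex h2 f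
  obtain ⟨u, hu, uf⟩ := h.Mu_one hn
  obtain ⟨ω, hω⟩ := h.exists_omega
  have ω0 : ω ≠ 0 := fun e => by simp [e] at hω
  have e2 : B f (ω • e) = 0 := by simp [e1]
  obtain ⟨k, hk, e3⟩ := h.Mu_comm' hW he h0 e1 ha (mem_cent.1 hc _ (subset_closure ⟨e, he, e1, rfl⟩)).symm
  obtain ⟨k', hk', e4⟩ := h.Mu_comm' hW (W.smul_mem ω he) (smul_ne_zero ω0 h0) e2 ha
    (mem_cent.1 hc _ (subset_closure ⟨_, W.smul_mem ω he, e2, rfl⟩)).symm
  have e5 : k = k' * ω := smul_left_injective F h0 (by simpa [e3, smul_smul] using e4)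
  have e6 := congrArg σ e5
  rw [map_mul, hk, hk'] at e6
  obtain rfl : k' = 0 := by linear_combination -e5 - e6 - k' * hω + k * CharTwo.two_eq_zero (R := F)
  rw [zero_smul, add_zero] at e4
  have hH : a ∈ AW B (W ⊓ uPerp B (F ∙ f)) := h.mem_AW_of_fix ha.1 fun x hx => by
    rw [h.herm.uPerp_inf, h.herm.uPerp_uPerp] at hx
    obtain ⟨x1, h1, x2, h2, rfl⟩ := Submodule.mem_sup.1 hx
    obtain ⟨c, rfl⟩ := Submodule.mem_span_singleton.1 h2
    rw [smul_add, h.AW_fix ha h1, smul_sm_of (fld_SU ha.1), e4]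
  rw [h.AW_gen (hW.mono inf_le_left)] at hH
  refine (closure_le _).2 ?_ hH
  rintro _ ⟨v, ⟨hv, fv⟩, s, hs, rfl⟩
  have fv' : B f v = 0 := mem_uPerp_span_singleton.1 fv
  have vv := hW _ hv _ hv
  obtain ⟨μ, rfl⟩ := h.uf.invol.exists_trace_eq hs
  have hb := h.xx_mem_AW hW hu (W.smul_mem μ hv)
  have := commutator_mem_commutator hb (show xx B v f ∈ TH B W f from subset_closure ⟨v, hv, fv', rfl⟩)
  rw [commutatorElement_def, h.xx_conj (SU_le_Gam hb.1) vv fv', h.AW_fix hb (hW.le hv),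
    h.xx_smul (hW _ hu _ hu) (hW _ (W.smul_mem μ hv) _ hu), h.herm.eq_one_symm uf, one_smul,
    show B f (μ • v) = 0 by simp [fv'], zero_smul, add_zero, h.xx_add_smul vv fv',
    tv_conj (SU_le_Gam (h.xx_mem vv fv' hf)) vv, fld_xx, xx, h.ei_self vv fv'] at this
  exact this

theorem TH_cen {W : Submodule F V} (hW : TI B W) {f : V} (hf : B f f = 0) {a : SG F V} (ha : a ∈ AW B W)
    (e : a • f = f) : a ∈ 𝐂[TH B W f] := by
  refine mem_cent.2 fun g hg => ?_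
  obtain ⟨v, hv, e1, rfl⟩ := (h.mem_TH hW hf).1 hg
  exact (h.Mu_comm hW hv e1 ha (map_zero σ) (by rw [e, zero_smul, add_zero])).symm

theorem TH_conj {W : Submodule F V} (hW : TI B W) {f : V} (hf : B f f = 0) {γ : SG F V} (hγ : γ ∈ Gam B ⊓ St W)
    (e : γ • f - f ∈ uPerp B W) {x : SG F V} (hx : x ∈ TH B W f) :
    ∃ y ∈ TH B W f, ∃ r ∈ FW B W, γ * x * γ⁻¹ = y * r := by
  have hs := conj_mem_SU hγ.1 (h.TH_le hW hf hx).1
  obtain ⟨v, hv, e1, rfl⟩ := (h.mem_TH hW hf).1 hx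
  have gv := St.mem hγ.2 hv
  have e2 : B (γ • f) (γ • v) = 0 := (Gam_zero hγ.1).2 e1
  have e3 : ∀ w ∈ W, B w (γ • f) = B w f := fun w hw => by
    have := mem_uPerp.1 e w hw
    rwa [map_sub, sub_eq_zero] at this
  have e4 : B f (γ • v) = 0 := h.zero_symm (by rw [← e3 _ gv]; exact h.zero_symm e2)
  have hy : xx B (γ • v) f ∈ TH B W f := subset_closure ⟨_, gv, e4, rfl⟩
  refine ⟨_, hy, (xx B (γ • v) f)⁻¹ * (γ * xx B v f * γ⁻¹), mem_FW.2 ⟨mul_mem (inv_mem (h.TH_le hW hf hy).1) hs,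
    fun w hw => ?_⟩, by rw [mul_inv_cancel_left]⟩
  rw [mul_smul, inv_smul_eq_iff, h.xx_conj hγ.1 (hW _ hv _ hv) e1, h.xx_smul (hW _ gv _ gv) e2,
    h.xx_smul (hW _ gv _ gv) e4, e3 w hw, hW _ hw _ gv, zero_smul, zero_smul]

theorem Mu_nfix {W : Submodule F V} {g : SG F V} (hg : g ∈ Gam B) (g2 : g * g = 1) (hf : fld g = 1)
    (hn : g ∉ 𝐂[AW B W]) : g ∉ Fix F (W : Set V) := fun e =>
  hn (mem_cent.2 fun _ ha => (h.AW_comm ⟨h.two_mem_SU hg hf (n := 1) (by rw [pow_one, sq, g2]), e⟩ ha).symm)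

omit h in
theorem Mu_St {W C : Submodule F V} {k g : SG F V} (hC : ∀ x, x ∈ C ↔ x ∈ W ∧ k • x = x) (hg : g ∈ St W)
    (hc : g * k = k * g) : g ∈ St C :=
  mem_St_of fun x hx => (hC _).2 ⟨St.mem hg ((hC x).1 hx).1, by rw [← mul_smul, ← hc, mul_smul, ((hC x).1 hx).2]⟩

theorem Mu_vv {W : Submodule F V} (hW : TI B W) (h3 : 3 ≤ finrank F W) {g g' : SG F V} (hg : g ∈ Gam B ⊓ St W)
    (hg' : g' ∈ Gam B ⊓ St W) (g2 : g * g = 1) (g2' : g' * g' = 1) (hc : g * g' = g' * g) (hf : fld g ≠ 1)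
    (hf' : fld g' = 1) (hn' : g' ∉ 𝐂[AW B W]) : ∃ x ∈ Cm (AW B W) g, x ∈ Cm (AW B W) g' ∧ x ≠ 1 := by
  obtain ⟨w, hw, e0, ge⟩ := Mu_move hg.2 g2 hc.symm (h.Mu_nfix hg'.1 g2' hf' hn')
  have eW := add_mem hw (St.mem hg'.2 hw)
  obtain ⟨C, hC, dC⟩ := Mu_fixsp hf' hg'.2 g2'
  obtain ⟨y, hy, gy, yn⟩ := h.Mu_out g2 hf (X := F ∙ (w + g' • w)) (Mu_St hC hg.2 hc) (by
    rw [finrank_span_singleton e0]; omega)
  obtain ⟨yW, gy'⟩ := (hC y).1 hy
  exact ⟨_, h.Mu_cm' hW hg g2 hf eW yW ge gy, h.Mu_cm hW hg' hw yW gy', h.Mu_ne ⟨e0, hW _ eW _ eW⟩ (hW _ yW _ eW) yn⟩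

theorem vv {W : Submodule F V} (hW : TI B W) (h3 : 3 ≤ finrank F W) {g g' : SG F V} (hg : g ∈ Gam B ⊓ St W)
    (hg' : g' ∈ Gam B ⊓ St W) (g2 : g * g = 1) (g2' : g' * g' = 1) (hc : g * g' = g' * g) (hn : g ∉ 𝐂[AW B W])
    (hn' : g' ∉ 𝐂[AW B W]) : ∃ x ∈ Cm (AW B W) g, x ∈ Cm (AW B W) g' ∧ x ≠ 1 := by
  by_cases hf : fld g = 1 <;> by_cases hf' : fld g' = 1
  · obtain ⟨w, hw, e0, ge⟩ := Mu_move hg'.2 g2' hc (h.Mu_nfix hg.1 g2 hf hn)
    obtain ⟨w', hw', e0', ge'⟩ := Mu_move hg.2 g2 hc.symm (h.Mu_nfix hg'.1 g2' hf' hn')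
    have eW := add_mem hw (St.mem hg.2 hw)
    have eW' := add_mem hw' (St.mem hg'.2 hw')
    have ie : Iso B (w + g • w) := ⟨e0, hW _ eW _ eW⟩
    by_cases hd : w' + g' • w' ∈ F ∙ (w + g • w)
    · obtain ⟨c, hc⟩ := Submodule.mem_span_singleton.1 hd
      have c0 : c ≠ 0 := fun e => e0' (by rw [← hc, e, zero_smul])
      obtain ⟨ω, hω⟩ := h.exists_omega
      have e1 : w + g • w = c⁻¹ • w' + g' • c⁻¹ • w' := by
        rw [smul_sm_of hf', ← smul_add, ← hc, smul_smul, inv_mul_cancel₀ c0, one_smul]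
      have e2 : g • (w + g • w) = w + g • w := by rw [smul_add, ← mul_smul, g2, one_smul, add_comm]
      refine ⟨_, h.Mu_cm hW hg hw (W.smul_mem ω eW) (by rw [smul_sm_of hf, e2]), ?_, fun e => ?_⟩
      · have := h.Mu_cm hW hg' (W.smul_mem c⁻¹ hw') (W.smul_mem ω eW) (by rw [smul_sm_of hf', ge])
        rwa [← e1] at this
      · rw [← zero_add (ω • _), h.xx_add_smul ie.iso (by simp), h.xx_zero ie.iso, one_mul, hω,
          h.tv_eq_one ie] at e
        exact one_ne_zero e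
    · refine ⟨_, h.Mu_cm hW hg hw eW' ge', ?_, h.Mu_ne ie (hW _ eW' _ eW) hd⟩
      rw [h.xx_symm ie.iso (hW _ eW' _ eW) (hW _ eW' _ eW')]
      exact h.Mu_cm hW hg' hw' eW ge
  · obtain ⟨x, h1, h2, h3⟩ := h.Mu_vv hW h3 hg' hg g2' g2 hc.symm hf' hf hn
    exact ⟨x, h2, h1, h3⟩
  · exact h.Mu_vv hW h3 hg hg' g2 g2' hc hf hf' hn'
  · have s1 := (h.fld_of_sq (φ := fld g) (by rw [← map_mul, g2, map_one])).resolve_left hf
    have s2 := (h.fld_of_sq (φ := fld g') (by rw [← map_mul, g2', map_one])).resolve_left hf'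
    have hk : fld (g * g') = 1 := RingEquiv.ext fun a => by
      rw [map_mul]
      change fld g (fld g' a) = a
      rw [s1, s2, h.ss]
    obtain ⟨C, hC, dC⟩ := Mu_fixsp hk (mul_mem hg.2 hg'.2) (by
      rw [mul_assoc, ← mul_assoc g', ← hc, mul_assoc, g2', mul_one, g2])
    have hS := Mu_St hC hg.2 (by rw [mul_assoc, hc])
    have fx : ∀ y ∈ C, g • y = y → g' • y = y := fun y hy e => by
      have := ((hC y).1 hy).2
      rwa [hc, mul_smul, e] at this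
    obtain ⟨e, he, ge, e0⟩ := h.Mu_out g2 hf (X := ⊥) hS (by rw [finrank_bot]; omega)
    obtain ⟨y, hy, gy, yn⟩ := h.Mu_out g2 hf (X := F ∙ e) hS (by rw [finrank_span_singleton e0]; omega)
    have eW := ((hC e).1 he).1
    have yW := ((hC y).1 hy).1
    exact ⟨_, h.Mu_cm' hW hg g2 hf eW yW ge gy, h.Mu_cm' hW hg' g2' hf' eW yW (fx e he ge) (fx y hy gy),
      h.Mu_ne ⟨e0, hW _ eW _ eW⟩ (hW _ yW _ eW) yn⟩

end Sp

end Cfsg.Agent.U52
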