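import Mathlib
import Cfsg.Agent.U52.Cfg2
import Cfsg.Agent.StdB.Gen
import Cfsg.Agent.StdB.Red
import Cfsg.Agent.GT.CoprimeAbelian

set_option autoImplicit false
set_option linter.unusedSectionVars false

namespace Cfsg.Agent.U52

open Cfsg Cfsg.Agent.Cl Cfsg.Agent.Loc.Mss Subgroup Module
open Cfsg.Agent.StdB (C1 mem_C1 El)
open scoped commutatorElement

variable {F : Type*} [Field F] [Finite F] [CharP F 2] {σ : F →+* F} {V : Type*} [AddCommGroup V] [Module F V]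
  [Finite V] {B : V →ₗ[F] V →ₛₗ[σ] F} {q : ℕ} {G : Type*} [Group G] [Finite G]

namespace Jn

variable (j : Jn G)

theorem w1a_tA : cj(j.t, j.A2) = j.A1 := by rw [← j.tA, cj_cj, j.t2, cj_one]

theorem w1a_tN : j.t ∈ 𝐍[j.A1 ⊔ j.A2] := j.syl.le j.tS

theorem w1a_ne : j.A1 ≠ j.A2 := fun e => j.Tnc (e ▸ j.TS.trans inf_le_right)

theorem w1a_ab : j.A1 ⊔ j.A2 ≤ 𝐂[j.A1 ⊔ j.A2] := StdB.comm_of_el j.el

theorem w1a_n {X Y : Subgroup G} (hX : X ≤ j.A1 ⊔ j.A2) (hY : Y ≤ j.A1 ⊔ j.A2) : X ≤ 𝐍[Y] :=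
  norm_of_cent (hX.trans (j.w1a_ab.trans (cent_anti hY)))

theorem w1a_swap {s : G} (hs : s ∈ j.S) (h : s ∉ 𝐍[j.A1] ⊓ 𝐍[j.A2]) :
    cj(s, j.A1) = j.A2 ∧ cj(s, j.A2) = j.A1 := by
  have h1 := (j.sw s hs).resolve_left h
  have e : s = s * j.t * j.t := by rw [mul_assoc, j.t2, mul_one]
  constructor
  · rw [e, ← cj_cj, j.tA, cj_of_norm h1.2]
  · rw [e, ← cj_cj, j.w1a_tA, cj_of_norm h1.1]

theorem w1a_S0 {T' : Subgroup G} (h : T' ≤ j.S ⊓ 𝐂[j.A2]) : T' ≤ 𝐍[j.A1] ⊓ 𝐍[j.A2] := fun s hs => by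
  by_contra hn
  exact j.w1a_ne ((j.w1a_swap (h hs).1 hn).2.symm.trans (cj_of_cent (h hs).2))

theorem w1a_comm {T' : Subgroup G} (h : T' ≤ 𝐍[j.A1] ⊓ 𝐂[j.A2]) : ⁅j.A1 ⊔ j.A2, T'⁆ ≤ j.A1 :=
  sup_comm_le le_normalizer (j.w1a_n le_sup_right le_sup_left) (comm_le_left (h.trans inf_le_left))
    ((comm_eq_bot_iff'.2 (h.trans inf_le_right)).le.trans bot_le)

theorem w1a_P {T' : Subgroup G} (h : T' ≤ j.S ⊓ 𝐂[j.A2]) :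
    j.P ≤ 𝐍[j.A1 ⊔ j.A2] ⊓ 𝐍[T' ⊔ 𝐂[j.A1 ⊔ j.A2]] := by
  have h1 : j.P ≤ 𝐍[j.A1 ⊔ j.A2] :=
    norm_sup (norm_of_cent (j.Pn.trans inf_le_right)) (j.Pn.trans inf_le_left)
  have h2 : ⁅j.P, T'⁆ ≤ 𝐂[j.A1 ⊔ j.A2] := le_cent_sup
    ((commutator_mono (j.Pn.trans inf_le_right) le_rfl).trans
      (comm_le_left (norm_cent ((j.w1a_S0 h).trans inf_le_left))))
    ((commutator_mono le_rfl (h.trans inf_le_right)).trans (comm_le_right (norm_cent (j.Pn.trans inf_le_left))))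
  refine le_inf h1 (norm_of_forall_cj_le fun p hp => ?_)
  rw [cj_sup, cj_of_norm (norm_cent h1 hp)]
  exact sup_le ((cj_le_comm_sup T' hp).trans (sup_le (h2.trans le_sup_right) le_sup_left)) le_sup_right

theorem w1a_cjT {n : G} (hn : n ∈ 𝐍[j.A1 ⊔ j.A2]) :
    cj(n, j.T ⊔ 𝐂[j.A1 ⊔ j.A2]) = cj(n, j.T) ⊔ 𝐂[j.A1 ⊔ j.A2] := by
  rw [cj_sup, cj_cent, cj_of_norm hn]

theorem w1a_syl : Syl 2 (j.S ⊓ (𝐍[j.A1] ⊓ 𝐍[j.A2])) (𝐍[j.A1 ⊔ j.A2] ⊓ 𝐍[j.T ⊔ 𝐂[j.A1 ⊔ j.A2]]) := by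
  refine Syl.of_maximal (j.syl.pg.to_le inf_le_left) (le_inf (inf_le_left.trans j.syl.le) j.Tn)
    fun S1 h1 h2 h3 => ?_
  obtain ⟨n, hn, hS⟩ := j.syl.conj_le h1 (h3.trans inf_le_left)
  by_cases hle : cj(n, S1) ≤ 𝐍[j.A1] ⊓ 𝐍[j.A2]
  · refine (eq_of_le_of_card_ge h2 ?_).ge
    rw [← card_cj S1 n]
    exact card_le_of_le (le_inf hS hle)
  exfalso
  obtain ⟨s, hs, hs'⟩ := SetLike.not_le_iff_exists.1 hle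
  obtain ⟨e1, e2⟩ := j.w1a_swap (hS hs) hs'
  have hT : j.T ≤ S1 := (le_inf (j.TS.trans inf_le_left) (j.w1a_S0 j.TS)).trans h2
  have hs2 : s ∈ 𝐍[cj(n, j.T) ⊔ 𝐂[j.A1 ⊔ j.A2]] := by
    rw [← j.w1a_cjT hn, ← cj_norm]
    exact cj_mono n (h3.trans inf_le_right) hs
  have key : ∀ X Y : Subgroup G, X ≤ j.A1 ⊔ j.A2 → cj(s, X) = Y → cj(n, j.T) ≤ 𝐂[X] → cj(n, j.T) ≤ 𝐂[Y] :=
    fun X Y hX e h => by
      rw [← e, ← cj_cent]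
      exact le_sup_left.trans ((cj_of_norm hs2).ge.trans (cj_mono s (sup_le h (cent_anti hX))))
  have hc : cj(n, j.T) ≤ 𝐂[j.A1 ⊔ j.A2] := by
    rcases j.pure n hn ((cj_mono n hT).trans hS) with h | h
    exacts [le_cent_sup h (key _ _ le_sup_left e1 h), le_cent_sup (key _ _ le_sup_right e2 h) h]
  rw [← cj_of_norm hn, ← cj_cent, cj_le_cj] at hc
  exact j.Tnc (hc.trans (cent_anti le_sup_left))

theorem w1a_D : j.A2 ⊔ j.A1 ⊓ 𝐂[j.T] = (j.A1 ⊔ j.A2) ⊓ 𝐂[j.T] := by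
  rw [sup_comm j.A1, dedekind (j.w1a_n le_sup_left le_sup_right) (cent_comm (j.TS.trans inf_le_right))]

theorem w1a_H : 𝐍[j.A1 ⊔ j.A2] ⊓ 𝐍[j.T ⊔ 𝐂[j.A1 ⊔ j.A2]] ≤ 𝐍[j.A2] := by
  have hD : (j.A1 ⊔ j.A2) ⊓ 𝐂[j.T] = (j.A1 ⊔ j.A2) ⊓ 𝐂[j.T ⊔ 𝐂[j.A1 ⊔ j.A2]] := by
    rw [cent_sup j.T, inf_comm 𝐂[j.T], ← inf_assoc, inf_eq_left.2 (cent_comm le_rfl)]
  have nD : 𝐍[j.A1 ⊔ j.A2] ⊓ 𝐍[j.T ⊔ 𝐂[j.A1 ⊔ j.A2]] ≤ 𝐍[(j.A1 ⊔ j.A2) ⊓ 𝐂[j.T]] := by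
    rw [hD]; exact norm_inf inf_le_left (norm_cent inf_le_right)
  have hB : j.A1 ⊓ 𝐂[j.T] = (j.A1 ⊔ j.A2) ⊓ 𝐂[j.T] ⊓ ⁅j.A1 ⊔ j.A2, j.T ⊔ 𝐂[j.A1 ⊔ j.A2]⁆ :=
    le_antisymm (le_inf (inf_le_inf_right _ le_sup_left) (j.fx.trans (commutator_mono le_sup_left le_sup_left)))
      (le_inf (inf_le_right.trans (j.w1a_comm (sup_le
        (le_inf ((j.w1a_S0 j.TS).trans inf_le_left) (j.TS.trans inf_le_right))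
        (le_inf (norm_of_cent (cent_anti le_sup_left)) (cent_anti le_sup_right)))))
        (inf_le_left.trans inf_le_right))
  have nB : 𝐍[j.A1 ⊔ j.A2] ⊓ 𝐍[j.T ⊔ 𝐂[j.A1 ⊔ j.A2]] ≤ 𝐍[j.A1 ⊓ 𝐂[j.T]] := by
    rw [hB]; exact norm_inf nD (norm_comm inf_le_left inf_le_right)
  have hab : IsMulCommutative ((j.A1 ⊔ j.A2) ⊓ 𝐂[j.T] : Subgroup G) :=
    ⟨⟨fun a b => Subtype.ext (mem_cent.1 (j.w1a_ab b.2.1) a a.2.1)⟩⟩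
  obtain ⟨k, hk⟩ := ((StdB.pg_of_el j.el).to_le
    (inf_le_left.trans le_sup_left : j.A1 ⊓ 𝐂[j.T] ≤ j.A1 ⊔ j.A2)).exists_card_eq
  have hbot : j.A1 ⊓ 𝐂[j.T] ⊓ j.A2 = ⊥ := eq_bot_iff.2 ((inf_le_inf_right _ inf_le_left).trans j.dj.le)
  obtain ⟨E, hE, nE, e1, e2⟩ := GT.CopAct.exists_invariant_complement_of_relIndex
    (B := j.S ⊓ (𝐍[j.A1] ⊓ 𝐍[j.A2])) (W := j.A2) hab nD (inf_le_inf_right _ le_sup_left) nB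
    (by rw [hk]; exact ((Nat.prime_two.coprime_iff_not_dvd.2 j.w1a_syl.nd).symm).pow_right k)
    (inf_le_left.trans (inf_le_right.trans inf_le_right)) hbot (by rw [sup_comm, j.w1a_D])
  have hn : j.A1 ⊓ 𝐂[j.T] ≤ 𝐍[E] := j.w1a_n (inf_le_left.trans le_sup_left) (hE.trans inf_le_left)
  have h1 : j.A2 ≤ E := j.Pc.trans ((commutator_mono (le_sup_left.trans (j.w1a_D.trans
    (e2.symm.trans (sup_comm _ _))).le) le_rfl).trans (by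
      rw [sup_cent_comm hn (inf_le_left.trans (cent_comm (j.Pn.trans inf_le_right)))]
      exact comm_le_left ((j.w1a_P j.TS).trans nE)))
  have h2 : E = j.A2 := by
    rw [← inf_eq_right.2 hE, ← j.w1a_D, dedekind (j.w1a_n (inf_le_left.trans le_sup_left) le_sup_right) h1, e1,
      sup_bot_eq]
  exact h2 ▸ nE

theorem w1a_key {n : G} (hn : n ∈ 𝐍[j.A1 ⊔ j.A2]) (hS : cj(n, j.T) ≤ j.S) (hc : cj(n, j.T) ≤ 𝐂[j.A2]) :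
    cj(n, j.A2) = j.A2 ∧ cj(n, j.A1 ⊓ 𝐂[j.T]) ≤ j.A1 := by
  have hB : cj(n, j.A1 ⊓ 𝐂[j.T]) ≤ j.A1 := by
    refine (cj_mono n (j.fx.trans (commutator_mono (le_sup_left (b := j.A2)) le_rfl))).trans ?_
    rw [cj_comm, cj_of_norm hn]
    exact j.w1a_comm (le_inf ((j.w1a_S0 (le_inf hS hc)).trans inf_le_left) hc)
  have hP : j.P ≤ 𝐍[cj(n, j.A2)] := by
    rw [← cj_norm]
    refine (j.w1a_P (le_inf hS hc)).trans (le_trans (le_of_eq ?_) (cj_mono n j.w1a_H))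
    rw [cj_inf, cj_norm, cj_norm, j.w1a_cjT hn, cj_of_norm hn]
  have h1 : j.A2 ≤ cj(n, j.A2) ⊔ cj(n, j.A1 ⊓ 𝐂[j.T]) := by
    rw [← cj_sup, j.w1a_D, cj_inf, cj_of_norm hn, cj_cent]
    exact le_inf le_sup_right (cent_comm hc)
  refine ⟨cj_eq_of_ge (j.Pc.trans ((commutator_mono h1 le_rfl).trans ?_)), hB⟩
  rw [sup_cent_comm (j.w1a_n (hB.trans le_sup_left) (cj_le_of_norm le_sup_right hn))
    (hB.trans (cent_comm (j.Pn.trans inf_le_right)))]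
  exact comm_le_left hP

theorem key {n : G} (hn : n ∈ 𝐍[j.A1 ⊔ j.A2]) (hS : cj(n, j.T) ≤ j.S) :
    (cj(n, j.A2) = j.A2 ∧ cj(n, j.A1 ⊓ 𝐂[j.T]) ≤ j.A1) ∨ (cj(n, j.A2) = j.A1 ∧ cj(n, j.A1 ⊓ 𝐂[j.T]) ≤ j.A2) := by
  rcases j.pure n hn hS with h | h
  · obtain ⟨h1, h2⟩ := j.w1a_key (mul_mem j.w1a_tN hn) (by rw [← cj_cj]; exact cj_le_of_mem hS j.tS)
      (by rw [← cj_cj, ← j.tA, ← cj_cent]; exact cj_mono _ h)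
    have e : n = j.t * (j.t * n) := by rw [← mul_assoc, j.t2, one_mul]
    refine Or.inr ⟨by rw [e, ← cj_cj, h1, j.w1a_tA], ?_⟩
    rw [e, ← cj_cj, ← j.tA]
    exact cj_mono _ h2
  · exact Or.inl (j.w1a_key hn hS h)

theorem ext' {x n : G} (hx : x ∈ j.A1 ∨ x ∈ j.A2) (hn : n ∈ 𝐍[j.A1 ⊔ j.A2]) {R : Subgroup G} (hR : IsPGroup 2 R)
    (hle : R ≤ 𝐍[j.A1 ⊔ j.A2] ⊓ C1 (n * x * n⁻¹)) : ∃ g ∈ 𝐍[j.A1 ⊔ j.A2],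
    (g * (n * x * n⁻¹) * g⁻¹ ∈ j.A1 ∨ g * (n * x * n⁻¹) * g⁻¹ ∈ j.A2) ∧ cj(g, R) ≤ j.S := by
  wlog h : x ∈ j.A2 generalizing x n
  · have e : n * j.t⁻¹ * (j.t * x * j.t⁻¹) * (n * j.t⁻¹)⁻¹ = n * x * n⁻¹ := by group
    have h2 : j.t * x * j.t⁻¹ ∈ j.A2 := j.tA ▸ conj_mem_cj (hx.resolve_right h)
    exact e ▸ this (Or.inr h2) (mul_mem hn (inv_mem j.w1a_tN)) (e.symm ▸ hle) h2
  obtain ⟨R1, h1, hR1⟩ := Syl.exists_ge hR hle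
  have hT := j.TS.trans inf_le_left
  obtain ⟨c, hc, h2⟩ := hR1.conj_le (pg_cj (j.syl.pg.to_le hT) n)
    (le_inf ((cj_mono n (hT.trans j.syl.le)).trans (cj_of_mem hn).le) (cj_le_iff.2 fun a ha => mem_C1.2 (by
      rw [conj_mul, conj_mul, mem_cent.1 (j.TS ha).2 x h])))
  obtain ⟨g, hg, h3⟩ := j.syl.conj_le hR1.pg (hR1.le.trans inf_le_left)
  refine ⟨g, hg, ?_, (cj_mono g h1).trans h3⟩
  have e : g * (n * x * n⁻¹) * g⁻¹ = g * (c * n) * x * (g * (c * n))⁻¹ := by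
    calc _ = g * (c * (n * x * n⁻¹) * c⁻¹) * g⁻¹ := by rw [mem_C1.1 hc.2, mul_inv_cancel_right]
      _ = _ := by group
  rw [e]
  rcases j.key (mul_mem hg (mul_mem hc.1 hn)) (by
    rw [← cj_cj, ← cj_cj]; exact (cj_mono g h2).trans h3) with ⟨h4, -⟩ | ⟨h4, -⟩
  exacts [Or.inr (h4 ▸ conj_mem_cj h), Or.inl (h4 ▸ conj_mem_cj h)]

theorem sing {x n a b : G} (hx : x ∈ j.A1 ∨ x ∈ j.A2) (hn : n ∈ 𝐍[j.A1 ⊔ j.A2]) (ha : a ∈ j.A1 ⊓ 𝐂[j.T])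
    (hb : b ∈ j.A2) (a1 : a ≠ 1) (b1 : b ≠ 1) : n * x * n⁻¹ ≠ a * b := by
  intro e
  have hT := j.TS.trans inf_le_left
  obtain ⟨g, hg, h1, h2⟩ := j.ext' hx hn (j.syl.pg.to_le hT) (le_inf (hT.trans j.syl.le) fun s hs => mem_C1.2 (by
    rw [e, ← mul_assoc, mem_cent.1 ha.2 s hs, mul_assoc, ← mem_cent.1 (j.TS hs).2 b hb, mul_assoc]))
  have z : ∀ y, g * y * g⁻¹ ∈ j.A1 → g * y * g⁻¹ ∈ j.A2 → y = 1 := fun y h h' =>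
    conj_eq_one_iff.1 (mem_bot.1 (j.dj.le ⟨h, h'⟩))
  rw [e, ← conj_mul] at h1
  rcases j.key hg h2 with ⟨h3, h4⟩ | ⟨h3, h4⟩
  · have p1 := h4 (conj_mem_cj ha)
    have p2 := h3.le (conj_mem_cj hb)
    rcases h1 with h | h
    exacts [b1 (z b ((mul_mem_cancel_left p1).1 h) p2), a1 (z a p1 ((mul_mem_cancel_right p2).1 h))]
  · have p1 := h4 (conj_mem_cj ha)
    have p2 := h3.le (conj_mem_cj hb)
    rcases h1 with h | h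
    exacts [a1 (z a ((mul_mem_cancel_right p2).1 h) p1), b1 (z b p2 ((mul_mem_cancel_left p1).1 h))]

theorem full (hsw : ∀ g, g * j.t * g⁻¹ ∈ j.S → g * j.t * g⁻¹ ∉ 𝐍[j.A1] ⊓ 𝐍[j.A2]) {x n : G}
    (hx : x ∈ j.A1 ∨ x ∈ j.A2) (hn : n ∈ 𝐍[j.A1 ⊔ j.A2]) (hc : n * x * n⁻¹ ∈ C1 j.t) : x = 1 := by
  obtain ⟨g, hg, h1, h2⟩ := j.ext' hx hn (StdB.pg_zpowers j.t2)
    (zpowers_le.2 ⟨j.w1a_tN, mem_C1.2 (mem_C1.1 hc).symm⟩)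
  have hs : g * j.t * g⁻¹ ∈ j.S := h2 (conj_mem_cj (mem_zpowers _))
  obtain ⟨e1, e2⟩ := j.w1a_swap hs (hsw g hs)
  have e : g * j.t * g⁻¹ * (g * (n * x * n⁻¹) * g⁻¹) * (g * j.t * g⁻¹)⁻¹ = g * (n * x * n⁻¹) * g⁻¹ := by
    rw [conj_mul, ← mem_C1.1 hc, ← conj_mul, mul_inv_cancel_right]
  have : g * (n * x * n⁻¹) * g⁻¹ ∈ j.A1 ⊓ j.A2 := by
    rcases h1 with h | h
    exacts [⟨h, e ▸ e1.le (conj_mem_cj h)⟩, ⟨e ▸ e2.le (conj_mem_cj h), h⟩]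
  exact conj_eq_one_iff.1 (conj_eq_one_iff.1 (mem_bot.1 (j.dj.le this)))

end Jn

end Cfsg.Agent.U52
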