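import Mathlib
import Cfsg.Agent.U52.Cfg2
import Cfsg.Agent.U52.Cen
import Cfsg.Agent.U52.M1
import Cfsg.Agent.S2089
import Cfsg.Agent.Ch.UniversalCover

/-! Lifting maps from `SU` through central extensions. -/

set_option autoImplicit false
set_option linter.unusedSectionVars false
set_option linter.unusedVariables false

namespace Cfsg.Agent.U52

open Cfsg Cfsg.Agent.Cl Cfsg.Agent.Loc.Mss Subgroup Module
open Cfsg.Agent.StdB (C1 mem_C1 El)
open scoped commutatorElement

variable {F : Type*} [Field F] [Finite F] [CharP F 2] {σ : F →+* F} {V : Type*} [AddCommGroup V] [Module F V]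
  [Finite V] {B : V →ₗ[F] V →ₛₗ[σ] F} {q : ℕ} {G : Type*} [Group G] [Finite G]

variable (B) in
/-- The two forms of the special unitary group. -/
noncomputable def liftE : USG B ≃* SU B := (USG B).equivMapOfInjective lin lin_injective

theorem liftE_coe (g : USG B) : (liftE B g : SG F V) = lin (g : V ≃ₗ[F] V) := rfl

theorem Sp.lift_perf (h : Sp B q) : Group.IsPerfect (SU B) := isPerfect_iff.2 h.SU_perfect

theorem Sp.lift_mult (h : Sp B q) : HasCyclicSchurMultiplier (SU B) 1 := by
  have := Fintype.ofFinite F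
  have hp := h.lift_perf
  obtain ⟨e, he⟩ := h.herm.exists_equiv_uStd rfl
  let ε : SU B ≃* Cfsg.SU (finrank F V) F q := (liftE B).symm.trans (h.uf.suEquivOf e he)
  let s : SU B →* PSU (finrank F V) F q := (QuotientGroup.mk' _).comp ε.toMonoidHom
  have hs : Function.Surjective s := (QuotientGroup.mk'_surjective _).comp ε.surjective
  have hk : s.ker = (center _).comap ε.toMonoidHom := by
    rw [← MonoidHom.comap_ker, QuotientGroup.ker_mk']
  have hc : s.ker ≤ center _ := fun x hx => by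
    rw [hk, mem_comap, mem_center_iff] at hx
    exact mem_center_iff.2 fun g => ε.injective (by simpa using hx (ε g))
  have : Group.IsPerfect (PSU (finrank F V) F q) := Group.IsPerfect.ofSurjective hs
  have h4 := h.dim
  have hA := S2089.result (F := F) (finrank F V) q (by rw [← Nat.card_eq_fintype_card, h.uf.card]) (by omega)
    (by omega) (by simp only [Set.mem_insert_iff, Set.mem_singleton_iff, Prod.mk.injEq]; omega)
  refine Ch.hasCyclicSchurMultiplier_one_of_cover hA (Ch.isStemExtension_of_isPerfect hs hc) ?_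
  rw [hk, Nat.card_congr Multiplicative.toAdd, Nat.card_zmod, ← h.uf.card_center_SU (by omega),
    comap_equiv_eq_map_symm', card_map_of_injective ε.symm.injective]

theorem Sp.lift (h : Sp B q) {X Y : Type*} [Group X] [Finite X] [Group Y] (π : X →* Y) (hs : Function.Surjective π)
    (hk : π.ker ≤ center X) (hX : commutator X = ⊤) (f : SU B →* Y) (hf : Function.Surjective f) (hE : IsE f) :
    ∃ f' : SU B →* X, Function.Surjective f' ∧ π.comp f' = f := by
  have hp := h.lift_perf
  obtain ⟨η, hη⟩ := Ch.exists_lift_of_trivial_multiplier h.lift_mult f hs hk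
  refine ⟨η, ?_, hη⟩
  have dec : ∀ x : X, ∃ a, ∃ c ∈ center X, x = η a * c := fun x => by
    obtain ⟨a, ha⟩ := hf (π x)
    refine ⟨a, (η a)⁻¹ * x, hk ?_, by group⟩
    rw [MonoidHom.mem_ker, map_mul, map_inv, ← ha, ← hη, MonoidHom.comp_apply, inv_mul_cancel]
  rw [← MonoidHom.range_eq_top, eq_top_iff, ← hX, commutator_def, commutator_le]
  intro x _ y _
  obtain ⟨a, c, hc, rfl⟩ := dec x
  obtain ⟨b, d, hd, rfl⟩ := dec y
  refine ⟨⁅a, b⁆, ?_⟩
  have c1 := mem_center_iff.1 hc (η b * d)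
  have d1 := mem_center_iff.1 hd (η a)⁻¹
  rw [map_commutatorElement, commutatorElement_def, commutatorElement_def]
  symm
  calc η a * c * (η b * d) * (η a * c)⁻¹ * (η b * d)⁻¹
      = η a * (c * (η b * d)) * c⁻¹ * (η a)⁻¹ * d⁻¹ * (η b)⁻¹ := by group
    _ = η a * η b * (d * (η a)⁻¹) * d⁻¹ * (η b)⁻¹ := by rw [← c1]; group
    _ = _ := by rw [← d1]; group

theorem Sp.lift_center (h : Sp B q) {x : SU B} (hx : x ∈ center (SU B)) : (x : SG F V) ∈ Sc F V := by
  obtain ⟨g, rfl⟩ := (liftE B).surjective x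
  have hg : g ∈ center (USG B) := mem_center_iff.2 fun k => (liftE B).injective (by
    rw [map_mul, map_mul]; exact mem_center_iff.1 hx _)
  obtain ⟨a, ha⟩ := (h.herm.mem_center_USG_iff (by have := h.four_le; omega)).1 hg
  have := h.nontrivial
  refine ⟨rfl, a, ?_, ha⟩
  rintro rfl
  obtain ⟨v, hv⟩ := exists_ne (0 : V)
  exact hv ((g : V ≃ₗ[F] V).injective (by rw [ha, zero_smul, map_zero]))

theorem exists_emb {F : Type*} [Field F] [Fintype F] [CharP F 2] {m q : ℕ} (hF : Fintype.card F = q ^ 2)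
    (hm : m = 5 ∧ q = 2) {L : Subgroup G} (hL : ⁅L, L⁆ = L)
    (e : (L ⧸ center L) ≃* PSU m F q) :
    Sp (uStd (uConj hF) (Fin m)) q ∧ ∃ ψ : SU (uStd (uConj hF) (Fin m)) →* G, IsE ψ ∧ ψ.range = L := by
  have uf := uField_uConj hF
  have h : Sp (uStd (uConj hF) (Fin m)) q := ⟨uf.isHerm_uStd _, uf, by simpa using hm⟩
  refine ⟨h, ?_⟩
  let ε : SU (uStd (uConj hF) (Fin m)) ≃* Cfsg.SU m F q := (liftE _).symm.trans (uf.suEquiv m).symm
  let f : SU (uStd (uConj hF) (Fin m)) →* L ⧸ center L :=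
    e.symm.toMonoidHom.comp ((QuotientGroup.mk' _).comp ε.toMonoidHom)
  have hf : Function.Surjective f := e.symm.surjective.comp ((QuotientGroup.mk'_surjective _).comp ε.surjective)
  have hk : ∀ x, f x = 1 → (x : SG F (Fin m → F)) ∈ Sc F (Fin m → F) := fun x hx => by
    have h1 : ε x ∈ center (Cfsg.SU m F q) :=
      (QuotientGroup.eq_one_iff _).1 (e.symm.injective (hx.trans (map_one _).symm))
    exact h.lift_center (mem_center_iff.2 fun g => ε.injective (by simpa using mem_center_iff.1 h1 (ε g)))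
  obtain ⟨f', s, c⟩ := h.lift (QuotientGroup.mk' (center L)) (QuotientGroup.mk'_surjective _)
    (QuotientGroup.ker_mk' _).le (isPerfect_iff.2 hL).commutator_eq_top f hf
    fun x hx ex => hk ⟨x, hx⟩ (by rwa [ev_of_mem hx] at ex)
  refine ⟨L.subtype.comp f', fun x hx ex => hk ⟨x, hx⟩ ?_, ?_⟩
  · rw [ev_of_mem hx] at ex
    have : f' ⟨x, hx⟩ = 1 := Subtype.ext ex
    rw [← c, MonoidHom.comp_apply, this, map_one]
  · rw [MonoidHom.range_comp, MonoidHom.range_eq_top.2 s, ← MonoidHom.range_eq_map, range_subtype]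

theorem Sp.Sc_four (h : Sp B q) (h4 : finrank F V = 4) {s : SG F V} (hs : s ∈ Sc F V) (h1 : s ∈ SL F V) : s = 1 := by
  obtain ⟨k, hk, rfl⟩ := mem_SL.1 h1
  obtain ⟨-, a, ha, e⟩ := id hs
  have e1 : (k : V →ₗ[F] V) = a • LinearMap.id := LinearMap.ext e
  have e2 : a ^ 4 = 1 := by
    have := congrArg Units.val hk
    rwa [LinearEquiv.coe_det, e1, LinearMap.det_smul, LinearMap.det_id, mul_one, h4] at this
  have e3 : a = 1 := by
    have h2 : (2 : F) = 0 := CharTwo.two_eq_zero
    have : (a - 1) ^ 4 = 0 := by linear_combination e2 + (1 - 2 * a + 3 * a ^ 2 - 2 * a ^ 3) * h2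
    exact sub_eq_zero.1 (pow_eq_zero_iff (by norm_num) |>.1 this)
  exact SG.ext2 (fun x => by rw [e, e3, one_smul, one_smul]) rfl

end Cfsg.Agent.U52
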