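import Mathlib
import Cfsg.Agent.U52.Cfg2
import Cfsg.Agent.U52.AWb
import Cfsg.Agent.U52.Cen
import Cfsg.Agent.U52.M1
import Cfsg.Agent.U52.N1c
import Cfsg.Agent.U52.N1a

set_option autoImplicit false
set_option linter.unusedSectionVars false

namespace Cfsg.Agent.U52

open Cfsg Cfsg.Agent.Cl Cfsg.Agent.Loc.Mss Subgroup Module
open Cfsg.Agent.StdB (C1 mem_C1 El)
open scoped commutatorElement

variable {F : Type*} [Field F] [Finite F] [CharP F 2] {σ : F →+* F} {V : Type*} [AddCommGroup V] [Module F V]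
  [Finite V] {B : V →ₗ[F] V →ₛₗ[σ] F} {q : ℕ} {G : Type*} [Group G] [Finite G]

namespace Br2a

variable (B) in
/-- The complement of a hyperbolic pair. -/
def UU (e f : V) : Submodule F V where
  carrier := {u | B u e = 0 ∧ B u f = 0}
  zero_mem' := by simp
  add_mem' {x y} hx hy := by simp [hx.1, hx.2, hy.1, hy.2]
  smul_mem' a x hx := by simp [hx.1, hx.2]

variable (B) in
/-- The projection of `e^⊥` onto the complement. -/
def pr (e f x : V) : V := x + B x f • e

variable (B) in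
/-- An endomorphism of the vector stabilizer. -/
structure Th (e : V) (Θ : SG F V → SG F V) : Prop where
  mul : ∀ x ∈ M1 B e, ∀ y ∈ M1 B e, Θ (x * y) = Θ x * Θ y
  hM : ∀ x ∈ M1 B e, Θ x ∈ M1 B e
  hQ : ∀ x ∈ Qv B e, Θ x ∈ Qv B e
  hZ : Θ (tv B e 1) = tv B e 1

variable (B) in
/-- The induced map on the complement. -/
structure Nu (e f : V) (Θ : SG F V → SG F V) (ν : V → V) : Prop where
  mem : ∀ u ∈ UU B e f, ν u ∈ UU B e f
  eq : ∀ u ∈ UU B e f, ∀ s, s + σ s = B u u → ∃ s', Θ (ei B e u s) = ei B e (ν u) s'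

variable {e f u u' v x y : V} {Θ : SG F V → SG F V} {ν : V → V} {a s s' l ω : F} {g k : SG F V}

theorem two0 : (2 : F) = 0 := CharTwo.two_eq_zero

theorem pr_mem (p : UHypPair B e f) (hx : B x e = 0) : pr B e f x ∈ UU B e f :=
  ⟨by simp [pr, hx, p.left], by simp [pr, p.pair, CharTwo.add_self_eq_zero]⟩

theorem pr_of_mem (hu : u ∈ UU B e f) : pr B e f u = u := by rw [pr, hu.2, zero_smul, add_zero]

theorem pr_add (x y : V) : pr B e f (x + y) = pr B e f x + pr B e f y := by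
  simp only [pr, map_add, LinearMap.add_apply]; module

theorem pr_smul (a : F) (x : V) : pr B e f (a • x) = a • pr B e f x := by
  simp only [pr, map_smul, LinearMap.smul_apply, smul_eq_mul]; module

theorem pr_e (p : UHypPair B e f) : pr B e f e = 0 := by rw [pr, p.pair, one_smul, vadd_self (F := F)]

namespace Th

theorem one (t : Th B e Θ) : Θ 1 = 1 := by
  have := t.mul 1 (one_mem _) 1 (one_mem _)
  rwa [mul_one, left_eq_mul] at this

theorem inv (t : Th B e Θ) (hg : g ∈ M1 B e) : Θ g⁻¹ = (Θ g)⁻¹ :=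
  eq_inv_of_mul_eq_one_left (by rw [← t.mul _ (inv_mem hg) _ hg, inv_mul_cancel, t.one])

theorem cj (t : Th B e Θ) (hg : g ∈ M1 B e) (hk : k ∈ M1 B e) : Θ (g * k * g⁻¹) = Θ g * Θ k * (Θ g)⁻¹ := by
  rw [t.mul _ (mul_mem hg hk) _ (inv_mem hg), t.mul _ hg _ hk, t.inv hg]

end Th

section

variable (h : Sp B q)
include h

theorem pr_self (he : B e e = 0) (hx : B x e = 0) : B (pr B e f x) (pr B e f x) = B x x := by
  simp [pr, hx, he, h.zero_symm hx]

theorem ei_tv (he : B e e = 0) (hu : B u e = 0) (s a : F) : ei B e u s * tv B e a = ei B e u (s + a) := by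
  rw [← h.ei_zero he, h.ei_mul he hu (by simp)]; simp

theorem ei_sq (he : B e e = 0) (hu : B u e = 0) (s : F) : ei B e u s * ei B e u s = tv B e (B u u) := by
  rw [h.ei_mul he hu hu, vadd_self (F := F), CharTwo.add_self_eq_zero, zero_add, h.ei_zero he]

theorem ei_pr (he : B e e = 0) (hu : B u e = 0) (s : F) :
    ei B e u s = ei B e (pr B e f u) (s + (B u f + σ (B u f))) := by
  rw [pr, h.ei_add_smul he hu, add_assoc, CharTwo.add_self_eq_zero, add_zero]

theorem tr_pr (he : B e e = 0) (hu : B u e = 0) (hs : s + σ s = B u u) :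
    s + (B u f + σ (B u f)) + σ (s + (B u f + σ (B u f))) = B (pr B e f u) (pr B e f u) := by
  rw [pr_self h he hu, ← hs]
  simp only [map_add, h.ss]
  linear_combination (B u f + σ (B u f)) * two0 (F := F)

theorem ei_inj (p : UHypPair B e f) (hu : B u e = 0) (hu' : B u' e = 0) (e1 : ei B e u s = ei B e u' s') :
    pr B e f u = pr B e f u' := by
  obtain ⟨c, rfl, -⟩ := h.ei_eq_ei ⟨p.left_ne_zero, p.left⟩ hu hu' e1
  rw [pr_add, pr_smul, pr_e p, smul_zero, add_zero]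

theorem ei_inj' (he : Iso B e) (hu : B u e = 0) (e1 : ei B e u s = ei B e u s') : s = s' := by
  have := ei_tv h he.iso hu s (s + s')
  rw [← add_assoc, CharTwo.add_self_eq_zero, zero_add, ← e1, mul_eq_left, h.tv_eq_one he] at this
  exact CharTwo.add_eq_zero.1 this

theorem eiQ (he : Iso B e) (hu : B u e = 0) (hs : s + σ s = B u u) : ei B e u s ∈ Qv B e :=
  (h.mem_Qv he).2 ⟨u, s, hu, hs, rfl⟩

theorem tr_om (hω : ω + σ ω = 1) (u : V) : ω * B u u + σ (ω * B u u) = B u u := by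
  rw [map_mul, h.symm, ← add_mul, hω, one_mul]

theorem conjQ (hg : g ∈ Gam B) (ge : g • e = e) (hk : k ∈ Qv B e) : g * k * g⁻¹ ∈ Qv B e := by
  have := h.conj_mem_RW hg hk
  rwa [mapW_span, ge] at this

theorem Th.conj (t : Th B e Θ) (he : B e e = 0) (hg : g ∈ Gam B) (ge : g • e = e) :
    Th B e fun x => g * Θ x * g⁻¹ :=
  ⟨fun x hx y hy => by rw [t.mul x hx y hy, conj_mul], fun x hx => ge ▸ h.conj_mem_M1 hg (t.hM x hx),
    fun x hx => conjQ h hg ge (t.hQ x hx), by rw [t.hZ, tv_conj hg he, ge, map_one]⟩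

theorem dec (p : UHypPair B e f) (x : V) : x + B x f • e + B x e • f ∈ UU B e f :=
  ⟨by simp [p.left, p.pair', CharTwo.add_self_eq_zero], by simp [p.right, p.pair, CharTwo.add_self_eq_zero]⟩

theorem exists_val (p : UHypPair B e f) (hv : v ∈ UU B e f) (v0 : v ≠ 0) (c : F) : ∃ u ∈ UU B e f, B u v = c := by
  obtain ⟨y, hy⟩ : ∃ y, B y v ≠ 0 := by
    by_contra n
    push Not at n
    exact v0 (h.herm.nondeg' v n)
  exact ⟨_, Submodule.smul_mem _ (c * (B y v)⁻¹) (dec h p y), by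
    simp [h.zero_symm hv.1, h.zero_symm hv.2, hy]⟩

/-- An automorphism that fixes `Q` is trivial. -/
theorem Th.step4 (he : Iso B e) (mul : ∀ x ∈ PW B (F ∙ e), ∀ y ∈ PW B (F ∙ e), Θ (x * y) = Θ x * Θ y)
    (hN : ∀ x ∈ PW B (F ∙ e), Θ x ∈ PW B (F ∙ e)) (hQ : ∀ x ∈ Qv B e, Θ x = x) (hg : g ∈ PW B (F ∙ e)) :
    Θ g = g := by
  have hP : Qv B e ≤ PW B (F ∙ e) := (Qv_le_M1 e).trans (h.M1_le_PW e)
  have one : Θ 1 = 1 := by
    have := mul 1 (one_mem _) 1 (one_mem _)
    rwa [mul_one, left_eq_mul] at this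
  have inv : ∀ g ∈ PW B (F ∙ e), Θ g⁻¹ = (Θ g)⁻¹ := fun g hg =>
    eq_inv_of_mul_eq_one_left (by rw [← mul _ (inv_mem hg) _ hg, inv_mul_cancel, one])
  have pw : ∀ g ∈ PW B (F ∙ e), ∀ n : ℕ, Θ (g ^ n) = Θ g ^ n := fun g hg n => by
    induction n with
    | zero => rw [pow_zero, pow_zero, one]
    | succ n ih => rw [pow_succ, pow_succ, mul _ (pow_mem hg n) _ hg, ih]
  let H : Subgroup (SG F V) :=
    { carrier := {g | g ∈ PW B (F ∙ e) ∧ Θ g = g}
      one_mem' := ⟨one_mem _, one⟩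
      mul_mem' := fun {a b} ha hb => ⟨mul_mem ha.1 hb.1, by rw [mul a ha.1 b hb.1, ha.2, hb.2]⟩
      inv_mem' := fun {a} ha => ⟨inv_mem ha.1, by rw [inv a ha.1, ha.2]⟩ }
  refine ((h.N1_odd he).trans ((closure_le H).2 fun g ⟨hg, ho⟩ => ⟨hg, ?_⟩) hg).2
  have hG : g ∈ Gam B := SU_le_Gam (mem_PW.1 hg).1
  have m := mul_mem (inv_mem hg) (hN g hg)
  rcases h.PW_cen_Q he (mem_PW.1 m).1 (mem_cent.2 fun x hx => by
      have := mul _ (mul_mem hg (hP hx)) _ (inv_mem hg)
      rw [mul _ hg _ (hP hx), inv g hg, hQ x hx,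
        hQ _ (conj_mem_of_norm (h.St_norm_Q he (mem_inf.2 ⟨hG, (mem_PW.1 hg).2⟩)) hx)] at this
      calc x * (g⁻¹ * Θ g) = g⁻¹ * (g * x * g⁻¹) * Θ g := by group
        _ = _ := by rw [this]; group) with e1 | e1
  · exact (inv_mul_eq_one.1 e1).symm
  · have e2 := pw g hg (orderOf g)
    have cm : Commute g (tv B e 1) := h.comm_of_St he hG (mem_PW.1 hg).2
    obtain ⟨j, hj⟩ := ho
    rw [pow_orderOf_eq_one, one, inv_mul_eq_iff_eq_mul.1 e1, cm.mul_pow, pow_orderOf_eq_one, one_mul, hj, pow_succ,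
      pow_mul, pow_two, h.tv_sq he.iso, one_pow, one_mul] at e2
    exact absurd ((h.tv_eq_one he).1 e2.symm) one_ne_zero

variable (hq : q = 2)
include hq

theorem sq2 (a : F) : σ a = a * a := by rw [h.uf.pow, hq, pow_two]

theorem fix2 (ha : σ a = a) : a = 0 ∨ a = 1 := by
  rw [sq2 h hq] at ha
  exact (mul_eq_zero.1 (by linear_combination ha : a * (a - 1) = 0)).imp_right sub_eq_zero.1

theorem four_cases (hl : l * l = l + 1) (c : F) : c = 0 ∨ c = 1 ∨ c = l ∨ c = l + 1 := by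
  have := h.ss c
  rw [sq2 h hq, sq2 h hq] at this
  have e : c * ((c + 1) * ((c + l) * (c + (l + 1)))) = 0 := by
    linear_combination this + (c * c + c) * hl + ((c * c + c) * (c * l + l + 1) + c * c * c) * two0 (F := F)
  simpa only [mul_eq_zero, CharTwo.add_eq_zero] using e

theorem om_sq (hω : ω + σ ω = 1) : ω * ω = ω + 1 := by
  rw [sq2 h hq] at hω
  linear_combination hω - ω * two0 (F := F)

theorem Th.z (t : Th B e Θ) (ha : σ a = a) : Θ (tv B e a) = tv B e a := by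
  rcases fix2 h hq ha with rfl | rfl
  exacts [by rw [tv_zero, t.one], t.hZ]

theorem Th.tvm (t : Th B e Θ) (he : Iso B e) (hu : B u e = 0) (hs : s + σ s = B u u) (hs' : s' + σ s' = B u u) :
    Θ (ei B e u s') = Θ (ei B e u s) * tv B e (s + s') := by
  have ha : σ (s + s') = s + s' := by
    rw [map_add]; linear_combination hs - hs' + (σ s' - s) * two0 (F := F)
  rw [← t.z h hq ha, ← t.mul _ (Qv_le_M1 e (eiQ h he hu hs)) _ (Qv_le_M1 e (h.Zv_le_Qv he.iso
    ((h.mem_Zv he).2 ⟨_, ha, rfl⟩))), ei_tv h he.iso hu, ← add_assoc, CharTwo.add_self_eq_zero, zero_add]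

/-- An automorphism that is trivial on `Q / Z` is inner on `Q`. -/
theorem Th.step3 (t : Th B e Θ) (he : Iso B e)
    (hQ : ∀ u s, B u e = 0 → s + σ s = B u u → ∃ s', Θ (ei B e u s) = ei B e u s') :
    ∃ k ∈ Qv B e, ∀ x ∈ Qv B e, Θ x = k * x * k⁻¹ := by
  obtain ⟨ω, hω⟩ := h.exists_omega
  have : ∀ u, ∃ a, B u e = 0 → σ a = a ∧ ∀ s, s + σ s = B u u → Θ (ei B e u s) = ei B e u (s + a) := fun u => by
    by_cases hu : B u e = 0
    swap
    · exact ⟨0, fun n => absurd n hu⟩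
    have h0 := tr_om h hω u
    obtain ⟨s', e1⟩ := hQ u _ hu h0
    refine ⟨ω * B u u + s', fun _ => ⟨?_, fun s hs => ?_⟩⟩
    · obtain ⟨u1, s1, h1, h2, e2⟩ := (h.mem_Qv he).1 (t.hQ _ (eiQ h he hu h0))
      obtain ⟨c, rfl, rfl⟩ := h.ei_eq_ei he hu h1 (e1.symm.trans e2)
      simp only [map_add, map_smul, map_smulₛₗ, LinearMap.add_apply, LinearMap.smul_apply, hu, h.zero_symm hu, he.iso,
        smul_zero, add_zero, h.ss] at h2 ⊢
      linear_combination h0 - h2 + (σ s1 - ω * B u u) * two0 (F := F)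
    · rw [t.tvm h hq he hu h0 hs, e1, ei_tv h he.iso hu]
      congr 1
      ring
  choose χ hχ using this
  have hadd : ∀ u u', B u e = 0 → B u' e = 0 → χ (u + u') = χ u + χ u' := fun u u' hu hu' => by
    have h1 := tr_om h hω u
    have h2 := tr_om h hω u'
    have h3 : B (u + u') e = 0 := by simp [hu, hu']
    have := t.mul _ (Qv_le_M1 e (eiQ h he hu h1)) _ (Qv_le_M1 e (eiQ h he hu' h2))
    rw [(hχ u hu).2 _ h1, (hχ u' hu').2 _ h2, h.ei_mul he.iso hu hu', h.ei_mul he.iso hu hu', (hχ _ h3).2 _ (by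
      simp only [map_add, LinearMap.add_apply, h.symm]
      linear_combination h1 + h2)] at this
    linear_combination ei_inj' h he h3 this
  have h0 : ∀ c : F, χ (c • e) = 0 := fun c => by
    have h1 : B (c • e) e = 0 := by simp [he.iso]
    have k : ∀ s, ei B e (c • e) s = tv B e (s + (c + σ c)) := fun s => by
      rw [← h.ei_zero he.iso, ← h.ei_add_smul he.iso (by simp), zero_add]
    have := (hχ _ h1).2 0 (by simp [he.iso])
    rw [k, k, t.z h hq (by rw [zero_add, map_add, h.ss, add_comm])] at this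
    linear_combination -h.tv_inj he this
  obtain ⟨y, hy, e1⟩ := h.exists_rep_K he χ hadd (fun u hu => (hχ u hu).1) (fun c u hc hu => by
    rcases fix2 h hq hc with rfl | rfl
    · simpa using h0 0
    · simp) h0
  refine ⟨_, eiQ h he hy (tr_om h hω y), fun x hx => ?_⟩
  obtain ⟨u, s, hu, hs, rfl⟩ := (h.mem_Qv he).1 hx
  rw [(hχ u hu).2 s hs, eq_mul_inv_iff_mul_eq, h.ei_mul he.iso hu hy, h.ei_mul he.iso hy hu, e1 u hu, add_comm u]
  congr 1
  linear_combination B y u * two0 (F := F)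

theorem Th.exists_nu (t : Th B e Θ) (p : UHypPair B e f) : ∃ ν, Nu B e f Θ ν := by
  have he : Iso B e := ⟨p.left_ne_zero, p.left⟩
  obtain ⟨ω, hω⟩ := h.exists_omega
  have : ∀ u, ∃ u', u ∈ UU B e f → u' ∈ UU B e f ∧ ∀ s, s + σ s = B u u → ∃ s', Θ (ei B e u s) = ei B e u' s' :=
    fun u => by
      by_cases hu : u ∈ UU B e f
      swap
      · exact ⟨0, fun n => absurd n hu⟩
      have h0 := tr_om h hω u
      obtain ⟨u1, s1, h1, -, e2⟩ := (h.mem_Qv he).1 (t.hQ _ (eiQ h he hu.1 h0))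
      exact ⟨pr B e f u1, fun _ => ⟨pr_mem p h1, fun s hs => ⟨_, by
        rw [t.tvm h hq he hu.1 h0 hs, e2, ei_pr h (f := f) p.left h1, ei_tv h p.left (pr_mem p h1).1]⟩⟩⟩
  choose ν hν using this
  exact ⟨ν, fun u hu => (hν u hu).1, fun u hu => (hν u hu).2⟩

/-- The commutant of the transvections. -/
theorem commutant (p : UHypPair B e f) {R : V → V} (add : ∀ u ∈ UU B e f, ∀ u' ∈ UU B e f, R (u + u') = R u + R u')
    (sq : ∀ u ∈ UU B e f, R (R u) = R u + u)
    (ht : ∀ v ∈ UU B e f, B v v = 0 → ∀ u ∈ UU B e f, R (B u v • v) = B (R u) v • v) :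
    ∃ l : F, l * l = l + 1 ∧ ∀ u ∈ UU B e f, R u = l • u := by
  have he : Iso B e := ⟨p.left_ne_zero, p.left⟩
  obtain ⟨ω, hω⟩ := h.exists_omega
  have r0 : R 0 = 0 := by simpa using add 0 (zero_mem _) 0 (zero_mem _)
  have A : ∀ v ∈ UU B e f, B v v = 0 → v ≠ 0 → ∃ l : F, l * l = l + 1 ∧ ∀ c : F, R (c • v) = (l * c) • v :=
    fun v hv hi v0 => by
      obtain ⟨u, hu, e1⟩ := exists_val h p hv v0 1
      have e2 := ht v hv hi u hu
      rw [e1, one_smul] at e2
      generalize B (R u) v = l at e2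
      have e3 := sq v hv
      have hl : l * l = l + 1 := by
        rcases four_cases h hq (om_sq h hq hω) l with rfl | rfl | rfl | rfl
        · rw [e2, zero_smul, r0, zero_add] at e3
          exact absurd e3.symm v0
        · rw [one_smul] at e2
          rw [e2, e2, left_eq_add] at e3
          exact absurd e3 v0
        · exact om_sq h hq hω
        · linear_combination om_sq h hq hω + ω * two0 (F := F)
      have e4 : R (l • v) = (l * l) • v := by rw [← e2, e3, e2, hl, add_smul, one_smul]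
      refine ⟨l, hl, fun c => ?_⟩
      rcases four_cases h hq hl c with rfl | rfl | rfl | rfl
      exacts [by simp [r0], by simp [e2], e4,
        by rw [add_smul, one_smul, add _ (Submodule.smul_mem _ _ hv) _ hv, e4, e2, mul_add, add_smul, mul_one]]
  obtain ⟨w, w', fr⟩ := h.exists_frame'' p
  have hw : w ∈ UU B e f := ⟨h.zero_symm fr.ee, h.zero_symm fr.fe⟩
  have w0 := fr.p2.left_ne_zero
  obtain ⟨l, hl, e1⟩ := A w hw fr.p2.left w0
  have e1' : R w = l • w := by simpa using e1 1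
  have C : ∀ v ∈ UU B e f, B v v = 0 → R v = l • v := fun v hv hi => by
    by_cases v0 : v = 0
    · simp [v0, r0]
    obtain ⟨m, -, e2⟩ := A v hv hi v0
    have e2' : R v = m • v := by simpa using e2 1
    by_cases hb : B w v = 0
    · by_cases s0 : w + v = 0
      · rw [← (vadd_eq_zero (F := F)).1 s0, e1']
      obtain ⟨n, -, e3⟩ := A _ (add_mem hw hv) (by simp [hi, hb, h.zero_symm hb, fr.p2.left]) s0
      have e4 := e3 1
      rw [one_smul, add w hw v hv, e1', e2', mul_one] at e4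
      have e5 : (l - n) • w = (n - m) • v := by
        rw [← sub_eq_zero, ← sub_eq_zero.2 e4]; module
      by_cases hn : n - m = 0
      · rw [hn, zero_smul, smul_eq_zero, or_iff_left w0] at e5
        rw [e2', sub_eq_zero.1 e5, sub_eq_zero.1 hn]
      · have : v = ((n - m)⁻¹ * (l - n)) • w := by rw [mul_smul, e5, inv_smul_smul₀ hn]
        rw [this, e1, smul_smul]
    · have := ht v hv hi w hw
      rw [e2, e1', map_smul, LinearMap.smul_apply, smul_eq_mul] at this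
      rw [e2', mul_right_cancel₀ hb (smul_left_injective F v0 this)]
  let P : AddSubgroup V :=
    { carrier := {x | B x e = 0 ∧ R (pr B e f x) = l • pr B e f x}
      zero_mem' := ⟨by simp, by simp [pr, r0]⟩
      add_mem' := fun {x y} hx hy => ⟨by simp [hx.1, hy.1], by
        rw [pr_add, add _ (pr_mem p hx.1) _ (pr_mem p hy.1), hx.2, hy.2, smul_add]⟩
      neg_mem' := fun {x} hx => by rwa [vneg (F := F)] }
  refine ⟨l, hl, fun u hu => ?_⟩
  have := (h.iso_span he (P := P) (fun v h1 h2 => ⟨h2, C _ (pr_mem p h2) (by rw [pr_self h p.left h2, h1])⟩) hu.1).2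
  rwa [pr_of_mem hu] at this

namespace Nu

variable (t : Th B e Θ) (p : UHypPair B e f) (n : Nu B e f Θ ν)
include t p n

theorem add (hu : u ∈ UU B e f) (hu' : u' ∈ UU B e f) : ν (u + u') = ν u + ν u' := by
  have he : Iso B e := ⟨p.left_ne_zero, p.left⟩
  obtain ⟨ω, hω⟩ := h.exists_omega
  have h1 := tr_om h hω u
  have h2 := tr_om h hω u'
  obtain ⟨s1, e1⟩ := n.eq u hu _ h1
  obtain ⟨s2, e2⟩ := n.eq u' hu' _ h2
  obtain ⟨s3, e3⟩ := n.eq _ (add_mem hu hu') (ω * B u u + ω * B u' u' + B u' u) (by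
    simp only [map_add, LinearMap.add_apply, h.symm]
    linear_combination h1 + h2)
  have := t.mul _ (Qv_le_M1 e (eiQ h he hu.1 h1)) _ (Qv_le_M1 e (eiQ h he hu'.1 h2))
  have m1 := n.mem _ (add_mem hu hu')
  have m2 := add_mem (n.mem u hu) (n.mem u' hu')
  rw [e1, e2, h.ei_mul p.left hu.1 hu'.1, e3, h.ei_mul p.left (n.mem u hu).1 (n.mem u' hu').1] at this
  rw [← pr_of_mem m1, ei_inj h p m1.1 m2.1 this, pr_of_mem m2]

theorem zero : ν 0 = 0 := by simpa using n.add h hq t p (zero_mem _) (zero_mem _)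

theorem self (hu : u ∈ UU B e f) : B (ν u) (ν u) = B u u := by
  have he : Iso B e := ⟨p.left_ne_zero, p.left⟩
  obtain ⟨ω, hω⟩ := h.exists_omega
  have h1 := tr_om h hω u
  obtain ⟨s1, e1⟩ := n.eq u hu _ h1
  have m := Qv_le_M1 e (eiQ h he hu.1 h1)
  have := t.mul _ m _ m
  rw [e1, ei_sq h p.left hu.1, ei_sq h p.left (n.mem u hu).1, t.z h hq (h.symm u u)] at this
  exact (h.tv_inj he this).symm

theorem tr (hu : u ∈ UU B e f) (hu' : u' ∈ UU B e f) :
    B (ν u) (ν u') + σ (B (ν u) (ν u')) = B u u' + σ (B u u') := by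
  have := n.self h hq t p (add_mem hu hu')
  rw [n.add h hq t p hu hu'] at this
  simp only [map_add, LinearMap.add_apply, n.self h hq t p hu, n.self h hq t p hu'] at this
  rw [h.symm, h.symm]
  linear_combination this

theorem inj (hu : u ∈ UU B e f) (hu' : u' ∈ UU B e f) (e1 : ν u = ν u') : u = u' := by
  obtain ⟨ω, hω⟩ := h.exists_omega
  by_contra ne
  have m := add_mem hu hu'
  obtain ⟨w, hw, e2⟩ := exists_val h p m (fun e => ne ((vadd_eq_zero (F := F)).1 e)) ω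
  have := n.tr h hq t p hw m
  rw [n.add h hq t p hu hu', e1, vadd_self (F := F), e2, hω] at this
  simp at this

theorem surj (hu : u ∈ UU B e f) : ∃ w ∈ UU B e f, ν w = u := by
  obtain ⟨w, hw⟩ := Finite.surjective_of_injective (f := fun w : UU B e f => (⟨ν w, n.mem _ w.2⟩ : UU B e f))
    (fun a b e => Subtype.ext (n.inj h hq t p a.2 b.2 (congrArg Subtype.val e))) ⟨u, hu⟩
  exact ⟨w, w.2, congrArg Subtype.val hw⟩

theorem eq' (hu : B u e = 0) (hs : s + σ s = B u u) : ∃ s', Θ (ei B e u s) = ei B e (ν (pr B e f u)) s' := by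
  rw [ei_pr h (f := f) p.left hu]
  exact n.eq _ (pr_mem p hu) _ (tr_pr h p.left hu hs)

theorem act (hg : g ∈ M1 B e) (hu : u ∈ UU B e f) : ν (pr B e f (g • u)) = pr B e f (Θ g • ν u) := by
  have he : Iso B e := ⟨p.left_ne_zero, p.left⟩
  obtain ⟨ω, hω⟩ := h.exists_omega
  have k : ∀ g ∈ M1 B e, ∀ u, B u e = 0 → B (g • u) e = 0 ∧ ∀ s, g * ei B e u s * g⁻¹ = ei B e (g • u) s :=
    fun g hg u hu => ⟨by rw [← (mem_M1.1 hg).2, SU_map hg.1, hu], fun s => by
      rw [h.ei_conj (SU_le_Gam hg.1) p.left hu, (mem_M1.1 hg).2, fld_SU hg.1]; rfl⟩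
  have h1 := tr_om h hω u
  obtain ⟨s1, e1⟩ := n.eq u hu _ h1
  obtain ⟨s2, e2⟩ := n.eq' h hq t p (k g hg u hu.1).1 (s := ω * B u u) (by rw [SU_map hg.1, h1])
  have := t.cj hg (Qv_le_M1 e (eiQ h he hu.1 h1))
  obtain ⟨k1, k2⟩ := k _ (t.hM g hg) _ (n.mem u hu).1
  have m := n.mem _ (pr_mem p (k g hg u hu.1).1)
  rw [(k g hg u hu.1).2, e1, e2, k2] at this
  rw [← ei_inj h p m.1 k1 this, pr_of_mem m]

theorem semi (hs : ∀ k ∈ M1 B e, ∃ g ∈ M1 B e, Θ g = k) :
    ∃ φ : RingAut F, ∀ (c : F), ∀ u ∈ UU B e f, ν (c • u) = φ c • ν u := by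
  obtain ⟨ω, hω⟩ := h.exists_omega
  have hω2 := om_sq h hq hω
  have : ∀ w, ∃ u, w ∈ UU B e f → u ∈ UU B e f ∧ ν u = w := fun w => by
    by_cases hw : w ∈ UU B e f
    exacts [(n.surj h hq t p hw).imp fun _ h _ => h, ⟨0, fun n => absurd n hw⟩]
  choose μ hμ using this
  have sm : ∀ c : F, ∀ u ∈ UU B e f, c • u ∈ UU B e f := fun c u hu => Submodule.smul_mem _ c hu
  have r1 : ∀ u ∈ UU B e f, μ (ν u) = u := fun u hu =>
    n.inj h hq t p (hμ _ (n.mem u hu)).1 hu (hμ _ (n.mem u hu)).2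
  have radd : ∀ u ∈ UU B e f, ∀ u' ∈ UU B e f, ν (ω • μ (u + u')) = ν (ω • μ u) + ν (ω • μ u') := fun w hw w' hw' => by
    obtain ⟨u, hu, rfl⟩ := n.surj h hq t p hw
    obtain ⟨u', hu', rfl⟩ := n.surj h hq t p hw'
    rw [← n.add h hq t p hu hu', r1 _ (add_mem hu hu'), r1 _ hu, r1 _ hu', smul_add,
      n.add h hq t p (sm _ _ hu) (sm _ _ hu')]
  obtain ⟨l, hl, e1⟩ := commutant h hq p (R := fun w => ν (ω • μ w)) radd (fun w hw => by
    obtain ⟨u, hu, rfl⟩ := n.surj h hq t p hw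
    simp only [r1 _ hu, r1 _ (sm ω _ hu)]
    rw [smul_smul, hω2, add_smul, one_smul, n.add h hq t p (sm _ _ hu) hu]) fun v hv hi w hw => by
    obtain ⟨u, hu, rfl⟩ := n.surj h hq t p hw
    obtain ⟨g, hg, e0⟩ := hs (tv B v 1) (mem_M1.2 ⟨h.tv_mem hi (map_one σ), tv_perp 1 (h.zero_symm hv.1)⟩)
    have k : ∀ u ∈ UU B e f, ν (pr B e f (g • u)) = ν u + B (ν u) v • v := fun u hu => by
      rw [n.act h hq t p hg hu, e0, tv_smul hi, one_mul, pr_of_mem (add_mem (n.mem u hu) (sm _ _ hv))]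
    have k2 := radd _ (n.mem u hu) _ (sm (B (ν u) v) _ hv)
    rw [← k u hu, r1 _ (pr_mem p (by rw [← (mem_M1.1 hg).2, SU_map hg.1, hu.1])), ← pr_smul,
      ← smul_sm_of (fld_SU hg.1), k _ (sm _ _ hu), r1 _ hu] at k2
    simp only [r1 _ hu]
    exact (add_left_cancel k2).symm
  have e2 : ∀ u ∈ UU B e f, ν (ω • u) = l • ν u := fun u hu => by simpa only [r1 _ hu] using e1 _ (n.mem u hu)
  obtain ⟨φ, hφ⟩ : ∃ φ : RingAut F, φ ω = l := by
    rcases four_cases h hq hω2 l with rfl | rfl | rfl | rfl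
    · simp at hl
    · simp at hl
    · exact ⟨1, rfl⟩
    · exact ⟨RingEquiv.ofBijective σ h.uf.invol.bijective, (sq2 h hq ω).trans hω2⟩
  refine ⟨φ, fun c u hu => ?_⟩
  rcases four_cases h hq hω2 c with rfl | rfl | rfl | rfl
  exacts [by simp [n.zero h hq t p], by simp, by rw [e2 u hu, hφ],
    by rw [add_smul, one_smul, n.add h hq t p (sm _ _ hu) hu, e2 u hu, map_add, hφ, map_one, add_smul, one_smul]]

theorem form {φ : RingAut F} (hφ : ∀ (c : F), ∀ u ∈ UU B e f, ν (c • u) = φ c • ν u) (hu : u ∈ UU B e f)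
    (hu' : u' ∈ UU B e f) : B (ν u) (ν u') = φ (B u u') := by
  obtain ⟨ω, hω⟩ := h.exists_omega
  have k : ∀ b : F, φ b + σ (φ b) = b + σ b := fun b => by
    rw [← h.aut_σ, ← map_add]
    rcases fix2 h hq (h.uf.invol.trace_fixed b) with e | e <;> simp [e]
  have h1 := n.tr h hq t p hu hu'
  have h2 := n.tr h hq t p (Submodule.smul_mem _ ω hu) hu'
  have h3 := k ω
  rw [hφ ω u hu, map_smul, map_smul, LinearMap.smul_apply, LinearMap.smul_apply, smul_eq_mul, smul_eq_mul,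
    ← k (ω * B u u'), map_mul φ, map_mul, map_mul] at h2
  rw [← k (B u u')] at h1
  rw [hω] at h3
  generalize B (ν u) (ν u') = b at h1 h2
  generalize φ (B u u') = b' at h1 h2
  linear_combination h2 - σ (φ ω) * h1 - (b - b') * h3 + σ (φ ω) * (b - b') * two0 (F := F)

theorem step2 (hs : ∀ k ∈ M1 B e, ∃ g ∈ M1 B e, Θ g = k) : ∃ γ ∈ Gam B, γ • e = e ∧ ∀ u ∈ UU B e f, γ • u = ν u := by
  obtain ⟨φ, hφ⟩ := n.semi h hq t p hs
  let ρ : V → V := fun x => x + B x f • e + B x e • f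
  have mρ : ∀ x, ρ x ∈ UU B e f := dec h p
  let γ0 : V →+ V := AddMonoidHom.mk' (fun x => ν (ρ x) + φ (B x f) • e + φ (B x e) • f) fun x y => by
    have : ρ (x + y) = ρ x + ρ y := by simp only [ρ, map_add, LinearMap.add_apply]; module
    rw [this, n.add h hq t p (mρ x) (mρ y)]
    simp only [map_add, LinearMap.add_apply]
    module
  have e0 : ∀ x, γ0 x = ν (ρ x) + φ (B x f) • e + φ (B x e) • f := fun _ => rfl
  have hB : ∀ x y, B (γ0 x) (γ0 y) = φ (B x y) := fun x y => by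
    have h1 := n.mem _ (mρ x)
    have h2 := n.mem _ (mρ y)
    have h3 : B (ρ x) (ρ y) = B x y + B x f * σ (B y e) + B x e * σ (B y f) := by
      simp only [ρ, map_add, LinearMap.add_apply, map_smul, map_smulₛₗ, LinearMap.smul_apply, smul_eq_mul, p.left,
        p.right, p.pair, p.pair', RingHom.id_apply, ← h.symm y e, ← h.symm y f]
      linear_combination (B x f * σ (B y e) + B x e * σ (B y f)) * two0 (F := F)
    simp only [e0, map_add, LinearMap.add_apply, map_smul, map_smulₛₗ, LinearMap.smul_apply, smul_eq_mul, p.left,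
      p.right, p.pair, p.pair', RingHom.id_apply, h1.1, h1.2, h.zero_symm h2.1, h.zero_symm h2.2,
      n.form h hq t p hφ (mρ x) (mρ y), h3, map_mul, h.aut_σ]
    linear_combination (φ (B x f) * σ (φ (B y e)) + φ (B x e) * σ (φ (B y f))) * two0 (F := F)
  have hi : Function.Injective γ0 := (injective_iff_map_eq_zero γ0).2 fun x hx => h.herm.nondeg' x fun y => by
    simpa [hx] using (hB y x).symm
  refine ⟨SG.mk' (AddEquiv.ofBijective γ0 hi.bijective_of_finite) φ fun a x => ?_, hB, ?_, fun u hu => ?_⟩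
  · change γ0 _ = _ • γ0 _
    have : ρ (a • x) = a • ρ x := by simp only [ρ, map_smul, LinearMap.smul_apply, smul_eq_mul]; module
    rw [e0, e0, this, hφ a _ (mρ x)]
    simp only [map_smul, LinearMap.smul_apply, smul_eq_mul, map_mul]
    module
  · change γ0 _ = _
    simp [e0, ρ, p.left, p.pair, vadd_self (F := F), n.zero h hq t p]
  · change γ0 _ = _
    simp [e0, ρ, hu.1, hu.2]

end Nu

end

end Br2a

open Br2a in
theorem Sp.br2a (h : Sp B q) (hq : q = 2) {e : V} (he : Iso B e) (θ : PW B (F ∙ e) →* SG F V)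
    (hi : Function.Injective θ) (hN : ∀ x ∈ PW B (F ∙ e), ev θ x ∈ PW B (F ∙ e))
    (hM : ∀ x ∈ M1 B e, ev θ x ∈ M1 B e) (hQ : ∀ x ∈ Qv B e, ev θ x ∈ Qv B e)
    (hZ : ev θ (tv B e 1) = tv B e 1) : ∃ γ ∈ Gam B, γ • e = e ∧ ∀ x ∈ M1 B e, ev θ x = γ * x * γ⁻¹ := by
  have hP := h.M1_le_PW e
  have t : Th B e (ev θ) := ⟨fun _ hx _ hy => ev_mul (hP hx) (hP hy), hM, hQ, hZ⟩
  obtain ⟨f, p⟩ := h.exists_pair he
  obtain ⟨ν, n⟩ := t.exists_nu h hq p
  obtain ⟨γ, hγ, γe, e1⟩ := n.step2 h hq t p fun k hk => by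
    obtain ⟨g, hg⟩ := Finite.surjective_of_injective (f := fun g : M1 B e => (⟨ev θ g, hM _ g.2⟩ : M1 B e))
      (fun a b e => by
        have e' : ev θ a = ev θ b := congrArg Subtype.val e
        rw [ev_of_mem (hP a.2), ev_of_mem (hP b.2)] at e'
        exact Subtype.ext (congrArg Subtype.val (hi e') :)) ⟨k, hk⟩
    exact ⟨g, g.2, congrArg Subtype.val hg⟩
  have γe' : γ⁻¹ • e = e := by rw [inv_smul_eq_iff, γe]
  have t1 := t.conj h he.iso (inv_mem hγ) γe'
  obtain ⟨k, hk, e2⟩ := t1.step3 h hq he fun u s hu hs => by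
    obtain ⟨s', e⟩ := n.eq' h hq t p hu hs
    have m := pr_mem p hu
    refine ⟨fld γ⁻¹ s' + (B u f + σ (B u f)), ?_⟩
    rw [e, h.ei_conj (inv_mem hγ) he.iso (n.mem _ m).1, γe', ← e1 _ m, inv_smul_smul, pr, h.ei_add_smul he.iso hu]
  have hk' := Qv_le_M1 e hk
  have hδ : γ * k ∈ Gam B := mul_mem hγ (SU_le_Gam hk'.1)
  have δe : (γ * k) • e = e := by rw [mul_smul, (mem_M1.1 hk').2, γe]
  have hS : γ * k ∈ Gam B ⊓ St (F ∙ e) := mem_inf.2 ⟨hδ, mapW_eq_iff.1 (by rw [mapW_span, δe])⟩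
  refine ⟨γ * k, hδ, δe, fun x hx => ?_⟩
  have := Th.step4 h (Θ := fun x => (γ * k)⁻¹ * ev θ x * (γ * k)) he
    (fun x hx y hy => by rw [ev_mul hx hy]; group) (fun x hx => conj_mem_of_norm' (h.St_norm_PW hS) (hN x hx))
    (fun x hx => by
      have := e2 x hx
      calc _ = k⁻¹ * (γ⁻¹ * ev θ x * γ⁻¹⁻¹) * k := by group
        _ = _ := by rw [this]; group) (hP hx)
  nth_rewrite 2 [← this]
  group

end Cfsg.Agent.U52
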