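import Mathlib
import Cfsg.Agent.U52.Cfg3
import Cfsg.Agent.U52.CB
import Cfsg.Agent.U52.CBb
import Cfsg.Agent.U52.TL
import Cfsg.Agent.NE.Tools
import Cfsg.Agent.U52.Br2a

set_option autoImplicit false
set_option linter.unusedSectionVars false

namespace Cfsg.Agent.U52

open Cfsg Cfsg.Agent.Cl Cfsg.Agent.Loc.Mss Subgroup Module
open Cfsg.Agent.StdB (C1 mem_C1 El)
open scoped commutatorElement

variable {F : Type*} [Field F] [Finite F] [CharP F 2] {σ : F →+* F} {V : Type*} [AddCommGroup V] [Module F V]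
  [Finite V] {B : V →ₗ[F] V →ₛₗ[σ] F} {q : ℕ} {G : Type*} [Group G] [Finite G]

open Br2a

theorem BrQb_prod (h : Sp B q) (hq : q = 2) {e v : V} (he : B e e = 0) (hv : B v v = 0) (hve : B v e = 0) {ω : F}
    (hω : ω + σ ω = 1) :
    tv B (v + (0 : F) • e) 1 * tv B (v + (1 : F) • e) 1 * tv B (v + ω • e) 1 * tv B (v + σ ω • e) 1 = tv B e 1 := by
  have hev := h.zero_symm hve
  have hp : ∀ a b : F, B (v + a • e) (v + b • e) = 0 := fun a b => by simp [he, hv, hve, hev]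
  have h1 := om_sq h hq hω
  have h2 : σ ω = ω + 1 := by linear_combination hω - ω * two0 (F := F)
  refine SG.ext2 (fun x => ?_) (by simp)
  simp only [mul_smul, tv_smul (hp _ _), tv_smul he, map_add, map_smul, LinearMap.add_apply, LinearMap.smul_apply,
    map_smulₛₗ, he, hv, hve, hev, smul_eq_mul, h2, map_one, map_zero]
  match_scalars
  · ring
  · linear_combination (2 * B x v + (ω + 2) * B x e) * two0 (F := F)
  · linear_combination (2 * B x e) * h1 + ((ω + 1) * B x v + (3 * ω + 2) * B x e) * two0 (F := F)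

namespace Cfg

variable {c : Cfg B q G}

theorem tr_of {e : V} (he : Iso B e) {y : G} (hy : y ∈ 𝐂[c.I (M1 B e)]) {a : F} (ha : σ a = a) (a0 : a ≠ 0)
    (e1 : y * c.t * y⁻¹ = c.t * c.z e a) : c.Tr := by
  intro v hv b hb
  by_cases b0 : b = 0
  · exact ⟨1, one_mem _, by rw [b0, c.z_zero]; simp⟩
  obtain ⟨l, hl⟩ := c.sp.uf.exists_norm_eq (a := b / a) (by rw [map_div₀, ha, hb])
  have l0 : l ≠ 0 := by
    rintro rfl
    exact div_ne_zero b0 a0 (by rw [← hl, zero_mul])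
  obtain ⟨g, hg, ge⟩ := c.sp.exists_SU_iso he (hv.sm l0)
  refine ⟨c.Ψ g * y * (c.Ψ g)⁻¹, ?_, ?_⟩
  · have := conj_mem_cj (g := c.Ψ g) hy
    rwa [cj_cent, c.sp.act_M1 c.ker (SU_le_Gam hg) (act_ev hg), ge, c.sp.M1_sm v l0] at this
  · have h1 := c.z_eqv hg he.iso ha
    rw [ge, c.z_sm, hl, mul_div_cancel₀ _ a0] at h1
    calc _ = c.Ψ g * (y * ((c.Ψ g)⁻¹ * (c.t * c.Ψ g)) * y⁻¹) * (c.Ψ g)⁻¹ := by group
      _ = c.Ψ g * c.t * (c.Ψ g)⁻¹ * (c.Ψ g * c.z e a * (c.Ψ g)⁻¹) := by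
        rw [c.t_Ψ, inv_mul_cancel_left, e1]; group
      _ = _ := by rw [h1, ← c.t_Ψ, mul_inv_cancel_right]

/-- Correction by an inner automorphism. -/
theorem BrQb_fin {e : V} (he : Iso B e) {g : G} {k : SG F V} (hk : k ∈ M1 B e)
    (hg : ∀ x ∈ M1 B e, g * c.Ψ x * g⁻¹ = c.Ψ (k * x * k⁻¹)) {a : F} (ha : σ a = a) (a0 : a ≠ 0)
    (e1 : g * c.t * g⁻¹ = c.t * c.z e a) : c.Tr := by
  refine tr_of he (y := (c.Ψ k)⁻¹ * g) ((mem_cent_im (M1_le e)).2 fun x hx => ?_) ha a0 ?_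
  · have := hg x hx
    rw [Ψ, Ψ, ev_conj hk.1 hx.1] at this
    calc _ = (c.Ψ k)⁻¹ * (g * ev c.ψ x * g⁻¹) * g := by group
      _ = _ := by rw [this]; group
  · have h1 := mem_cent.1 (c.z_cent he.iso ha) _ (ev_mem_im hk)
    calc _ = (c.Ψ k)⁻¹ * (g * c.t * g⁻¹) * c.Ψ k := by group
      _ = (c.Ψ k)⁻¹ * c.t * (c.z e a * c.Ψ k) := by rw [e1]; group
      _ = (c.Ψ k)⁻¹ * (c.t * c.Ψ k) * c.z e a := by rw [← h1]; group
      _ = _ := by rw [c.t_Ψ, inv_mul_cancel_left]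

/-- The translations by a product of two transvections. -/
theorem BrQb_sp {e : V} (he : Iso B e) {n : G} {γ : SG F V} (hγ : γ ∈ Gam B) (γe : γ • e = e)
    (hn : ∀ x ∈ M1 B e, n * c.Ψ x * n⁻¹ = c.Ψ (γ * x * γ⁻¹)) (e1 : n * c.t * n⁻¹ = c.t * c.z e 1) {p : V}
    (hp : Iso B p) (hpe : B p e = 0) : ∃ s : G, (∀ y ∈ M1 B e, y • p = p → s * c.Ψ y * s⁻¹ = c.Ψ y) ∧
      s * c.t * s⁻¹ = c.t * c.z e 1 * c.z p 1 := by
  have h := c.sp
  have γe' : γ⁻¹ • e = e := by rw [inv_smul_eq_iff, γe]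
  obtain ⟨x, hx, xe⟩ := h.exists_SU_iso he (hp.smul (inv_mem hγ))
  have hx' := conj_mem_SU hγ hx
  have hz : ∀ v, B v v = 0 → B v e = 0 → n * c.z v 1 * n⁻¹ = c.z (γ • v) 1 := fun v hv hve => by
    have := hn _ (h.M1_tv hv hve (map_one σ))
    rwa [tv_conj hγ hv, map_one] at this
  refine ⟨n * c.Ψ x * n⁻¹ * (c.Ψ (γ * x * γ⁻¹))⁻¹, fun y hy yp => ?_, ?_⟩
  · have m1 : γ⁻¹ * y * γ ∈ M1 B e := by simpa [γe'] using h.conj_mem_M1 (inv_mem hγ) hy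
    have m2 : x⁻¹ * (γ⁻¹ * y * γ) * x ∈ M1 B e := mem_M1.2 ⟨conj_mem_SU' (SU_le_Gam hx) m1.1, by
      rw [mul_smul, mul_smul, mul_smul, mul_smul, xe, smul_inv_smul, yp, ← xe, inv_smul_smul]⟩
    have k1 := hn _ m1
    have k2 := hn _ m2
    have k3 := ev_conj (f := c.ψ) (inv_mem hx') hy.1
    have k4 := ev_conj (f := c.ψ) hx m2.1
    rw [show γ * (γ⁻¹ * y * γ) * γ⁻¹ = y by group] at k1
    rw [show x * (x⁻¹ * (γ⁻¹ * y * γ) * x) * x⁻¹ = γ⁻¹ * y * γ by group] at k4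
    rw [show (γ * x * γ⁻¹)⁻¹ * y * (γ * x * γ⁻¹)⁻¹⁻¹ = γ * (x⁻¹ * (γ⁻¹ * y * γ) * x) * γ⁻¹ by group,
      ev_inv hx'] at k3
    calc _ = n * c.Ψ x * n⁻¹ * ((c.Ψ (γ * x * γ⁻¹))⁻¹ * c.Ψ y * (c.Ψ (γ * x * γ⁻¹))⁻¹⁻¹) * n * (c.Ψ x)⁻¹ * n⁻¹ := by
          group
      _ = n * (c.Ψ x * c.Ψ (x⁻¹ * (γ⁻¹ * y * γ) * x) * (c.Ψ x)⁻¹) * n⁻¹ := by
          rw [← k3, ← Ψ, ← k2]; group
      _ = _ := by rw [← k4]; exact k1
  · have k1 := hz e he.iso he.iso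
    rw [γe] at k1
    have k2 : n⁻¹ * c.t * n = c.t * c.z e 1 := by
      have : n * (c.t * c.z e 1) * n⁻¹ = c.t := by
        rw [← conj_mul, e1, k1, mul_assoc, c.z_sq he.iso, mul_one]
      nth_rewrite 1 [← this]; group
    have k3 := c.z_eqv hx he.iso (map_one σ)
    have k4 := hz _ (hp.smul (inv_mem hγ)).iso (by rw [← γe', Gam_zero (inv_mem hγ), hpe])
    rw [smul_inv_smul] at k4
    calc _ = n * c.Ψ x * (n⁻¹ * ((c.Ψ (γ * x * γ⁻¹))⁻¹ * (c.t * c.Ψ (γ * x * γ⁻¹))) * n) * (c.Ψ x)⁻¹ * n⁻¹ := by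
          group
      _ = n * (c.Ψ x * c.t * (c.Ψ x)⁻¹) * n⁻¹ * (n * (c.Ψ x * c.z e 1 * (c.Ψ x)⁻¹) * n⁻¹) := by
          rw [c.t_Ψ, inv_mul_cancel_left, k2]; group
      _ = _ := by rw [k3, xe, k4, ← c.t_Ψ, mul_inv_cancel_right, e1]

/-- The action of `n` on the vector stabilizer is induced by a semilinear map. -/
theorem BrQb_gam (ht : c.Tight) {e : V} (he : Iso B e) {n : G}
    (hn : n ∈ 𝐍[c.I (M1 B e)] ⊓ 𝐍[c.I (Qv B e)] ⊓ 𝐍[c.I (Zv B e)]) (e1 : n * c.t * n⁻¹ = c.t * c.z e 1) :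
    ∃ γ ∈ Gam B, γ • e = e ∧ ∀ x ∈ M1 B e, n * c.Ψ x * n⁻¹ = c.Ψ (γ * x * γ⁻¹) := by
  have h := c.sp
  obtain ⟨⟨n1, n2⟩, n3⟩ := hn
  have ha : σ (1 : F) = 1 := map_one σ
  have e2 : n * c.z e 1 * n⁻¹ = c.z e 1 := by
    obtain ⟨b, hb, e2⟩ := (c.mem_IZ he).1 (conj_mem_of_norm n3 ((c.mem_IZ he).2 ⟨1, ha, rfl⟩))
    rcases h.K_two hb with rfl | rfl
    · rw [c.z_zero, conj_eq_one_iff, c.z_eq_one he ha] at e2
      exact absurd e2 one_ne_zero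
    · exact e2
  have n4 := ht.norm_N1 he (c.norm_D he e1 e2)
  have hP := h.M1_le_PW e
  have hS := PW_le (B := B) (F ∙ e)
  have : ∀ x, ∃ y, x ∈ PW B (F ∙ e) → y ∈ PW B (F ∙ e) ∧ c.Ψ y = n * c.Ψ x * n⁻¹ := fun x => by
    by_cases hx : x ∈ PW B (F ∙ e)
    · obtain ⟨y, hy, e1⟩ := (mem_im' hS).1 (conj_mem_of_norm n4 (ev_mem_im hx))
      exact ⟨y, fun _ => ⟨hy, e1⟩⟩
    · exact ⟨1, fun n => absurd n hx⟩
  choose Θ hΘ using this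
  have hu : ∀ x ∈ PW B (F ∙ e), ∀ y ∈ SU B, n * c.Ψ x * n⁻¹ = c.Ψ y → Θ x = y := fun x hx y hy e1 =>
    c.Ψ_inj' (hS (hΘ x hx).1) hy ((hΘ x hx).2.trans e1)
  let θ : PW B (F ∙ e) →* SG F V := MonoidHom.mk' (fun x => Θ x) fun x y => by
    have a1 := hS (hΘ _ x.2).1
    have a2 := hS (hΘ _ y.2).1
    refine hu _ (mul_mem x.2 y.2) _ (mul_mem a1 a2) ?_
    rw [c.CB_mul (hS x.2) (hS y.2), c.CB_mul a1 a2, ← conj_mul, (hΘ _ x.2).2, (hΘ _ y.2).2]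
  have hθ : ∀ x ∈ PW B (F ∙ e), ev θ x = Θ x := fun x hx => ev_of_mem hx
  have m1 := h.M1_tv he.iso he.iso ha
  obtain ⟨γ, hγ, γe, e3⟩ := h.br2a h.q2 he θ (fun x y e3 => Subtype.ext (c.Ψ_inj' (hS x.2) (hS y.2) (by
      have := (hΘ _ x.2).2
      rw [show Θ x = Θ y from e3, (hΘ _ y.2).2] at this
      simpa using this.symm))) (fun x hx => by rw [hθ x hx]; exact (hΘ x hx).1) (fun x hx => by
      obtain ⟨y, hy, e3⟩ := (mem_im' (M1_le e)).1 (conj_mem_of_norm n1 (ev_mem_im hx))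
      rwa [hθ x (hP hx), hu _ (hP hx) _ (M1_le e hy) e3.symm]) (fun x hx => by
      obtain ⟨y, hy, e3⟩ := (mem_im' (Qv_le e)).1 (conj_mem_of_norm n2 (ev_mem_im hx))
      rwa [hθ x (hP (Qv_le_M1 e hx)), hu _ (hP (Qv_le_M1 e hx)) _ (Qv_le e hy) e3.symm])
      (by rw [hθ _ (hP m1), hu _ (hP m1) _ (M1_le e m1) e2])
  exact ⟨γ, hγ, γe, fun x hx => by rw [← e3 x hx, hθ x (hP hx), (hΘ x (hP hx)).2]⟩

theorem br2 (hq : q = 2) (ht : c.Tight) {e : V} (hf : c.Fus e) : c.Tr := by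
  have h := c.sp
  have he := hf.iso
  obtain ⟨n, n1, a, ha, a0, e1⟩ := hf.ex
  obtain rfl : a = 1 := (fix2 h hq ha).resolve_left a0
  have m1 := h.M1_tv he.iso he.iso ha
  obtain ⟨γ, hγ, γe, hn⟩ := BrQb_gam ht he n1 e1
  obtain ⟨v, v', hve, hve', p⟩ := h.M1_pair he
  obtain ⟨ω, hω⟩ := h.exists_omega
  have hev := h.zero_symm hve
  have hp : ∀ a b : F, B (v + a • e) (v + b • e) = 0 := fun a b => by simp [he.iso, p.left, hve, hev]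
  have hpe : ∀ a : F, B (v + a • e) e = 0 := fun a => by simp [he.iso, hve]
  have hi : ∀ a : F, Iso B (v + a • e) := fun a => ⟨fun e0 => by
    simpa [p.pair, h.zero_symm hve'] using congrArg (fun x => B x v') e0, hp a a⟩
  let X : Submodule F V := Submodule.span F {e, v}
  have eX : e ∈ X := Submodule.subset_span (by simp)
  have vX : v ∈ X := Submodule.subset_span (by simp)
  have pX : ∀ a : F, v + a • e ∈ X := fun a => add_mem vX (X.smul_mem a eX)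
  have hX : TI B X := fun x hx y hy => by
    obtain ⟨a, b, rfl⟩ := Submodule.mem_span_pair.1 hx
    obtain ⟨a', b', rfl⟩ := Submodule.mem_span_pair.1 hy
    simp [he.iso, p.left, hve, hev]
  have AF : AW B X ≤ FW B X := (h.AW_le_RW hX).trans (RW_le_FW X)
  have step : ∀ (l : F) (s : G) (a : SG F V), a ∈ AW B X → (∀ y ∈ FW B X, s * c.Ψ y * s⁻¹ = c.Ψ y) →
      s * c.t * s⁻¹ = c.t * c.Ψ a → ∃ s' : G, (∀ y ∈ FW B X, s' * c.Ψ y * s'⁻¹ = c.Ψ y) ∧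
        s' * c.t * s'⁻¹ = c.t * c.Ψ (a * (tv B e 1 * tv B (v + l • e) 1)) := fun l s a ha' h1 h2 => by
    obtain ⟨s1, k1, k2⟩ := BrQb_sp he hγ γe hn e1 (hi l) (hpe l)
    have t1 := h.tv_mem_AW eX he.iso ha
    have t2 := h.tv_mem_AW (pX l) (hp l l) ha
    refine ⟨s * s1, fun y hy => ?_, ?_⟩
    · calc _ = s * (s1 * c.Ψ y * s1⁻¹) * s⁻¹ := by group
        _ = _ := by rw [k1 y (FW_le_M1 eX hy) (hy.2 _ (pX l)), h1 y hy]
    · calc _ = s * (s1 * c.t * s1⁻¹) * s⁻¹ := by group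
        _ = s * c.t * s⁻¹ * (s * c.Ψ (tv B e 1) * s⁻¹) * (s * c.Ψ (tv B (v + l • e) 1) * s⁻¹) := by
          rw [k2, conj_mul, conj_mul]; rfl
        _ = _ := by
          rw [h2, h1 _ (AF t1), h1 _ (AF t2), Ψ, Ψ, Ψ, Ψ, ev_mul ha'.1 (mul_mem t1.1 t2.1), ev_mul t1.1 t2.1]
          group
  have mA : ∀ (l : F) (a : SG F V), a ∈ AW B X → a * (tv B e 1 * tv B (v + l • e) 1) ∈ AW B X := fun l a ha' =>
    mul_mem ha' (mul_mem (h.tv_mem_AW eX he.iso ha) (h.tv_mem_AW (pX l) (hp l l) ha))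
  obtain ⟨s, h1, h2⟩ := step 0 1 1 (one_mem _) (by simp) (by simp [Ψ, ev_one])
  obtain ⟨s, h1, h2⟩ := step 1 s _ (mA _ _ (one_mem _)) h1 h2
  obtain ⟨s, h1, h2⟩ := step ω s _ (mA _ _ (mA _ _ (one_mem _))) h1 h2
  obtain ⟨s, h1, h2⟩ := step (σ ω) s _ (mA _ _ (mA _ _ (mA _ _ (one_mem _)))) h1 h2
  have h3 : s * c.t * s⁻¹ = c.t * c.z e 1 := by
    have cm : ∀ l : F, tv B (v + l • e) 1 * tv B e 1 = tv B e 1 * tv B (v + l • e) 1 := fun l =>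
      h.AW_ab hX (h.tv_mem_AW (pX l) (hp l l) ha) (h.tv_mem_AW eX he.iso ha)
    have cm2 : ∀ l l' : F, tv B e 1 * tv B (v + l • e) 1 * (tv B e 1 * tv B (v + l' • e) 1) =
        tv B (v + l • e) 1 * tv B (v + l' • e) 1 := fun l l' => by
      rw [← cm l, mul_assoc, ← mul_assoc (tv B e 1), h.tv_sq he.iso, one_mul]
    rw [h2, one_mul, mul_assoc (_ * _) (_ * _) (_ * _), cm2, cm2, ← mul_assoc, BrQb_prod h hq he.iso p.left hve hω]
    rfl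
  have h4 : s * n⁻¹ ∈ c.C := mem_C1.2 (by
    have k1 := hn _ m1
    rw [tv_conj hγ he.iso, γe, map_one] at k1
    have k2 := h1 _ (AF (h.tv_mem_AW eX he.iso ha))
    have k3 : n * (c.t * c.z e 1) * n⁻¹ = c.t := by
      rw [← conj_mul, e1, show n * c.z e 1 * n⁻¹ = c.z e 1 from k1, mul_assoc, c.z_sq he.iso, mul_one]
    have k4 : s * (c.t * c.z e 1) * s⁻¹ = c.t := by
      rw [← conj_mul, h3, show s * c.z e 1 * s⁻¹ = c.z e 1 from k2, mul_assoc, c.z_sq he.iso, mul_one]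
    calc _ = s * n⁻¹ * (n * (c.t * c.z e 1) * n⁻¹) := by rw [k3]
      _ = s * (c.t * c.z e 1) * s⁻¹ * (s * n⁻¹) := by group
      _ = _ := by rw [k4])
  obtain ⟨γ', hγ', act⟩ := c.act h4
  have h5 : ∀ x ∈ M1 B e, s * c.Ψ x * s⁻¹ = c.Ψ (γ' * γ * x * (γ' * γ)⁻¹) := fun x hx => by
    have := act _ (conj_mem_SU hγ hx.1)
    rw [← Ψ, ← hn x hx] at this
    rw [show γ' * γ * x * (γ' * γ)⁻¹ = γ' * (γ * x * γ⁻¹) * γ'⁻¹ by group, Ψ, Ψ, ← this]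
    group
  obtain ⟨s0, hs0, a, ha', e3⟩ := h.cen_RW hX (fun e0 => he.ne (by simpa [e0] using eX)) (mul_mem hγ' hγ)
    (mem_cent.2 fun x hx => by
      have hx' := RW_le_FW X hx
      have m := conj_mem_SU (mul_mem hγ' hγ) hx'.1
      have k1 := (h5 x (FW_le_M1 eX hx')).symm.trans (h1 x hx')
      have k2 := c.ker _ (mul_mem m (inv_mem hx'.1)) (by
        rw [ev_mul m (inv_mem hx'.1), ev_inv hx'.1, mul_inv_eq_one]; exact k1)
      obtain ⟨j, hj⟩ := h.RW_two hX ⟨x, hx⟩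
      have hj' : x ^ 2 ^ j = 1 := congrArg Subtype.val hj
      have := h.eq_of_two k2 (fld_SU hx'.1) hj' (m := j) (by rw [inv_mul_cancel_right, conj_pow, hj']; simp)
      rw [mul_inv_eq_one, mul_inv_eq_iff_eq_mul] at this
      exact this.symm)
  have ha2 := FW_le_M1 eX (AF ha')
  refine BrQb_fin he ha2 (fun x hx => ?_) ha a0 h3
  rw [h5 x hx, e3, show s0 * a * x * (s0 * a)⁻¹ = s0 * (a * x * a⁻¹) * s0⁻¹ by group,
    Sc_conj hs0 (fld_SU (conj_mem_SU (SU_le_Gam ha2.1) hx.1))]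

theorem tr (ht : c.Tight) {e : V} (hf : c.Fus e) : c.Tr := by
  exact br2 c.sp.q2 ht hf

end Cfg

end Cfsg.Agent.U52
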