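import Mathlib
import Cfsg.Agent.U52.Cfg3
import Cfsg.Agent.U52.CB

set_option autoImplicit false
set_option linter.unusedSectionVars false

namespace Cfsg.Agent.U52

open Cfsg Cfsg.Agent.Cl Cfsg.Agent.Loc.Mss Subgroup Module
open Cfsg.Agent.StdB (C1 mem_C1 El)
open scoped commutatorElement

variable {F : Type*} [Field F] [Finite F] [CharP F 2] {σ : F →+* F} {V : Type*} [AddCommGroup V] [Module F V]
  [Finite V] {B : V →ₗ[F] V →ₛₗ[σ] F} {q : ℕ} {G : Type*} [Group G] [Finite G]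

namespace Cfg.Zd

variable {c : Cfg B q G} (d : c.Zd)

theorem le_Ph {X : Submodule F V} {v : V} (hv : v ∈ X) (h0 : v ≠ 0) : d.Zh v ≤ d.Ph X := by
  exact le_iSup (fun v : {v // v ∈ X ∧ v ≠ 0} => d.Zh v) ⟨v, hv, h0⟩

theorem Ph_mono {X X' : Submodule F V} (h : X ≤ X') : d.Ph X ≤ d.Ph X' := by
  exact iSup_le fun v => d.le_Ph (h v.2.1) v.2.2

theorem Ph_le {X : Submodule F V} (hX : TI B X) : d.Ph X ≤ c.PX X := by
  refine iSup_le fun v y hy => ?_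
  have hv : Iso B v := ⟨v.2.2, hX _ v.2.1 _ v.2.1⟩
  obtain ⟨h1, a, ha, e⟩ := (c.mem_Yt hv).1 (d.le v hv hy)
  exact (c.mem_PX hX).2 ⟨cent_anti (im_mono (FW_le_M1 v.2.1)) h1, _, c.sp.tv_mem_AW v.2.1 hv.iso ha, e⟩

theorem Ph_ab {X : Submodule F V} (hX : TI B X) : d.Ph X ≤ 𝐂[d.Ph X] := by
  exact iSup_le fun v => le_cent_iSup fun w =>
    d.perp v w ⟨v.2.2, hX _ v.2.1 _ v.2.1⟩ ⟨w.2.2, hX _ w.2.1 _ w.2.1⟩ (hX _ w.2.1 _ v.2.1)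

theorem IA_le {X : Submodule F V} (hX : TI B X) : c.I (AW B X) ≤ d.Ph X := by
  rw [c.sp.AW_gen hX]
  refine im_closure_le ?_ ?_ <;> rintro _ ⟨v, hv, a, ha, rfl⟩
  · exact c.sp.tv_mem (hX v hv v hv) ha
  · by_cases h0 : v = 0
    · rw [h0, tv_zero_left, ev_one]; exact one_mem _
    · have hi : Iso B v := ⟨h0, hX v hv v hv⟩
      exact d.le_Ph hv h0 (d.ge v hi ((c.mem_IZ hi).2 ⟨a, ha, rfl⟩))

theorem Ph_cent {X : Submodule F V} (hX : TI B X) : d.Ph X ≤ 𝐂[c.I (FW B X)] := by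
  exact (d.Ph_le hX).trans inf_le_left

theorem Ph_mv {X : Submodule F V} (hX : TI B X) {y y' : G} (hy : y ∈ d.Ph X) {a a' : SG F V} (ha : a ∈ AW B X)
    (ha' : a' ∈ AW B X) (e : y * c.t * y⁻¹ = c.t * c.Ψ a) (e' : y' * c.t * y'⁻¹ = c.t * c.Ψ a') :
    y * y' * c.t * (y * y')⁻¹ = c.t * c.Ψ (a * a') := by
  have k := mem_cent.1 (d.Ph_ab hX hy) _ (d.IA_le hX (ev_mem_im ha'))
  calc y * y' * c.t * (y * y')⁻¹ = y * (y' * c.t * y'⁻¹) * y⁻¹ := by group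
    _ = y * c.t * y⁻¹ * (y * c.Ψ a' * y⁻¹) := by rw [e']; group
    _ = _ := by rw [e, ← k, mul_inv_cancel_right, mul_assoc, ← ev_mul ha.1 ha'.1]

theorem Ph_z {X : Submodule F V} (hX : TI B X) {v : V} (hv : v ∈ X) {a : F} (ha : σ a = a) :
    ∃ y ∈ d.Ph X, y * c.t * y⁻¹ = c.t * c.z v a ∧ y * y = c.z v (d.κ * a) := by
  by_cases h0 : v = 0
  · exact ⟨1, one_mem _, by simp [h0, c.z_zero_left], by simp [h0, c.z_zero_left]⟩
  · obtain ⟨y, hy, e⟩ := d.onto v ⟨h0, hX v hv v hv⟩ a ha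
    exact ⟨y, d.le_Ph hv h0 hy, e, d.sq v ⟨h0, hX v hv v hv⟩ y hy a ha e⟩

theorem Ph_onto {X : Submodule F V} (hX : TI B X) {a : SG F V} (ha : a ∈ AW B X) :
    ∃ y ∈ d.Ph X, y * c.t * y⁻¹ = c.t * c.Ψ a := by
  have e := c.sp.AW_gen hX
  rw [e] at ha
  induction ha using closure_induction with
  | mem x hx =>
    obtain ⟨v, hv, a, ha, rfl⟩ := hx
    exact (d.Ph_z hX hv ha).imp fun y hy => ⟨hy.1, hy.2.1⟩
  | one => exact ⟨1, one_mem _, by simp [ev_one]⟩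
  | mul a a' ha ha' k k' =>
    obtain ⟨y, hy, k⟩ := k
    obtain ⟨y', hy', k'⟩ := k'
    exact ⟨y * y', mul_mem hy hy', d.Ph_mv hX hy (e.ge ha) (e.ge ha') k k'⟩
  | inv a ha k => rwa [inv_eq_of_mul_eq_one_right (c.sp.AW_sq hX (e.ge ha))]

theorem Ph_ker (ht : c.Tight) {X : Submodule F V} (hX : TI B X) {y : G} (hy : y ∈ d.Ph X) (e : y * c.t = c.t * y) :
    y ∈ c.I (AW B X) := by
  by_cases h0 : X = ⊥
  · have : d.Ph X ≤ ⊥ := iSup_le fun v => absurd (h0.le v.2.1) v.2.2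
    rw [mem_bot.1 (this hy)]; exact one_mem _
  obtain ⟨a, ha, k | k⟩ := c.mem_E.1 (ht.cenFW hX h0 (mem_C1.2 e) (d.Ph_cent hX hy))
  · rw [k]; exact ev_mem_im ha
  · rw [k] at hy
    have h1 := (mul_mem_cancel_right (d.IA_le hX (ev_mem_im ha))).1 hy
    obtain ⟨v, hv, v0⟩ := (Submodule.ne_bot_iff X).1 h0
    obtain ⟨y', hy', e', -⟩ := d.Ph_z hX hv (map_one σ)
    rw [← mem_cent.1 (d.Ph_ab hX hy') _ h1, mul_inv_cancel_right, left_eq_mul,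
      c.z_eq_one ⟨v0, hX v hv v hv⟩ (map_one σ)] at e'
    exact absurd e' one_ne_zero

theorem Ph_eqv {X : Submodule F V} (hX : TI B X) {g : SG F V} (hg : g ∈ SU B) :
    cj(c.Ψ g, d.Ph X) = d.Ph (mapW g X) := by
  rw [Ph, Subgroup.map_iSup]
  refine le_antisymm (iSup_le fun v => ?_) (iSup_le fun v => ?_)
  · rw [← d.eqv g hg v ⟨v.2.2, hX _ v.2.1 _ v.2.1⟩]
    exact d.le_Ph (smul_mem_mapW.2 v.2.1) ((smul_ne_zero_iff_ne g).2 v.2.2)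
  · have h0 : g⁻¹ • (v : V) ≠ 0 := (smul_ne_zero_iff_ne _).2 v.2.2
    refine le_trans ?_ (le_iSup _ ⟨g⁻¹ • (v : V), v.2.1, h0⟩)
    rw [← d.eqv g hg _ ⟨h0, hX _ v.2.1 _ v.2.1⟩, smul_inv_smul]

theorem Ph_norm {X : Submodule F V} (hX : TI B X) {g : SG F V} (hg : g ∈ PW B X) : c.Ψ g ∈ 𝐍[d.Ph X] := by
  rw [← cj_eq_iff, d.Ph_eqv hX hg.1, mapW_eq_iff.2 hg.2]

theorem exists_b {X : Submodule F V} (hX : TI B X) : ∃ b : G → SG F V,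
    (∀ y ∈ d.Ph X, b y ∈ AW B X ∧ y * c.t * y⁻¹ = c.t * c.Ψ (b y)) ∧
    (∀ y ∈ d.Ph X, ∀ a ∈ AW B X, y * c.t * y⁻¹ = c.t * c.Ψ a → b y = a) ∧
    (∀ y ∈ d.Ph X, ∀ y' ∈ d.Ph X, b (y * y') = b y * b y') ∧
    ∀ y ∈ d.Ph X, ∀ g ∈ PW B X, b (c.Ψ g * y * (c.Ψ g)⁻¹) = g * b y * g⁻¹ := by
  have ex : ∀ y : G, ∃ a, y ∈ d.Ph X → a ∈ AW B X ∧ y * c.t * y⁻¹ = c.t * c.Ψ a := fun y => by
    by_cases hy : y ∈ d.Ph X
    · obtain ⟨a, ha⟩ := ((c.mem_PX hX).1 (d.Ph_le hX hy)).2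
      exact ⟨a, fun _ => ha⟩
    · exact ⟨1, fun k => absurd k hy⟩
  choose b hb using ex
  have uq : ∀ y ∈ d.Ph X, ∀ a ∈ AW B X, y * c.t * y⁻¹ = c.t * c.Ψ a → b y = a := fun y hy a ha e =>
    c.ker.inj_two ((c.sp.RW_two hX).to_le (c.sp.AW_le_RW hX)) (AW_le X) (hb y hy).1 ha
      (mul_left_cancel ((hb y hy).2.symm.trans e))
  refine ⟨b, hb, uq, fun y hy y' hy' => uq _ (mul_mem hy hy') _ (mul_mem (hb y hy).1 (hb y' hy').1)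
    (d.Ph_mv hX hy (hb y hy).1 (hb y' hy').1 (hb y hy).2 (hb y' hy').2), fun y hy g hg =>
    uq _ (conj_mem_of_norm (d.Ph_norm hX hg) hy) _ (c.sp.conj_mem_AW' (SU_le_Gam hg.1) hg.2 (hb y hy).1) ?_⟩
  calc _ = c.Ψ g * (y * ((c.Ψ g)⁻¹ * (c.t * c.Ψ g)) * y⁻¹) * (c.Ψ g)⁻¹ := by group
    _ = c.Ψ g * c.t * c.Ψ (b y) * (c.Ψ g)⁻¹ := by rw [c.t_Ψ, inv_mul_cancel_left, (hb y hy).2]; group
    _ = _ := by rw [← c.t_Ψ, Ψ, Ψ, Ψ, ev_conj hg.1 (hb y hy).1.1]; group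

theorem Ph_sq_mul {X : Submodule F V} (hX : TI B X) {y y' : G} (hy : y ∈ d.Ph X) (hy' : y' ∈ d.Ph X) :
    y * y' * (y * y') = y * y * (y' * y') := by
  rw [mul_assoc, ← mul_assoc y', mem_cent.1 (d.Ph_ab hX hy) y' hy']; group

theorem Ph_sq_eq (ht : c.Tight) {X : Submodule F V} (hX : TI B X) {y y' : G} (hy : y ∈ d.Ph X) (hy' : y' ∈ d.Ph X)
    (e : y * c.t * y⁻¹ = y' * c.t * y'⁻¹) : y * y = y' * y' := by
  have hk := mul_mem (inv_mem hy') hy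
  have k := im_el (c.sp.AW_el hX) _ (d.Ph_ker ht hX hk (by
    calc y'⁻¹ * y * c.t = y'⁻¹ * (y * c.t * y⁻¹) * y := by group
      _ = _ := by rw [e]; group))
  have := d.Ph_sq_mul hX hy' hk
  rwa [k, mul_one, mul_inv_cancel_left] at this

theorem Ph_sq_in {X : Submodule F V} (hX : TI B X) {N : Subgroup G}
    (hN : ∀ v ∈ X, ∀ a, σ a = a → c.z v (d.κ * a) ∈ N) {y : G} (hy : y ∈ d.Ph X) : y * y ∈ N := by
  induction hy using iSup_induction' with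
  | hp v y hy =>
    have hv : Iso B v := ⟨v.2.2, hX _ v.2.1 _ v.2.1⟩
    obtain ⟨-, a, ha, e⟩ := (c.mem_Yt hv).1 (d.le v hv hy)
    rw [d.sq v hv y hy a ha e]
    exact hN v v.2.1 a ha
  | h1 => simp
  | hmul y y' hy hy' k k' =>
    rw [d.Ph_sq_mul hX hy hy']
    exact mul_mem k k'

theorem sq_z (ht : c.Tight) {X : Submodule F V} (hX : TI B X) {v : V} (hv : v ∈ X) {a : F} (ha : σ a = a) {y : G}
    (hy : y ∈ d.Ph X) (e : y * c.t * y⁻¹ = c.t * c.z v a) : y * y = c.z v (d.κ * a) := by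
  obtain ⟨y', hy', e', k⟩ := d.Ph_z hX hv ha
  rw [d.Ph_sq_eq ht hX hy hy' (e.trans e'.symm), k]

theorem sq_x (ht : c.Tight) {X : Submodule F V} (hX : TI B X) {v w : V} (hv : v ∈ X) (hw : w ∈ X) {y : G}
    (hy : y ∈ d.Ph X) (e : y * c.t * y⁻¹ = c.t * c.x v w) : y * y = c.x (d.κ • v) w := by
  have h := c.sp
  have m : ∀ u ∈ X, ∀ a, σ a = a → tv B u a ∈ AW B X := fun u hu a ha => h.tv_mem_AW hu (hX u hu u hu) ha
  obtain ⟨y1, h1, e1, k1⟩ := d.Ph_z hX hv (map_one σ)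
  obtain ⟨y2, h2, e2, k2⟩ := d.Ph_z hX hw (map_one σ)
  obtain ⟨y3, h3, e3, k3⟩ := d.Ph_z hX (add_mem hv hw) (map_one σ)
  have m12 := mul_mem (m v hv 1 (map_one σ)) (m w hw 1 (map_one σ))
  have e' := d.Ph_mv hX (mul_mem h1 h2) m12 (m _ (add_mem hv hw) 1 (map_one σ))
    (d.Ph_mv hX h1 (m v hv 1 (map_one σ)) (m w hw 1 (map_one σ)) e1 e2) e3
  rw [h.tv_add (hX v hv v hv) (hX w hw v hv) (hX w hw w hw) (map_one σ), ← mul_assoc, h.AW_sq hX m12, one_mul,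
    one_smul] at e'
  rw [d.Ph_sq_eq ht hX hy (mul_mem (mul_mem h1 h2) h3) (e.trans e'.symm), d.Ph_sq_mul hX (mul_mem h1 h2) h3,
    d.Ph_sq_mul hX h1 h2, k1, k2, k3, mul_one, c.z_plane (hX v hv v hv) (hX w hw v hv) (hX w hw w hw) d.hκ, ← mul_assoc,
    im_el (h.AW_el hX) (c.z v d.κ * c.z w d.κ) (mul_mem (ev_mem_im (m v hv _ d.hκ)) (ev_mem_im (m w hw _ d.hκ))),
    one_mul]

theorem sq_mem (ht : c.Tight) {X : Submodule F V} (hX : TI B X) {y : G} (hy : y ∈ d.Ph X) : y * y ∈ c.I (AW B X) := by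
  exact d.Ph_sq_in hX (fun v hv a ha =>
    ev_mem_im (c.sp.tv_mem_AW hv (hX v hv v hv) (by rw [map_mul, d.hκ, ha]))) hy

theorem sq_one (ht : c.Tight) (h0 : d.κ = 0) {X : Submodule F V} (hX : TI B X) : El (d.Ph X) := by
  exact fun y hy => mem_bot.1 (d.Ph_sq_in hX (fun v _ a _ => by rw [h0, zero_mul, c.z_zero]; exact one_mem _) hy)

end Cfg.Zd

end Cfsg.Agent.U52
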