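import Mathlib
import Cfsg.Agent.U52.Cfg3
import Cfsg.Agent.U52.PtB

/-! Tools for the relations between two lines through a point. -/

set_option autoImplicit false
set_option linter.unusedSectionVars false

namespace Cfsg.Agent.U52

open Cfsg Cfsg.Agent.Cl Cfsg.Agent.Loc.Mss Subgroup Module
open Cfsg.Agent.StdB (C1 mem_C1 El)
open scoped commutatorElement

variable {F : Type*} [Field F] [Finite F] [CharP F 2] {σ : F →+* F} {V : Type*} [AddCommGroup V] [Module F V]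
  [Finite V] {B : V →ₗ[F] V →ₛₗ[σ] F} {q : ℕ} {G : Type*} [Group G] [Finite G]

namespace R2k

variable (B) in
/-- Orthogonal isotropic vectors. -/
structure Ok (e w : V) : Prop where
  ee : B e e = 0
  we : B w e = 0
  ww : B w w = 0

variable {e w w' e' v v' : V}

theorem Ok.sm (o : Ok B e w) (a : F) : Ok B e (a • w) := ⟨o.ee, by simp [o.we], by simp [o.ww]⟩

theorem Ok.sml (o : Ok B e w) (a : F) : Ok B (a • e) w := ⟨by simp [o.ee], by simp [o.we], o.ww⟩

theorem Ok.self (he : B e e = 0) : Ok B e e := ⟨he, he, he⟩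

theorem Ok.add (o : Ok B e w) (o' : Ok B e w') (h : B w w' + B w' w = 0) : Ok B e (w + w') :=
  ⟨o.ee, by simp [o.we, o'.we], by
    simp only [map_add, LinearMap.add_apply, o.ww, o'.ww]
    linear_combination h⟩

theorem ti_span {S : Set V} (h : ∀ x ∈ S, ∀ y ∈ S, B x y = 0) : TI B (Submodule.span F S) := fun x hx _ hy =>
  (Submodule.span_le (p := LinearMap.ker (B x))).2 (fun y hy =>
    (Submodule.span_le (p := LinearMap.ker (B.flip y))).2 (fun x hx => h x hx y hy) hx) hy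

theorem tr_fix (h : Sp B q) (w w' : V) : σ (B w w' + B w' w) = B w w' + B w' w := by
  rw [map_add, h.symm, h.symm, add_comm]

theorem n_fix (h : Sp B q) (a : F) : σ (a * σ a) = a * σ a := by rw [map_mul, h.ss, mul_comm]

theorem frame (h : Sp B q) (he : e ≠ 0) (o : Ok B e w) (o' : Ok B e w') (ne : B w w' ≠ 0) :
    ∃ f, Frame B e f ((B w w')⁻¹ • w) w' :=
  h.exists_frame' ⟨he, o.ee⟩ (h.herm.uHypPair (o.sm _).ww o'.ww (by simp [ne]))
    (h.zero_symm (o.sm _).we) (h.zero_symm o'.we)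

theorem geo (h : Sp B q) (he : e ≠ 0) (o : Ok B e w) (o' : Ok B e w') (he' : e' ≠ 0) (p : Ok B e' v)
    (p' : Ok B e' v') (ne : B w w' ≠ 0) (eq : B w w' = B v v') :
    ∃ g ∈ SU B, ∃ ξ : F, ξ * σ ξ = 1 ∧ g • e = ξ • e' ∧ g • w = ξ • v ∧ g • w' = ξ • v' := by
  obtain ⟨f, p1⟩ := frame h he o o' ne
  obtain ⟨f', p2⟩ := frame h he' p p' (eq ▸ ne)
  obtain ⟨g, hg, ζ, hζ, g1, -, g2, g3⟩ := h.frame_conj p1 p2
  obtain ⟨ξ, rfl, -, hξ⟩ := h.exists_sqrt ζ
  replace hξ := hξ hζ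
  have x0 : ξ ≠ 0 := left_ne_zero_of_mul_eq_one hξ
  have m := h.hy_mul_mem p2.p1 p2.p2 (inv_ne_zero x0) x0 (by rw [inv_mul_cancel₀ x0, map_one])
  have m' := mul_mem m hg
  refine ⟨_, m', ξ, hξ, ?_, ?_, ?_⟩
  · rw [mul_smul, g1, smul_sm_of (fld_SU m), mul_smul (hy B e' f' ξ⁻¹), hy_perp p2.p2 x0 p2.ee p2.ef,
      hy_left p2.p1 (inv_ne_zero x0), smul_smul, mul_assoc, mul_inv_cancel₀ x0, mul_one]
  · apply smul_right_injective V (inv_ne_zero ne)
    simp only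
    rw [← smul_sm_of (fld_SU m'), mul_smul, g2, mul_smul, hy_left p2.p2 x0, smul_sm_of (fld_hy _ _ _),
      hy_perp p2.p1 (inv_ne_zero x0) (h.zero_symm p2.ee) (h.zero_symm p2.fe), eq, smul_comm]
  · rw [mul_smul, g3, mul_smul, hy_right p2.p2 x0, smul_sm_of (fld_hy _ _ _),
      hy_perp p2.p1 (inv_ne_zero x0) (h.zero_symm p2.ef) (h.zero_symm p2.ff),
      inv_eq_of_mul_eq_one_left hξ]

theorem base (h : Sp B q) : ∃ e w w' : V, e ≠ 0 ∧ Ok B e w ∧ Ok B e w' ∧ B w w' = 1 ∧ B w' w = 1 := by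
  obtain ⟨e, he⟩ := h.exists_iso
  obtain ⟨f, p⟩ := h.exists_pair he
  obtain ⟨w, w', p⟩ := h.exists_frame'' p
  exact ⟨e, w, w', he.ne, ⟨he.iso, h.zero_symm p.ee, p.p2.left⟩, ⟨he.iso, h.zero_symm p.ef, p.p2.right⟩,
    p.p2.pair, p.p2.pair'⟩

variable {c : Cfg B q G} (s : c.Pt)

theorem x_ne (he : e ≠ 0) (o : Ok B e w) (o' : Ok B e w') (ne : B w w' ≠ 0) {a : F} (ha : σ a = a) :
    c.x e w ≠ c.z e a := fun h => by
  have li : LinearIndependent F ![e, w] := LinearIndependent.pair_iff.2 fun x y hxy => by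
    have := congrArg (fun u => B u w') hxy
    simp only [map_add, map_smul, LinearMap.add_apply, LinearMap.smul_apply, c.sp.zero_symm o'.we,
      smul_eq_mul, mul_zero, zero_add, map_zero, LinearMap.zero_apply, mul_eq_zero, ne, or_false] at this
    rw [this, zero_smul, add_zero, smul_eq_zero] at hxy
    exact ⟨hxy.resolve_right he, this⟩
  exact one_ne_zero (c.nf_inj li o.ee o.we o.ww ha (map_zero σ) (l := 1)
    (by rw [c.z_zero, mul_one, one_smul, h, c.z_sq o.ee])).2.2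

theorem ζα (o : Ok B e w) {a : F} (ha : σ a = a) : Commute (s.zs e a) (s.xs e w) :=
  s.zs_xs o.ee o.ee o.we o.ww o.ee o.we ha

theorem zα (o : Ok B e w) {a : F} (ha : σ a = a) : Commute (c.z e a) (s.xs e w) :=
  s.z_xs o.ee o.ee o.we o.ww o.ee o.we ha

theorem ζx (o : Ok B e w) {a : F} (ha : σ a = a) : Commute (s.zs e a) (c.x e w) := s.zs_x' o.ee o.we o.ww ha

theorem zx (o : Ok B e w) {a : F} (ha : σ a = a) : Commute (c.z e a) (c.x e w) :=
  c.z_x o.ee o.ee o.we o.ww o.ee o.we ha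

theorem ζz (he : B e e = 0) {a b : F} (ha : σ a = a) (hb : σ b = b) : Commute (s.zs e a) (c.z e b) :=
  s.zs_z he he he ha hb

variable {s}

theorem xα (h : s.Pl) (o : Ok B e w) (o' : Ok B e w') (e0 : B w w' + B w' w = 0) :
    Commute (c.x e w') (s.xs e w) := by
  have := h.x_xs o.ee o.we o.ww o'.we o'.ww
  rwa [e0, s.zs_zero o.ee, mul_one] at this

theorem cenQ {y : G} (he : Iso B e) (h : ∀ u r, B u e = 0 → r + σ r = B u u →
    c.Ψ (ei B e u r) * y * (c.Ψ (ei B e u r))⁻¹ = y) : y ∈ 𝐂[c.I (Qv B e)] := mem_cent.2 fun g hg => by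
  obtain ⟨x, hx, rfl⟩ := (mem_im' (Qv_le e)).1 hg
  obtain ⟨u, r, hu, hr, rfl⟩ := (c.sp.mem_Qv he).1 hx
  exact mul_inv_eq_iff_eq_mul.1 (h u r hu hr)

theorem sq_cen {u z : G} (h : Commute z u) (z2 : z * z = 1) : u * z * (u * z) = u * u := by
  rw [h.mul_mul_mul_comm, z2, mul_one]

theorem tt (y y' : G) : c.t * (y * y') * c.t = c.t * y * c.t * (c.t * y' * c.t) := by
  rw [show c.t * y * c.t * (c.t * y' * c.t) = c.t * y * (c.t * c.t) * y' * c.t by group, c.t2]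
  group

end R2k

end Cfsg.Agent.U52
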