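import Mathlib
import Cfsg.Agent.U52.Cfg3
import Cfsg.Agent.U52.PtB

set_option autoImplicit false
set_option linter.unusedSectionVars false

namespace Cfsg.Agent.U52

open Cfsg Cfsg.Agent.Cl Cfsg.Agent.Loc.Mss Subgroup Module
open Cfsg.Agent.StdB (C1 mem_C1 El)
open scoped commutatorElement

variable {F : Type*} [Field F] [Finite F] [CharP F 2] {σ : F →+* F} {V : Type*} [AddCommGroup V] [Module F V]
  [Finite V] {B : V →ₗ[F] V →ₛₗ[σ] F} {q : ℕ} {G : Type*} [Group G] [Finite G]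

namespace R3

section Abs
omit [Finite G]

theorem mul8 {a1 b1 c1 d1 a2 b2 c2 d2 : G} (h1 : Commute b1 a2) (h2 : Commute c1 a2) (h3 : Commute d1 a2)
    (h4 : Commute c1 b2) (h5 : Commute d1 b2) (h6 : Commute d1 c2) :
    a1 * b1 * c1 * d1 * (a2 * b2 * c2 * d2) = a1 * a2 * (b1 * b2) * (c1 * c2) * (d1 * d2) := by
  simp only [mul_assoc, h1.left_comm, h2.left_comm, h3.left_comm, h4.left_comm, h5.left_comm, h6.left_comm]

theorem conj4 (g a b c d : G) :
    g * (a * b * c * d) * g⁻¹ = g * a * g⁻¹ * (g * b * g⁻¹) * (g * c * g⁻¹) * (g * d * g⁻¹) := by group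

theorem conj_of {g a : G} (h : a * g = g * a) : g * a * g⁻¹ = a := by rw [← h, mul_inv_cancel_right]

theorem inv_of {a : G} (h : a * a = 1) : a⁻¹ = a := inv_eq_of_mul_eq_one_right h

theorem tconj {α β x z d1 d2 d3 : G} (ax : Commute α x) (bz : Commute β z) (a2 : α * α = 1) (x2 : x * x = 1)
    (z2 : z * z = 1) (e1 : α * z * α = z * d1) (e2 : x * β * x = β * d2) (e3 : x * z * x = z * d3)
    (a1 : Commute d1 α) (b1 : Commute d1 β) (z1 : Commute d1 z)
    (a2' : Commute d2 α) (z2' : Commute d2 z) (a3 : Commute d3 α) :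
    β * z * (α * x) * (β * z) * (α * x) = β * α * β * α * (d1 * d2 * d3) := by
  have f1 : ∀ r, z * (α * r) = α * (z * (d1 * r)) := fun r => by
    rw [← mul_assoc z d1, ← e1]; simp only [← mul_assoc, a2, one_mul]
  have f2 : ∀ r, x * (β * r) = β * (d2 * (x * r)) := fun r => by
    rw [← mul_assoc β, ← e2, mul_assoc (x * β), ← mul_assoc x x, x2, one_mul, mul_assoc]
  have f3 : ∀ r, x * (z * r) = z * (d3 * (x * r)) := fun r => by
    rw [← mul_assoc z, ← e3, mul_assoc (x * z), ← mul_assoc x x, x2, one_mul, mul_assoc]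
  have d12 : ∀ r, z * (z * r) = r := fun r => by rw [← mul_assoc, z2, one_mul]
  simp only [mul_assoc]
  rw [f1, f2, f3, ← ax.left_comm, x2, mul_one, b1.left_comm, ← bz.left_comm, z2'.left_comm, z1.left_comm, d12,
    a3.eq, a2'.left_comm, a1.left_comm]

theorem gconj {α β d1 d2 d3 : G} (b1 : Commute d1 β) (a2 : Commute d2 α) (b2 : Commute d2 β)
    (e : α * d1 = d1 * α * d3) (a3 : Commute d3 α) (b3 : Commute d3 β) (d12 : Commute d2 d1)
    (s1 : d1 * d1 = 1) (s2 : d2 * d2 = 1) :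
    β * d1 * (α * d2) * (β * d1) * (α * d2) = β * α * β * α * d3 := by
  have f1 : ∀ r, α * (d1 * r) = d1 * (α * (d3 * r)) := fun r => by rw [← mul_assoc, e]; simp only [mul_assoc]
  have f2 : ∀ r, d1 * (d1 * r) = r := fun r => by rw [← mul_assoc, s1, one_mul]
  simp only [mul_assoc]
  rw [b2.left_comm, d12.left_comm, a2.left_comm, s2, mul_one, b1.symm.left_comm α, f1, f2, b3.left_comm, a3.eq]

end Abs

/-- The trace form. -/
def T (B : V →ₗ[F] V →ₛₗ[σ] F) (p r : V) : F := B p r + B r p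

theorem T_fix (h : Sp B q) (p r : V) : σ (T B p r) = T B p r := by
  rw [T, map_add, h.symm, h.symm, add_comm]

theorem N_fix (h : Sp B q) (p r : V) : σ (B p r * B r p) = B p r * B r p := by
  rw [map_mul, h.symm, h.symm, mul_comm]

theorem TI2 (h : Sp B q) {e v : V} (he : B e e = 0) (hv : B v e = 0) (hvv : B v v = 0) :
    TI B (Submodule.span F {e, v}) := fun x hx y hy => by
  obtain ⟨a, b, rfl⟩ := Submodule.mem_span_pair.1 hx
  obtain ⟨a', b', rfl⟩ := Submodule.mem_span_pair.1 hy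
  simp [he, hv, hvv, h.zero_symm hv]

variable {c : Cfg B q G} {s : c.Pt} {δ : F} {e v : V}

/-- The elements of the plane that pass through `e`. -/
noncomputable def Ph (s : c.Pt) (e v : V) (r r' a b : F) : G :=
  s.xs e (r • v) * c.x e (r' • v) * s.zs e a * c.z e b

theorem Ph_congr {r r' a b r1 r1' a1 b1 : F} (e1 : r = r1) (e2 : r' = r1') (e3 : a = a1) (e4 : b = b1) :
    Ph s e v r r' a b = Ph s e v r1 r1' a1 b1 := by rw [e1, e2, e3, e4]

/-- The standing hypotheses. -/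
structure H (s : c.Pt) (δ : F) (e v : V) : Prop where
  r : s.R2 δ
  he : B e e = 0
  hv : B v e = 0
  hvv : B v v = 0

namespace H

variable (h : H s δ e v)
include h

theorem ve (r : F) : B (r • v) e = 0 := by simp [h.hv]
theorem ev (r : F) : B e (r • v) = 0 := c.sp.zero_symm (h.ve r)
theorem vv (r r' : F) : B (r • v) (r' • v) = 0 := by simp [h.hvv]
theorem ti : TI B (Submodule.span F {e, v}) := TI2 c.sp h.he h.hv h.hvv
omit h in
theorem me : e ∈ Submodule.span F {e, v} := Submodule.subset_span (by simp)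
omit h in
theorem mv (r : F) : r • v ∈ Submodule.span F {e, v} := Submodule.smul_mem _ _ (Submodule.subset_span (by simp))

theorem X_eq (r a b : F) : Ph s e v r 0 a b = s.xs e (r • v) * s.zs e a * c.z e b := by
  rw [Ph, zero_smul, c.x_zero h.he, mul_one]

theorem Y_eq (r a b : F) : Ph s e v 0 r a b = c.x e (r • v) * s.zs e a * c.z e b := by
  rw [Ph, zero_smul, s.xs_zero h.he, one_mul]

theorem Z_eq (a b : F) : Ph s e v 0 0 a b = s.zs e a * c.z e b := by
  rw [h.X_eq, zero_smul, s.xs_zero h.he, one_mul]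

theorem X1 (r a : F) : s.xs e (r • v) * s.zs e a = Ph s e v r 0 a 0 := by rw [h.X_eq, c.z_zero, mul_one]

theorem Y1 (r a : F) : c.x e (r • v) * s.zs e a = Ph s e v 0 r a 0 := by rw [h.Y_eq, c.z_zero, mul_one]

theorem Y2 (r a : F) : c.x e (r • v) * c.z e a = Ph s e v 0 r 0 a := by rw [h.Y_eq, s.zs_zero h.he, mul_one]

theorem Z1 (a : F) : s.zs e a = Ph s e v 0 0 a 0 := by rw [h.Z_eq, c.z_zero, mul_one]

theorem Z2 (a : F) : c.z e a = Ph s e v 0 0 0 a := by rw [h.Z_eq, s.zs_zero h.he, one_mul]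

theorem zero : Ph s e v 0 0 0 0 = 1 := by rw [← h.Z2, c.z_zero]

theorem mul (r r' r1 r1' : F) {a b a1 b1 : F} (ha : σ a = a) (hb : σ b = b) (ha1 : σ a1 = a1) (hb1 : σ b1 = b1) :
    Ph s e v r r' a b * Ph s e v r1 r1' a1 b1 = Ph s e v (r + r1) (r' + r1') (a + a1) (b + b1) := by
  rw [Ph, Ph, Ph, mul8 (s.xs_x h.ti me (mv _) me (mv _)).symm
    (s.zs_xs h.he h.he (h.ve _) (h.vv _ _) h.he (h.ve _) ha) (s.z_xs h.he h.he (h.ve _) (h.vv _ _) h.he (h.ve _) hb)
    (s.zs_x' h.he (h.ve _) (h.vv _ _) ha) (c.z_x h.he h.he (h.ve _) (h.vv _ _) h.he (h.ve _) hb)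
    (s.zs_z h.he h.he h.he ha1 hb).symm, h.r.toPl.xs_add h.he h.hv h.hvv, add_smul r',
    c.x_add h.he (h.ve _) (h.vv _ _) (h.ve _) (h.vv _ _) (h.vv _ _), s.add e h.he _ _ ha ha1, c.z_add h.he hb hb1]

theorem comm (r r' r1 r1' : F) {a b a1 b1 : F} (ha : σ a = a) (hb : σ b = b) (ha1 : σ a1 = a1)
    (hb1 : σ b1 = b1) : Commute (Ph s e v r r' a b) (Ph s e v r1 r1' a1 b1) := by
  rw [Commute, SemiconjBy, h.mul _ _ _ _ ha hb ha1 hb1, h.mul _ _ _ _ ha1 hb1 ha hb]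
  exact Ph_congr (add_comm _ _) (add_comm _ _) (add_comm _ _) (add_comm _ _)

theorem sq (r r' : F) {a b : F} (ha : σ a = a) (hb : σ b = b) : Ph s e v r r' a b * Ph s e v r r' a b = 1 := by
  rw [h.mul _ _ _ _ ha hb ha hb, ← h.zero]
  exact Ph_congr (CharTwo.add_self_eq_zero _) (CharTwo.add_self_eq_zero _) (CharTwo.add_self_eq_zero _)
    (CharTwo.add_self_eq_zero _)

theorem beta (r r' : F) {a b k : F} (ha : σ a = a) (hb : σ b = b) (hk : σ k = k) :
    Commute (Ph s e v r r' a b) (s.zs v k) := by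
  have v1 : ∀ r : F, B (r • v) v = 0 := fun r => by simp [h.hvv]
  have ev := c.sp.zero_symm h.hv
  refine ((Commute.mul_left (Commute.mul_left ?_ ?_) ?_).mul_left ?_)
  · exact (s.zs_xs h.hvv h.he (h.ve _) (h.vv _ _) ev (v1 _) hk).symm
  · exact (s.zs_x h.hvv h.he (h.ve _) (h.vv _ _) h.hv (c.sp.zero_symm (v1 _)) hk).symm
  · exact s.perp e v h.he h.hv h.hvv a k ha hk
  · exact (s.zs_z h.hvv h.hv h.he hk hb).symm

theorem zed (r r' : F) {a b k : F} (ha : σ a = a) (hb : σ b = b) (hk : σ k = k) :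
    Commute (Ph s e v r r' a b) (c.z v k) := by
  have v1 : ∀ r : F, B (r • v) v = 0 := fun r => by simp [h.hvv]
  have ev := c.sp.zero_symm h.hv
  refine ((Commute.mul_left (Commute.mul_left ?_ ?_) ?_).mul_left ?_)
  · exact (s.z_xs h.hvv h.he (h.ve _) (h.vv _ _) ev (v1 _) hk).symm
  · exact (c.z_x h.hvv h.he (h.ve _) (h.vv _ _) ev (v1 _) hk).symm
  · exact s.zs_z h.he ev h.hvv ha hk
  · exact c.z_perp h.he h.hv h.hvv hb hk

theorem alpha {w : V} (hw : B w e = 0) (hww : B w w = 0) (r r' : F) {a b : F} (ha : σ a = a) (hb : σ b = b) :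
    s.xs e w * Ph s e v r r' a b * (s.xs e w)⁻¹ =
      Ph s e v r r' (a + T B w (r • v) + T B w (r' • v)) (b + δ * T B w (r • v)) := by
  have c1 : ∀ {k}, σ k = k → s.zs e k * s.xs e w = s.xs e w * s.zs e k := fun hk =>
    s.zs_xs h.he h.he hw hww h.he hw hk
  have c2 : ∀ {k}, σ k = k → c.z e k * s.xs e w = s.xs e w * c.z e k := fun hk =>
    s.z_xs h.he h.he hw hww h.he hw hk
  have t1 := T_fix c.sp w (r • v)
  have t2 := T_fix c.sp w (r' • v)
  have t3 : σ (δ * T B w (r • v)) = δ * T B w (r • v) := by rw [map_mul, t1, h.r.hδ]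
  have e1 : s.xs e w * s.xs e (r • v) * (s.xs e w)⁻¹ = Ph s e v r 0 (T B w (r • v)) (δ * T B w (r • v)) := by
    rw [h.r.r2 e w _ h.he hw hww (h.ve _) (h.vv _ _), h.X_eq, mul_inv_eq_iff_eq_mul, mul_assoc _ (c.z _ _), c2 t3,
      ← mul_assoc, mul_assoc _ (s.zs e (T B w (r • v))), c1 t1, ← mul_assoc]
    rfl
  have e2 : s.xs e w * c.x e (r' • v) * (s.xs e w)⁻¹ = Ph s e v 0 r' (T B w (r' • v)) 0 := by
    have q2 := s.xs_sq h.he hw hww
    rw [inv_of q2, mul_assoc, h.r.toPl.x_xs h.he hw hww (h.ve _) (h.vv _ _), ← mul_assoc, ← mul_assoc, q2, one_mul,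
      h.Y1]
    rfl
  rw [Ph, conj4, e1, e2, conj_of (c1 ha), conj_of (c2 hb), h.Z1, h.Z2, h.mul _ _ _ _ t1 t3 t2 (map_zero σ),
    h.mul _ _ _ _ (by rw [map_add, t1, t2]) (by rw [add_zero, t3]) ha (map_zero σ),
    h.mul _ _ _ _ (by rw [map_add, map_add, t1, t2, ha]) (by rw [add_zero, add_zero, t3]) (map_zero σ) hb]
  exact Ph_congr (by ring) (by ring) (by ring) (by ring)

theorem eich {u : V} (hu : B u e = 0) {k : F} (hk : k + σ k = B u u) (r r' : F) {a b : F} (ha : σ a = a)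
    (hb : σ b = b) : c.Ψ (ei B e u k) * Ph s e v r r' a b * (c.Ψ (ei B e u k))⁻¹ =
      Ph s e v r r' (a + T B (r • v) u) (b + T B (r' • v) u) := by
  have hg := c.sp.ei_mem h.he hu hk
  have ge := c.sp.ei_self h.he hu k
  have t1 := T_fix c.sp (r • v) u
  have t2 := T_fix c.sp (r' • v) u
  have e2 : c.Ψ (ei B e u k) * c.x e (r' • v) * (c.Ψ (ei B e u k))⁻¹ = Ph s e v 0 r' 0 (T B (r' • v) u) := by
    rw [c.x_eqv hg h.he (h.ve _) (h.vv _ _), ge, c.sp.ei_perp h.he hu k (h.ve _),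
      c.x_add_smul h.he (h.ve _) (h.vv _ _), c.sp.symm, h.Y2]
    rfl
  rw [Ph, conj4, h.r.toPl.Q_xs h.he (h.ve _) (h.vv _ _) hu hk, e2, conj_of (s.zs_Ψ h.he ha hg ge),
    c.z_eqv hg h.he hb, ge, h.X1, h.Z1, h.Z2]
  change Ph s e v r 0 (T B (r • v) u) 0 * _ * _ * _ = _
  rw [h.mul _ _ _ _ t1 (map_zero σ) (map_zero σ) t2,
    h.mul _ _ _ _ (by rw [add_zero, t1]) (by rw [zero_add, t2]) ha (map_zero σ),
    h.mul _ _ _ _ (by rw [add_zero, map_add, t1, ha]) (by rw [add_zero, zero_add, t2]) (map_zero σ) hb]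
  exact Ph_congr (by ring) (by ring) (by ring) (by ring)

theorem eich_beta {u : V} (hu : B u e = 0) {k : F} (hk : k + σ k = B u u) {a : F} (ha : σ a = a) :
    c.Ψ (ei B e u k) * s.zs v a * (c.Ψ (ei B e u k))⁻¹ =
      s.zs v a * Ph s e v (a * B u v) 0 (a * (B u v * B v u)) 0 := by
  have ev := c.sp.zero_symm h.hv
  have n : σ (a * (B u v * B v u)) = a * (B u v * B v u) := by rw [map_mul, ha, N_fix c.sp]
  rw [s.eqv _ (c.sp.ei_mem h.he hu hk) v h.hvv a ha, c.sp.ei_perp h.he hu k h.hv,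
    h.r.plane v _ h.hvv (by simp [ev]) (by simp [h.he]) a ha, s.sm e h.he _ _ ha,
    s.xs_symm (h.vv _ _) (by simp [ev]) (by simp [h.he]), h.r.toPl.xs_sm h.he (h.ve _) (h.vv _ _), smul_smul,
    c.sp.symm, mul_comm (B v u), mul_comm (B u v) a, mul_assoc,
    s.zs_xs h.he h.he (h.ve _) (h.vv _ _) h.he (h.ve _) n, h.X1]

theorem tc (r r' : F) {a b : F} (ha : σ a = a) (hb : σ b = b) :
    c.t * Ph s e v r r' a b * c.t⁻¹ = Ph s e v r (r + r') a (a + b) := by
  have e1 : c.t * s.xs e (r • v) * c.t⁻¹ = Ph s e v r r 0 0 := by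
    rw [c.t_inv, s.t_xs h.he (h.ve _) (h.vv _ _), Ph, s.zs_zero h.he, c.z_zero, mul_one, mul_one]
  have e2 : c.t * c.x e (r' • v) * c.t⁻¹ = Ph s e v 0 r' 0 0 := by
    rw [conj_of (c.t_x _ _).symm, ← h.Y2, c.z_zero, mul_one]
  have e3 : c.t * s.zs e a * c.t⁻¹ = Ph s e v 0 0 a a := by rw [c.t_inv, s.tz e h.he a ha, h.Z_eq]
  rw [Ph, conj4, e1, e2, e3, conj_of (c.t_z _ _).symm, h.Z2,
    h.mul _ _ _ _ (map_zero σ) (map_zero σ) (map_zero σ) (map_zero σ),
    h.mul _ _ _ _ (by simp) (by simp) ha ha, h.mul _ _ _ _ (by simp [ha]) (by simp [ha]) (map_zero σ) hb]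
  exact Ph_congr (by ring) (by ring) (by ring) (by ring)

theorem tor {g : SG F V} (hg : g ∈ SU B) {ξ : F} (hξ : ξ * σ ξ = 1) (ge : g • e = σ ξ • e) (gv : g • v = ξ • v)
    (r r' : F) {a b : F} (ha : σ a = a) (hb : σ b = b) :
    c.Ψ g * Ph s e v r r' a b * (c.Ψ g)⁻¹ = Ph s e v (ξ * ξ * r) (ξ * ξ * r') a b := by
  have gr : ∀ r : F, g • r • v = (ξ * r) • v := fun r => by rw [smul_sm_of (fld_SU hg), gv, smul_smul, mul_comm]
  have n : σ ξ * σ (σ ξ) = 1 := by rw [← map_mul, hξ, map_one]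
  rw [Ph, conj4, s.xs_eqv hg h.he (h.ve _) (h.vv _ _), c.x_eqv hg h.he (h.ve _) (h.vv _ _),
    s.eqv g hg e h.he a ha, c.z_eqv hg h.he hb, ge, gr, gr, h.r.toPl.xs_sm h.he (h.ve _) (h.vv _ _),
    c.x_sm h.he (h.ve _), s.sm e h.he _ _ ha, c.z_sm, n, mul_one, mul_one, c.sp.ss, smul_smul, smul_smul,
    ← mul_assoc, ← mul_assoc, Ph]

end H

/-- The relation with an error term. -/
def Q (s : c.Pt) (δ : F) (e v : V) (a : F) (w : V) (μ : F) : Prop :=
  s.zs v a * s.xs e w * s.zs v a * s.xs e w = Ph s e v (a * B w v) (δ * (a * B w v))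
    ((1 + δ) * (a * (B w v * B v w))) (δ * (a * (B w v * B v w)) + μ)

namespace H

variable (h : H s δ e v) {a : F} (ha : σ a = a)
include h ha

theorem T_zero (w : V) {k : F} (hk : σ k = k) : T B w ((k * (a * B w v)) • v) = 0 := by
  simp only [T, map_smulₛₗ, LinearMap.smul_apply, smul_eq_mul, map_mul, hk, ha, c.sp.symm, RingHom.id_apply]
  linear_combination (k * a * B w v * B v w) * CharTwo.two_eq_zero (R := F)

theorem alpha' {w : V} (hw : B w e = 0) (hww : B w w = 0) {k k' a' b : F} (hk : σ k = k) (hk' : σ k' = k')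
    (ha' : σ a' = a') (hb : σ b = b) :
    Commute (Ph s e v (k * (a * B w v)) (k' * (a * B w v)) a' b) (s.xs e w) := by
  have := h.alpha hw hww (k * (a * B w v)) (k' * (a * B w v)) ha' hb
  rw [h.T_zero ha w hk, h.T_zero ha w hk', mul_zero, add_zero, add_zero, add_zero, mul_inv_eq_iff_eq_mul] at this
  exact this.symm

theorem Q_zero {w : V} (hw : B w e = 0) (hww : B w w = 0) (h0 : a * B w v = 0) : Q s δ e v a w 0 := by
  have h1 : a * (B w v * B v w) = 0 := by rw [← mul_assoc, h0, zero_mul]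
  rw [Q, h0, h1, mul_zero, mul_zero, add_zero, h.zero]
  rcases mul_eq_zero.1 h0 with rfl | h0
  · rw [s.zs_zero h.hvv, one_mul, mul_one, s.xs_sq h.he hw hww]
  · rw [s.zs_xs h.hvv h.he hw hww (c.sp.zero_symm h.hv) h0 ha, mul_assoc (s.xs e w), s.zs_sq h.hvv ha, mul_one,
      s.xs_sq h.he hw hww]

theorem Q_ex (ht : c.Tight) (e0 : e ≠ 0) {w : V} (hw : B w e = 0) (hww : B w w = 0) :
    ∃ μ, σ μ = μ ∧ Q s δ e v a w μ := by
  by_cases h0 : a * B w v = 0
  · exact ⟨0, map_zero σ, h.Q_zero ha hw hww h0⟩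
  have hδ := h.r.hδ
  have o := map_one σ
  have z0 := map_zero σ
  have hn : σ (a * (B w v * B v w)) = a * (B w v * B v w) := by rw [map_mul, ha, N_fix c.sp]
  generalize hN : a * (B w v * B v w) = n at hn
  have hdn : σ (δ * n) = δ * n := by rw [map_mul, hδ, hn]
  have h1n : σ ((1 + δ) * n) = (1 + δ) * n := by rw [map_mul, map_add, o, hδ, hn]
  have a2 := s.xs_sq h.he hw hww
  have b2 := s.zs_sq h.hvv ha
  have ti := TI2 c.sp h.he hw hww
  have mw : w ∈ Submodule.span F {e, w} := Submodule.subset_span (by simp)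
  have ax := s.xs_x ti me mw me mw
  have e1 : s.xs e w * c.z v a * s.xs e w = c.z v a * Ph s e v (1 * (a * B w v)) (0 * (a * B w v)) n (δ * n) := by
    rw [h.r.r3z e w v h.he hw hww h.hv h.hvv a ha, one_mul, zero_mul, h.X_eq, hN]
    simp only [mul_assoc]
  have e2 : c.x e w * s.zs v a * c.x e w = s.zs v a * Ph s e v (1 * (a * B w v)) (0 * (a * B w v)) n 0 := by
    rw [h.r.toPl.x_zs h.he hw hww h.hv h.hvv ha, one_mul, zero_mul, ← h.X1, hN, mul_assoc]
  have e3 : c.x e w * c.z v a * c.x e w = c.z v a * Ph s e v (0 * (a * B w v)) (1 * (a * B w v)) 0 n := by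
    have ev := c.sp.zero_symm h.hv
    have := c.z_eqv (c.sp.xx_mem h.he hw hww) h.hvv ha
    rw [c.sp.xx_smul h.he hw, h.hv, zero_smul, add_zero, c.z_plane h.hvv (by simp [ev]) (by simp [h.he]) ha, c.z_sm,
      c.x_symm (h.vv _ _) (by simp [ev]) (by simp [h.he]), c.x_sm h.he (h.ve _), smul_smul, c.sp.symm,
      mul_comm (B v w), mul_comm (B w v) a, hN, mul_assoc (c.z v a),
      c.z_x h.he h.he (h.ve _) (h.vv _ _) h.he (h.ve _) hn, h.Y2] at this
    rw [one_mul, zero_mul, ← this]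
    exact congrArg _ (inv_of (c.x_sq h.he hw hww)).symm
  have t1 := tconj ax (s.zs_z h.hvv h.hvv h.hvv ha ha) a2 (c.x_sq h.he hw hww) (c.z_sq h.hvv a) e1 e2 e3
    (h.alpha' ha hw hww o z0 hn hdn) (h.beta _ _ hn hdn ha) (h.zed _ _ hn hdn ha)
    (h.alpha' ha hw hww o z0 hn z0) (h.zed _ _ hn z0 ha)
    (h.alpha' ha hw hww z0 o z0 hn)
  rw [← s.tz v h.hvv a ha, ← s.t_xs h.he hw hww, h.mul _ _ _ _ hn hdn hn z0,
    h.mul _ _ _ _ (by rw [map_add, hn]) (by rw [add_zero, hdn]) z0 hn] at t1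
  set y := s.zs v a * s.xs e w * s.zs v a * s.xs e w with hy
  set P := Ph s e v (1 * (a * B w v)) (δ * (a * B w v)) 0 0 with hP
  have t2 : c.t * (y * P) * c.t = y * P * c.z e ((1 + δ) * n) := by
    have t3 := h.tc (1 * (a * B w v)) (δ * (a * B w v)) z0 z0
    rw [c.t_inv] at t3
    have t4 : c.t * (y * P) * c.t = c.t * s.zs v a * c.t * (c.t * s.xs e w * c.t) * (c.t * s.zs v a * c.t) *
        (c.t * s.xs e w * c.t) * (c.t * P * c.t) := by
      have : ∀ r, c.t * (c.t * r) = r := fun r => by rw [← mul_assoc, c.t2, one_mul]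
      simp only [hy, mul_assoc, this]
    rw [t4, t1, t3, mul_assoc y, mul_assoc y, hP, h.Z2, h.mul _ _ _ _ z0 z0 z0 h1n,
      h.mul _ _ _ _ (by simp [hn]) (by simp [hn, hδ]) z0 (by simp)]
    congr 1
    have t := CharTwo.two_eq_zero (R := F)
    exact Ph_congr (by linear_combination (a * B w v) * t) (by linear_combination (a * B w v) * t)
      (by linear_combination n * t) (by ring)
  have cq : y * P ∈ 𝐂[c.I (Qv B e)] := (mem_cent_im (Qv_le e)).2 fun g hg => by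
    obtain ⟨u, k, hu, hk, rfl⟩ := (c.sp.mem_Qv ⟨e0, h.he⟩).1 hg
    have n1 : σ (a * (B u v * B v u)) = a * (B u v * B v u) := by rw [map_mul, ha, N_fix c.sp]
    have n2 := T_fix c.sp w u
    have n3 := T_fix c.sp w ((a * B u v) • v)
    have n4 : σ (δ * T B w ((a * B u v) • v)) = δ * T B w ((a * B u v) • v) := by rw [map_mul, hδ, n3]
    have f1 := h.alpha hw hww (a * B u v) 0 n1 z0
    rw [mul_inv_eq_iff_eq_mul] at f1
    have ca : ∀ {a' b : F}, σ a' = a' → σ b = b → Commute (Ph s e v 0 0 a' b) (s.xs e w) := fun ha' hb => by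
      simpa using h.alpha' ha hw hww z0 z0 ha' hb
    have g1 := gconj (α := s.xs e w) (h.beta (a * B u v) 0 n1 z0 ha) (ca n2 z0) (h.beta 0 0 n2 z0 ha)
      (d3 := Ph s e v 0 0 _ _) (by
        rw [f1, mul_assoc _ (s.xs e w), ← (ca n3 n4).eq, ← mul_assoc _ _ (s.xs e w), h.mul _ _ _ _ n1 z0 n3 n4]
        congr 1
        exact Ph_congr (by ring) (by ring) (by simp [T]) (by ring)) (ca n3 n4) (h.beta 0 0 n3 n4 ha)
      (h.comm _ _ _ _ n2 z0 n1 z0) (h.sq _ _ n1 z0) (h.sq _ _ n2 z0)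
    rw [eq_comm, ← mul_inv_eq_iff_eq_mul, ← conj_mul, hy, conj4, h.eich_beta hu hk ha,
      h.r.toPl.Q_xs h.he hw hww hu hk, h.Z1]
    change _ * (_ * Ph s e v 0 0 (T B w u) 0) * _ * (_ * Ph s e v 0 0 (T B w u) 0) * _ = _
    rw [g1, hP, h.eich hu hk _ _ z0 z0, mul_assoc _ (Ph _ _ _ _ _ _ _),
      h.mul _ _ _ _ n3 n4 (by rw [zero_add, T_fix c.sp]) (by rw [zero_add, T_fix c.sp])]
    congr 1
    have t := CharTwo.two_eq_zero (R := F)
    refine Ph_congr (by ring) (by ring) ?_ ?_ <;>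
      simp only [T, map_smulₛₗ, LinearMap.smul_apply, smul_eq_mul, map_mul, ha, hδ, o, c.sp.symm, RingHom.id_apply]
    · linear_combination (a * B v u * B w v + a * B u v * B v w) * t
    · linear_combination δ * (a * B v u * B w v + a * B u v * B v w) * t
  obtain ⟨b, hb, e4 | e4⟩ := s.loc ht ⟨e0, h.he⟩ cq h1n t2
  · refine ⟨δ * n + b, by rw [map_add, hdn, hb], ?_⟩
    rw [Q, hN, ← hy, eq_mul_inv_of_mul_eq e4, inv_of (h.sq _ _ z0 z0), ← h.Z_eq, h.mul _ _ _ _ h1n hb z0 z0]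
    have t := CharTwo.two_eq_zero (R := F)
    exact Ph_congr (by ring) (by ring) (by ring) (by linear_combination -(δ * n) * t)
  · exfalso
    rw [← h.Z_eq] at e4
    have ca : Commute (Ph s e v 0 0 ((1 + δ) * n) b) (s.xs e w) := by simpa using h.alpha' ha hw hww z0 z0 h1n hb
    have cb := h.beta 0 0 h1n hb ha
    have pa : Commute P (s.xs e w) := h.alpha' ha hw hww o hδ z0 z0
    have pb : Commute P (s.zs v a) := h.beta _ _ z0 z0 ha
    have k1 : s.xs e w * (y * P) * s.xs e w = s.zs v a * (y * P) * s.zs v a := by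
      rw [mul_assoc, mul_assoc y, pa.eq, mul_assoc (s.zs v a), mul_assoc y P, pb.eq, hy]
      simp only [← mul_assoc, b2, one_mul]
      rw [mul_assoc _ (s.xs e w) (s.xs e w), a2, mul_one]
    rw [e4, ← mul_assoc, ← mul_assoc, ← ca.eq, ← cb.eq] at k1
    simp only [mul_assoc, mul_left_cancel_iff] at k1
    have k2 := congrArg (c.t * ·) k1
    simp only [← mul_assoc] at k2
    rw [s.t_xs h.he hw hww, s.tz v h.hvv a ha, ax, mul_assoc, a2, mul_one, s.zs_z h.hvv h.hvv h.hvv ha ha,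
      mul_assoc, b2, mul_one] at k2
    have k3 := c.Ψ_inj e0 (mem_M1.2 ⟨c.sp.xx_mem h.he hw hww, c.sp.ei_self h.he hw 0⟩)
      (mem_M1.2 ⟨c.sp.tv_mem h.hvv ha, tv_perp a (c.sp.zero_symm h.hv)⟩) k2
    have k4 := congrArg (· • w) k3
    simp only [c.sp.xx_smul h.he hw, tv_smul h.hvv, hww, hw, zero_smul, add_zero, left_eq_add, smul_eq_zero, h0,
      false_or] at k4
    exact h0 (by simp [k4])

theorem Q_add {w : V} (hw : B w e = 0) (hww : B w w = 0) {b b' μ μ' : F} (hμ : σ μ = μ) (hμ' : σ μ' = μ')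
    (h1 : Q s δ e v a (b • w) μ) (h2 : Q s δ e v a (b' • w) μ') : Q s δ e v a ((b + b') • w) (μ + μ') := by
  have hδ := h.r.hδ
  have fx : ∀ (u : V) {k μ : F}, σ k = k → σ μ = μ →
      σ (k * (a * (B u v * B v u)) + μ) = k * (a * (B u v * B v u)) + μ := fun u k μ hk hμ => by
    rw [map_add, map_mul, map_mul, hk, ha, hμ, N_fix c.sp]
  have fx1 : ∀ u : V, σ ((1 + δ) * (a * (B u v * B v u))) = (1 + δ) * (a * (B u v * B v u)) := fun u => by
    simpa only [add_zero] using fx u (k := 1 + δ) (by rw [map_add, map_one, hδ]) (map_zero σ)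
  have w1 : ∀ r : F, B (r • w) e = 0 := fun r => by simp [hw]
  have w2 : ∀ r : F, B (r • w) (r • w) = 0 := fun r => by simp [hww]
  have a2 := s.xs_sq h.he (w1 b) (w2 b)
  have b2 := s.zs_sq h.hvv ha
  have cm : s.xs e (b • w) * s.xs e (b' • w) = s.xs e (b' • w) * s.xs e (b • w) := by
    rw [← h.r.toPl.xs_add h.he hw hww, ← h.r.toPl.xs_add h.he hw hww, add_comm]
  have key : ∀ {α α' β : G}, α * α = 1 → β * β = 1 → α * α' = α' * α →
      β * (α * α') * β * (α * α') = β * α * β * α * (α * (β * α' * β * α') * α⁻¹) := fun {α α' β} q1 q2 q3 => by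
    have f1 : ∀ r, α * (α * r) = r := fun r => by rw [← mul_assoc, q1, one_mul]
    have f2 : ∀ r, β * (β * r) = r := fun r => by rw [← mul_assoc, q2, one_mul]
    simp only [inv_of q1, mul_assoc, f1, f2, ← q3]
  rw [Q] at h1 h2 ⊢
  rw [h.r.toPl.xs_add h.he hw hww, key a2 b2 cm, h1, h2, h.alpha (w1 b) (w2 b) _ _ (fx1 _) (fx _ hδ hμ'),
    h.mul _ _ _ _ (fx1 _) (fx _ hδ hμ) (by rw [map_add, map_add, fx1, T_fix c.sp, T_fix c.sp])
      (by rw [map_add, fx _ hδ hμ', map_mul, hδ, T_fix c.sp])]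
  refine Ph_congr ?_ ?_ ?_ ?_ <;>
    simp only [T, map_smulₛₗ, LinearMap.smul_apply, smul_eq_mul, map_mul, map_add, ha, hδ, c.sp.symm,
      RingHom.id_apply, add_smul, LinearMap.add_apply] <;> ring

theorem Q_tor {w : V} (hw : B w e = 0) (hww : B w w = 0) {g : SG F V} (hg : g ∈ SU B) {ξ : F} (hξ : ξ * σ ξ = 1)
    (ge : g • e = σ ξ • e) (gv : g • v = ξ • v) (gw : g • w = ξ • w) {μ : F} (hμ : σ μ = μ)
    (h1 : Q s δ e v a w μ) : Q s δ e v a ((ξ * ξ) • w) μ := by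
  have hδ := h.r.hδ
  have hn : σ (a * (B w v * B v w)) = a * (B w v * B v w) := by rw [map_mul, ha, N_fix c.sp]
  have := congrArg (fun x => c.Ψ g * x * (c.Ψ g)⁻¹) h1
  beta_reduce at this
  rw [conj4, s.eqv g hg v h.hvv a ha, s.xs_eqv hg h.he hw hww, ge, gv, gw, s.sm v h.hvv _ _ ha, hξ, mul_one,
    h.r.toPl.xs_sm h.he (by simp [hw]) (by simp [hww]), c.sp.ss, smul_smul,
    h.tor hg hξ ge gv _ _ (by rw [map_mul, map_add, map_one, hδ, hn]) (by rw [map_add, map_mul, hδ, hn, hμ])] at this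
  rw [Q, this]
  refine Ph_congr ?_ ?_ ?_ ?_ <;>
    simp only [map_smulₛₗ, LinearMap.smul_apply, smul_eq_mul, map_mul, RingHom.id_apply]
  · ring
  · ring
  · linear_combination (-(1 + δ) * a * B w v * B v w * (ξ * σ ξ + 1)) * hξ
  · linear_combination (-δ * a * B w v * B v w * (ξ * σ ξ + 1)) * hξ

theorem Q_main (ht : c.Tight) (e0 : e ≠ 0) {w : V} (hw : B w e = 0) (hww : B w w = 0) : Q s δ e v a w 0 := by
  by_cases h0 : B w v = 0
  · exact h.Q_zero ha hw hww (by rw [h0, mul_zero])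
  have h0' : σ (B w v)⁻¹ ≠ 0 := by simpa using h0
  have p : UHypPair B w (σ (B w v)⁻¹ • v) := c.sp.herm.uHypPair hww (h.vv _ _) (by simp [c.sp.ss, h0])
  obtain ⟨f, fr⟩ := c.sp.exists_frame' ⟨e0, h.he⟩ p (c.sp.zero_symm hw) (h.ev _)
  obtain ⟨ξ, hξ, hξ'⟩ := c.sp.exists_zeta'
  have x0 : ξ ≠ 0 := left_ne_zero_of_mul_eq_one hξ
  have x1 : σ ξ ≠ 0 := right_ne_zero_of_mul_eq_one hξ
  have x2 : (σ ξ)⁻¹ = ξ := inv_eq_of_mul_eq_one_left hξ
  have x3 : 1 + ξ * ξ ≠ 0 := fun e' => hξ' (by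
    linear_combination σ ξ * e' - ξ * hξ)
  have hg := c.sp.hy_mul_mem fr.p1 p x1 x0 (by rw [mul_comm, hξ, map_one])
  have fv : B v f = 0 := by
    have := c.sp.zero_symm fr.ff
    simpa [h0] using this
  have ge : (hy B e f (σ ξ) * hy B w (σ (B w v)⁻¹ • v) ξ) • e = σ ξ • e := by
    rw [mul_smul, hy_perp p x0 fr.ee fr.ef, hy_left fr.p1 x1]
  have gw : (hy B e f (σ ξ) * hy B w (σ (B w v)⁻¹ • v) ξ) • w = ξ • w := by
    rw [mul_smul, hy_left p x0, hy_perp fr.p1 x1 (by simp [hw]) (by simp [c.sp.zero_symm fr.fe])]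
  have gv : (hy B e f (σ ξ) * hy B w (σ (B w v)⁻¹ • v) ξ) • v = ξ • v := by
    apply smul_right_injective V h0'
    simp only
    rw [← smul_sm_of (fld_SU hg), mul_smul, hy_right p x0, x2,
      hy_perp fr.p1 x1 (by simp [h.hv]) (by simp [fv]), smul_comm]
  have w1 : ∀ r : F, B (r • w) e = 0 := fun r => by simp [hw]
  have w2 : ∀ r : F, B (r • w) (r • w) = 0 := fun r => by simp [hww]
  obtain ⟨μ, hμ, h1⟩ := h.Q_ex ha ht e0 (w1 (1 + ξ * ξ)⁻¹) (w2 _)
  have h2 := h.Q_tor ha (w1 _) (w2 _) hg hξ ge gv (by rw [smul_sm_of (fld_SU hg), gw, smul_comm]) hμ h1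
  rw [smul_smul] at h2
  have h3 := h.Q_add ha hw hww hμ hμ h1 h2
  rwa [CharTwo.add_self_eq_zero, ← one_add_mul, mul_inv_cancel₀ x3, one_smul] at h3

end H

end R3

theorem Cfg.Pt.R2.rel {c : Cfg B q G} {s : c.Pt} {δ : F} (h : s.R2 δ) (ht : c.Tight) : s.Rel δ := by
  refine ⟨h, fun e w v he hw hww hv hvv a ha => ?_⟩
  have hδ := h.hδ
  have hn : σ (a * (B w v * B v w)) = a * (B w v * B v w) := by rw [map_mul, ha, R3.N_fix c.sp]
  by_cases e0 : e = 0
  · subst e0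
    have k : ∀ u : V, B u u = 0 → s.xs 0 u = 1 := fun u hu => by
      rw [s.xs_symm he (by simp) hu, s.xs_zero hu]
    rw [k w hww, k _ (by simp [hvv]), c.x_symm he (by simp) (by simp [hvv]), c.x_zero (by simp [hvv]),
      s.zs_zero_left (by rw [map_mul, map_add, map_one, hδ, hn]), c.z_zero_left]
    simp
  have h1 := R3.H.Q_main ⟨h, he, hv, hvv⟩ ha ht e0 hw hww
  rw [R3.Q, add_zero, R3.Ph] at h1
  have h2 := congrArg (s.zs v a * ·) h1
  simp only [← mul_assoc, s.zs_sq hvv ha, one_mul] at h2 ⊢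
  exact h2

end Cfsg.Agent.U52
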