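import Mathlib
import Cfsg.Agent.U52.Cfg3
import Cfsg.Agent.U52.CB

set_option autoImplicit false
set_option linter.unusedSectionVars false

namespace Cfsg.Agent.U52

open Cfsg Cfsg.Agent.Cl Cfsg.Agent.Loc.Mss Subgroup Module
open Cfsg.Agent.StdB (C1 mem_C1 El)
open scoped commutatorElement

variable {F : Type*} [Field F] [Finite F] [CharP F 2] {σ : F →+* F} {V : Type*} [AddCommGroup V] [Module F V]
  [Finite V] {B : V →ₗ[F] V →ₛₗ[σ] F} {q : ℕ} {G : Type*} [Group G] [Finite G]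

namespace Zd2

/-- The elements that move `t`. -/
structure Mo (c : Cfg B q G) (v : V) (y : G) : Prop where
  cen : y ∈ 𝐂[c.I (M1 B v)]
  mv : y * c.t * y⁻¹ = c.t * c.z v 1

variable {c : Cfg B q G}

theorem fix2 (c : Cfg B q G) (hq : q = 2) {a : F} (ha : σ a = a) : a = 0 ∨ a = 1 := by
  rw [c.sp.uf.pow, hq, pow_two] at ha
  rcases eq_or_ne a 0 with h | h
  · exact .inl h
  · exact .inr (mul_left_cancel₀ h (ha.trans (mul_one a).symm))

theorem nm1 (c : Cfg B q G) (hq : q = 2) {l : F} (hl : l ≠ 0) : l * σ l = 1 :=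
  (fix2 c hq (a := l * σ l) (by rw [map_mul, c.sp.ss, mul_comm])).resolve_left
    (mul_ne_zero hl ((map_ne_zero σ).2 hl))

theorem zsm (c : Cfg B q G) (hq : q = 2) {l : F} (hl : l ≠ 0) (v : V) (a : F) : c.z (l • v) a = c.z v a := by
  rw [c.z_sm, nm1 c hq hl, mul_one]

theorem z_memM {v w : V} (hw : B w w = 0) (h : B v w = 0) {a : F} (ha : σ a = a) : c.z w a ∈ c.I (M1 B v) :=
  ev_mem_im (mem_M1.2 ⟨c.sp.tv_mem hw ha, tv_perp a h⟩)

theorem t_cen (H : Subgroup (SG F V)) : c.t ∈ 𝐂[c.I H] := mem_cent.2 fun _ ha => c.comm_t (im_le_range H ha)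

theorem z_ne {v : V} (hv : Iso B v) : c.z v 1 ≠ 1 := fun e => one_ne_zero ((c.z_eq_one hv (map_one σ)).1 e)

theorem Mo.cz {v w : V} {y : G} (h : Mo c v y) (hw : B w w = 0) (e : B v w = 0) {a : F} (ha : σ a = a) :
    c.z w a * y = y * c.z w a := mem_cent.1 h.cen _ (z_memM hw e ha)

theorem Mo.nt {v : V} {y : G} (h : Mo c v y) (hv : Iso B v) : y * c.t ≠ c.t * y := fun e => by
  have := h.mv
  rw [e, mul_inv_cancel_right] at this
  exact z_ne hv (left_eq_mul.1 this)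

theorem Mo.mv' {v : V} {y : G} (h : Mo c v y) : y * c.t = c.t * c.z v 1 * y := by rw [← h.mv]; group

theorem Mo.sm (hq : q = 2) {v : V} {y : G} {l : F} (hl : l ≠ 0) : Mo c (l • v) y ↔ Mo c v y :=
  ⟨fun h => ⟨c.sp.M1_sm v hl ▸ h.cen, zsm c hq hl v 1 ▸ h.mv⟩,
    fun h => ⟨(c.sp.M1_sm v hl).symm ▸ h.cen, (zsm c hq hl v 1).symm ▸ h.mv⟩⟩

theorem Mo.cj {v : V} {y : G} (h : Mo c v y) (hv : Iso B v) {g : SG F V} (hg : g ∈ SU B) :
    Mo c (g • v) (c.Ψ g * y * (c.Ψ g)⁻¹) := by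
  have h1 : y ∈ c.Yt v := (c.mem_Yt hv).2 ⟨h.cen, 1, map_one σ, h.mv⟩
  have h2 := conj_mem_cj (g := c.Ψ g) h1
  rw [Cfg.Yt, c.cj_PX (c.L_le_C (c.Ψ_mem g)) (SU_le_Gam hg) (act_ev hg), mapW_span] at h2
  refine ⟨((c.mem_Yt (hv.smul (SU_le_Gam hg))).1 h2).1, ?_⟩
  rw [← c.z_eqv hg hv.iso (map_one σ)]
  have e := c.t_Ψ g
  calc _ = c.Ψ g * (y * ((c.Ψ g)⁻¹ * c.t * c.Ψ g) * y⁻¹) * (c.Ψ g)⁻¹ := by group
    _ = c.Ψ g * (c.t * c.z v 1) * (c.Ψ g)⁻¹ := by rw [mul_assoc _ c.t, e, inv_mul_cancel_left, h.mv]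
    _ = _ := by rw [← mul_assoc, ← e]; group

theorem four (hq : q = 2) (ht : c.Tight) {v : V} (hv : Iso B v) {y : G} (h : y ∈ 𝐂[c.I (M1 B v)])
    (e : y * c.t = c.t * y) : y = 1 ∨ y = c.z v 1 ∨ y = c.t ∨ y = c.t * c.z v 1 := by
  obtain ⟨a, ha, h1⟩ := ht.cenQ hv (mem_C1.2 e) (centralizer_le (im_mono (Qv_le_M1 v)) h)
  rcases fix2 c hq ha with rfl | rfl
  · rw [c.z_zero, mul_one] at h1; tauto
  · tauto

theorem Mo.sq (hq : q = 2) (ht : c.Tight) {v : V} (hv : Iso B v) {y : G} (h : Mo c v y) :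
    y * y = 1 ∨ y * y = c.z v 1 := by
  have hz := h.cz hv.iso hv.iso (map_one σ)
  have z2 := c.z_sq hv.iso (1 : F)
  have tz := c.t_z v (1 : F)
  have e : y * y * c.t = c.t * (y * y) := by
    calc y * y * c.t = y * (y * c.t) := mul_assoc ..
      _ = y * c.t * (c.z v 1 * y) := by
        rw [show y * (y * c.t) = y * (c.t * c.z v 1 * y) from congrArg (y * ·) h.mv']
        simp only [mul_assoc]
      _ = c.t * (c.z v 1 * y * c.z v 1) * y := by
        rw [show y * c.t * (c.z v 1 * y) = c.t * c.z v 1 * y * (c.z v 1 * y) from congrArg (· * _) h.mv']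
        simp only [mul_assoc]
      _ = _ := by rw [hz, mul_assoc y, z2, mul_one, mul_assoc]
  rcases four hq ht hv (mul_mem h.cen h.cen) e with h1 | h1 | h1 | h1
  · exact .inl h1
  · exact .inr h1
  · exact (h.nt hv (by rw [← h1, mul_assoc])).elim
  · refine (h.nt hv (mul_right_cancel (b := c.z v 1) ?_)).elim
    rw [mul_assoc, mul_assoc, ← hz, ← mul_assoc c.t, ← h1, mul_assoc]

theorem Mo.mul_t {v : V} {y : G} (h : Mo c v y) : Mo c v (y * c.t) :=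
  ⟨mul_mem h.cen (t_cen _), by rw [← h.mv]; group⟩

theorem Mo.sq_t {v : V} (hv : Iso B v) {y : G} (h : Mo c v y) : y * c.t * (y * c.t) = c.z v 1 * (y * y) := by
  have hz := h.cz hv.iso hv.iso (map_one σ)
  have tz := c.t_z v (1 : F)
  have z2 := c.z_sq hv.iso (1 : F)
  have e : c.t * y * c.t = c.z v 1 * y := by
    rw [mul_assoc, h.mv', ← mul_assoc, ← mul_assoc, c.t2, one_mul]
  calc y * c.t * (y * c.t) = y * (c.t * y * c.t) := by simp only [mul_assoc]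
    _ = _ := by rw [e, ← mul_assoc, ← hz, mul_assoc]

theorem Mo.mul_z {v : V} (hv : Iso B v) {y : G} (h : Mo c v y) {a : F} (ha : σ a = a) : Mo c v (y * c.z v a) :=
  ⟨mul_mem h.cen (c.z_cent hv.iso ha), by
    rw [← h.mv, mul_assoc y, ← c.t_z]; group⟩

theorem Mo.sq_z {v : V} (hv : Iso B v) {y : G} (h : Mo c v y) {a : F} (ha : σ a = a) :
    y * c.z v a * (y * c.z v a) = y * y := by
  rw [mul_assoc, ← mul_assoc (c.z v a), h.cz hv.iso hv.iso ha, mul_assoc, c.z_sq hv.iso, mul_one]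

theorem Mo.uniq (hq : q = 2) (ht : c.Tight) {v : V} (hv : Iso B v) {y y' : G} (h : Mo c v y) (h' : Mo c v y')
    (e : y' * y' = y * y) : ∃ a, σ a = a ∧ y' = y * c.z v a := by
  have e1 : y⁻¹ * y' * c.t = c.t * (y⁻¹ * y') := by
    rw [mul_assoc, h'.mv', ← h.mv]; group
  have z2 := c.z_sq hv.iso (1 : F)
  rcases four hq ht hv (mul_mem (inv_mem h.cen) h'.cen) e1 with h1 | h1 | h1 | h1
  · exact ⟨0, map_zero σ, by rw [c.z_zero, mul_one, ← inv_mul_eq_one.1 h1]⟩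
  · exact ⟨1, map_one σ, by rw [← h1, mul_inv_cancel_left]⟩
  · rw [inv_mul_eq_iff_eq_mul] at h1
    rw [h1, h.sq_t hv] at e
    exact (z_ne hv (mul_eq_right.1 e)).elim
  · rw [inv_mul_eq_iff_eq_mul, ← mul_assoc] at h1
    rw [h1, h.mul_t.sq_z hv (map_one σ), h.sq_t hv] at e
    exact (z_ne hv (mul_eq_right.1 e)).elim

theorem ex (hq : q = 2) (ht : c.Tight) (h : c.Tr) {v : V} (hv : Iso B v) {κ : F} (hκ : σ κ = κ) :
    ∃ y, Mo c v y ∧ y * y = c.z v κ := by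
  obtain ⟨y, h1, h2⟩ := h v hv 1 (map_one σ)
  have hy : Mo c v y := ⟨h1, h2⟩
  have e := hy.sq_t hv
  rcases fix2 c hq hκ with rfl | rfl <;> rcases hy.sq hq ht hv with h3 | h3
  · exact ⟨y, hy, by rw [h3, c.z_zero]⟩
  · exact ⟨_, hy.mul_t, by rw [e, h3, c.z_sq hv.iso, c.z_zero]⟩
  · exact ⟨_, hy.mul_t, by rw [e, h3, mul_one]⟩
  · exact ⟨y, hy, h3⟩

/-- The doubled group. -/
def Zh (hq : q = 2) (ht : c.Tight) {κ : F} (hκ : σ κ = κ) {v : V} (hv : Iso B v) : Subgroup G where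
  carrier := {y | (∃ a, σ a = a ∧ y = c.z v a) ∨ (Mo c v y ∧ y * y = c.z v κ)}
  one_mem' := .inl ⟨0, map_zero σ, (c.z_zero v).symm⟩
  mul_mem' := by
    rintro y y' (⟨a, ha, rfl⟩ | ⟨h, e⟩) (⟨b, hb, rfl⟩ | ⟨h', e'⟩)
    · exact .inl ⟨a + b, by rw [map_add, ha, hb], (c.z_add hv.iso ha hb).symm⟩
    · rw [h'.cz hv.iso hv.iso ha]
      exact .inr ⟨h'.mul_z hv ha, (h'.sq_z hv ha).trans e'⟩
    · exact .inr ⟨h.mul_z hv hb, (h.sq_z hv hb).trans e⟩
    · obtain ⟨a, ha, rfl⟩ := h.uniq hq ht hv h' (e'.trans e.symm)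
      exact .inl ⟨κ + a, by rw [map_add, ha, hκ], by rw [← mul_assoc, e, c.z_add hv.iso hκ ha]⟩
  inv_mem' := by
    rintro y (⟨a, ha, rfl⟩ | ⟨h, e⟩)
    · exact .inl ⟨a, ha, inv_eq_of_mul_eq_one_right (c.z_sq hv.iso a)⟩
    · have : y⁻¹ = y * c.z v κ := inv_eq_of_mul_eq_one_right (by rw [← mul_assoc, e, c.z_sq hv.iso])
      rw [this]
      exact .inr ⟨h.mul_z hv hκ, (h.sq_z hv hκ).trans e⟩

theorem mem_Zh (hq : q = 2) (ht : c.Tight) {κ : F} (hκ : σ κ = κ) {v : V} (hv : Iso B v) {y : G} :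
    y ∈ Zh hq ht hκ hv ↔ (∃ a, σ a = a ∧ y = c.z v a) ∨ (Mo c v y ∧ y * y = c.z v κ) := Iff.rfl

theorem Zh_cen (hq : q = 2) (ht : c.Tight) {κ : F} (hκ : σ κ = κ) {v : V} (hv : Iso B v) :
    Zh hq ht hκ hv ≤ 𝐂[c.I (M1 B v)] := by
  rintro y (⟨a, ha, rfl⟩ | ⟨h, -⟩)
  · exact c.z_cent hv.iso ha
  · exact h.cen

theorem Zh_sm (hq : q = 2) (ht : c.Tight) {κ : F} (hκ : σ κ = κ) {v : V} (hv : Iso B v) {l : F} (hl : l ≠ 0) :
    Zh hq ht hκ (hv.sm hl) = Zh hq ht hκ hv := by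
  ext y
  simp only [mem_Zh, zsm c hq hl, Mo.sm hq hl]

theorem Zh_cj (hq : q = 2) (ht : c.Tight) {κ : F} (hκ : σ κ = κ) {v : V} (hv : Iso B v) {g : SG F V} (hg : g ∈ SU B)
    {w : V} (hw : Iso B w) (e : g • v = w) {y : G} (hy : y ∈ Zh hq ht hκ hv) :
    c.Ψ g * y * (c.Ψ g)⁻¹ ∈ Zh hq ht hκ hw := by
  subst e
  rcases hy with ⟨a, ha, rfl⟩ | ⟨h, e⟩
  · exact .inl ⟨a, ha, c.z_eqv hg hv.iso ha⟩
  · exact .inr ⟨h.cj hv hg, by rw [conj_mul, e, c.z_eqv hg hv.iso hκ]⟩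

theorem cm_indep (hq : q = 2) (ht : c.Tight) {v w : V} (hv : Iso B v) (hw : Iso B w) (hwv : B w v = 0)
    {a a' b b' : G} (ha : Mo c v a) (ha' : Mo c v a') (hb : Mo c w b) (hb' : Mo c w b') (a2 : a * a = 1)
    (a2' : a' * a' = 1) (b2 : b * b = 1) (b2' : b' * b' = 1) : a' * b' * (a' * b') = a * b * (a * b) := by
  have hvw := c.sp.zero_symm hwv
  obtain ⟨r, hr, rfl⟩ := ha.uniq hq ht hv ha' (a2'.trans a2.symm)
  obtain ⟨s, hs, rfl⟩ := hb.uniq hq ht hw hb' (b2'.trans b2.symm)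
  have h1 : Commute (c.z v r) a := ha.cz hv.iso hv.iso hr
  have h2 : Commute (c.z v r) b := hb.cz hv.iso hwv hr
  have h3 : Commute (c.z w s) a := ha.cz hw.iso hvw hs
  have h4 : Commute (c.z w s) b := hb.cz hw.iso hw.iso hs
  have h5 : Commute (c.z v r) (c.z w s) := c.z_perp hv.iso hwv hw.iso hr hs
  have e : a * c.z v r * (b * c.z w s) = a * b * (c.z v r * c.z w s) := by
    rw [mul_assoc, ← mul_assoc (c.z v r), h2.eq]; simp only [mul_assoc]
  have h6 : Commute (a * b) (c.z v r * c.z w s) :=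
    ((h1.mul_right h2).symm.mul_right (h3.mul_right h4).symm)
  rw [e, ← pow_two, h6.mul_pow, h5.mul_pow, pow_two (c.z v r), pow_two (c.z w s), c.z_sq hv.iso, c.z_sq hw.iso,
    mul_one, mul_one, pow_two]

theorem cm_mem (ht : c.Tight) {v w : V} (hv : Iso B v) (hw : Iso B w) (hwv : B w v = 0)
    {a b : G} (ha : Mo c v a) (hb : Mo c w b) (a2 : a * a = 1) (b2 : b * b = 1) :
    a * b * (a * b) * (a * b * (a * b)) = 1 ∧
      ∃ α β l : F, σ α = α ∧ σ β = β ∧ a * b * (a * b) = c.z v α * c.z w β * c.x v (l • w) := by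
  have hvw := c.sp.zero_symm hwv
  have hX : TI B (Submodule.span F {v, w}) := fun x hx y hy => by
    obtain ⟨r, s, rfl⟩ := Submodule.mem_span_pair.1 hx
    obtain ⟨r', s', rfl⟩ := Submodule.mem_span_pair.1 hy
    simp [hv.iso, hw.iso, hwv, hvw]
  have v1 : v ∈ Submodule.span F {v, w} := Submodule.subset_span (by simp)
  have w1 : w ∈ Submodule.span F {v, w} := Submodule.subset_span (by simp)
  have h0 : Submodule.span F {v, w} ≠ ⊥ := fun e => hv.ne (by rwa [e, Submodule.mem_bot] at v1)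
  have ca : a ∈ 𝐂[c.I (FW B (Submodule.span F {v, w}))] := centralizer_le (im_mono (FW_le_M1 v1)) ha.cen
  have cb : b ∈ 𝐂[c.I (FW B (Submodule.span F {v, w}))] := centralizer_le (im_mono (FW_le_M1 w1)) hb.cen
  have h1 : Commute (c.z v 1) a := ha.cz hv.iso hv.iso (map_one σ)
  have h2 : Commute (c.z v 1) b := hb.cz hv.iso hwv (map_one σ)
  have h3 : Commute (c.z w 1) a := ha.cz hw.iso hvw (map_one σ)
  have h4 : Commute (c.z w 1) b := hb.cz hw.iso hw.iso (map_one σ)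
  have h5 : Commute (c.z v 1) (c.z w 1) := c.z_perp hv.iso hwv hw.iso (map_one σ) (map_one σ)
  have h6 : Commute (a * b) (c.z v 1 * c.z w 1) := ((h1.mul_right h2).symm.mul_right (h3.mul_right h4).symm)
  have e1 : a * b * c.t = c.t * (c.z v 1 * c.z w 1) * (a * b) := by
    rw [mul_assoc, hb.mv', ← mul_assoc, ← mul_assoc, ha.mv', mul_assoc _ a, ← h3.eq]; simp only [mul_assoc]
  have e2 : c.z v 1 * c.z w 1 * (c.z v 1 * c.z w 1) = 1 := by
    rw [← pow_two, h5.mul_pow, pow_two, pow_two, c.z_sq hv.iso, c.z_sq hw.iso, mul_one]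
  have e3 : a * b * (a * b) * c.t = c.t * (a * b * (a * b)) := by
    generalize a * b = m at e1 h6 ⊢
    generalize c.z v 1 * c.z w 1 = k at e1 h6 e2
    rw [mul_assoc, e1, ← mul_assoc, ← mul_assoc, e1, mul_assoc _ m, h6.eq, ← mul_assoc, mul_assoc c.t, e2,
      mul_one, mul_assoc]
  have hE := ht.cenFW hX h0 (mem_C1.2 e3) (mul_mem (mul_mem ca cb) (mul_mem ca cb))
  have c2 := c.E_el hX _ hE
  refine ⟨c2, ?_⟩
  obtain ⟨x, hx, e | e⟩ := c.mem_E.1 hE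
  · exact (c.mem_IA2 hv.iso hwv hw.iso).1 (e ▸ ev_mem_im hx)
  · exfalso
    have e4 : a * (a * b * (a * b)) = a * b * (a * b) * a := by
      have : a * b * (a * b) = b * a * (b * a) := by
        refine (inv_eq_of_mul_eq_one_right c2).symm.trans (inv_eq_of_mul_eq_one_right ?_)
        calc _ = a * (b * (a * (b * b) * a) * b) * a := by simp only [mul_assoc]
          _ = 1 := by rw [b2, mul_one, a2, mul_one, b2, mul_one, a2]
      calc _ = a * (b * a * (b * a)) := by rw [this]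
        _ = _ := by simp only [mul_assoc]
    have e5 : c.Ψ x * a = a * c.Ψ x := mem_cent.1 ca _ (ev_mem_im (RW_le_FW _ (c.sp.AW_le_RW hX hx)))
    rw [e, mul_assoc, e5, ← mul_assoc, ← mul_assoc] at e4
    exact ha.nt hv (mul_right_cancel e4)

theorem li_of_frame (c : Cfg B q G) {v f1 w f2 : V} (p : Frame B v f1 w f2) : LinearIndependent F ![v, w] :=
  LinearIndependent.pair_iff.2 fun r s e => by
    have h1 := congrArg (fun x => B x f1) e
    have h2 := congrArg (fun x => B x f2) e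
    simp only [map_add, map_smul, LinearMap.add_apply, LinearMap.smul_apply, p.p1.pair, p.p2.pair, p.ef,
      c.sp.zero_symm p.fe, smul_eq_mul, map_zero, LinearMap.zero_apply] at h1 h2
    exact ⟨by simpa using h1, by simpa using h2⟩

theorem iso_of_pair {e f : V} (p : UHypPair B e f) : Iso B e :=
  ⟨fun h => by simpa [h] using p.pair, p.left⟩

theorem cm_frame (hq : q = 2) (ht : c.Tight) {v f1 w f2 : V} (p : Frame B v f1 w f2) {a b : G} (ha : Mo c v a)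
    (hb : Mo c w b) (a2 : a * a = 1) (b2 : b * b = 1) :
    ∃ α β : F, σ α = α ∧ σ β = β ∧ a * b * (a * b) = c.z v α * c.z w β := by
  have hv := iso_of_pair p.p1
  have hw := iso_of_pair p.p2
  have hwv := c.sp.zero_symm p.ee
  obtain ⟨-, α, β, l, hα, hβ, e⟩ := cm_mem ht hv hw hwv ha hb a2 b2
  obtain ⟨ω, hω⟩ := c.sp.exists_omega
  have ω0 : ω ≠ 0 := fun h => by simp [h] at hω
  have ω1 : ω⁻¹ ≠ 0 := inv_ne_zero ω0
  have hg := c.sp.hy_mul_mem p.p1 p.p2 ω0 ω1 (by rw [mul_inv_cancel₀ ω0, map_one])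
  have g1 : (hy B v f1 ω * hy B w f2 ω⁻¹) • v = ω • v := by
    rw [mul_smul, hy_perp p.p2 ω1 p.ee p.ef, hy_left p.p1 ω0]
  have g2 : (hy B v f1 ω * hy B w f2 ω⁻¹) • w = ω⁻¹ • w := by
    rw [mul_smul, hy_left p.p2 ω1, hy_perp p.p1 ω0 (by simp [hwv]) (by simp [c.sp.zero_symm p.fe])]
  generalize hy B v f1 ω * hy B w f2 ω⁻¹ = g at hg g1 g2
  have ha' := ha.cj hv hg
  have hb' := hb.cj hw hg
  rw [g1, Mo.sm hq ω0] at ha'
  rw [g2, Mo.sm hq ω1] at hb'
  have e1 := cm_indep hq ht hv hw hwv ha ha' hb hb' a2 (by rw [conj_mul, a2]; simp) b2 (by rw [conj_mul, b2]; simp)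
  have l1 : ∀ l : F, B (l • w) v = 0 := fun l => by simp [hwv]
  have l2 : ∀ l l' : F, B (l • w) (l' • w) = 0 := fun l l' => by simp [hw.iso]
  rw [conj_mul, conj_mul, e, ← conj_mul, ← conj_mul, c.z_eqv hg hv.iso hα, c.z_eqv hg hw.iso hβ,
    c.x_eqv hg hv.iso (l1 l) (l2 l l), smul_sm_of (fld_SU hg), g1, g2, zsm c hq ω0, zsm c hq ω1, smul_smul,
    c.x_sm hv.iso (l1 _), smul_smul, mul_right_inj] at e1
  have e2 := c.x_add hv.iso (l1 (σ ω * (l * ω⁻¹))) (l2 _ _) (l1 l) (l2 _ _) (l2 _ _)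
  rw [e1, c.x_sq hv.iso (l1 l) (l2 _ _), ← add_smul] at e2
  have e3 := (c.nf_inj (li_of_frame c p) hv.iso hwv hw.iso (map_zero σ) (map_zero σ)
    (by rw [c.z_zero, c.z_zero, one_mul, one_mul, e2])).2.2
  have e4 : l = 0 := by
    have : l * ω⁻¹ * (ω + σ ω) = 0 := by rw [← e3]; field_simp; ring
    rw [hω, mul_one] at this
    exact (mul_eq_zero.1 this).resolve_right ω1
  exact ⟨α, β, hα, hβ, by rw [e, e4, zero_smul, c.x_zero hv.iso, mul_one]⟩

theorem cm_tr (hq : q = 2) (ht : c.Tight) {e1 f1 e2 f2 v g1 w g2 : V} (p : Frame B e1 f1 e2 f2)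
    (p' : Frame B v g1 w g2) {a0 b0 a b : G} (ha0 : Mo c e1 a0) (hb0 : Mo c e2 b0) (a20 : a0 * a0 = 1)
    (b20 : b0 * b0 = 1) {α β : F} (hα : σ α = α) (hβ : σ β = β) (e : a0 * b0 * (a0 * b0) = c.z e1 α * c.z e2 β)
    (ha : Mo c v a) (hb : Mo c w b) (a2 : a * a = 1) (b2 : b * b = 1) : a * b * (a * b) = c.z v α * c.z w β := by
  obtain ⟨g, hg, ζ, hζ, k1, -, k2, -⟩ := c.sp.frame_conj p p'
  have ζ0 : ζ ≠ 0 := fun h => by simp [h] at hζ
  have h1 := iso_of_pair p.p1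
  have h2 := iso_of_pair p.p2
  have ha' := ha0.cj h1 hg
  have hb' := hb0.cj h2 hg
  rw [k1, Mo.sm hq ζ0] at ha'
  rw [k2] at hb'
  rw [← cm_indep hq ht (iso_of_pair p'.p1) (iso_of_pair p'.p2) (c.sp.zero_symm p'.ee) ha ha' hb hb' a2
    (by rw [conj_mul, a20]; simp) b2 (by rw [conj_mul, b20]; simp), conj_mul, conj_mul, e, ← conj_mul,
    c.z_eqv hg h1.iso hα, c.z_eqv hg h2.iso hβ, k1, k2, zsm c hq ζ0]

theorem exists_kappa (hq : q = 2) (ht : c.Tight) (h : c.Tr) : ∃ κ : F, σ κ = κ ∧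
    ∀ {v g1 w g2 : V}, Frame B v g1 w g2 → ∀ {a b : G}, Mo c v a → Mo c w b → a * a = 1 → b * b = 1 →
      a * b * (a * b) = c.z v κ * c.z w κ := by
  obtain ⟨e1, h1⟩ := c.sp.exists_iso
  obtain ⟨f1, p1⟩ := c.sp.exists_pair h1
  obtain ⟨e2, f2, p⟩ := c.sp.exists_frame'' p1
  have h2 := iso_of_pair p.p2
  have h21 := c.sp.zero_symm p.ee
  obtain ⟨a, ha, a2⟩ := ex hq ht h h1 (map_zero σ)
  obtain ⟨b, hb, b2⟩ := ex hq ht h h2 (map_zero σ)
  rw [c.z_zero] at a2 b2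
  obtain ⟨α, β, hα, hβ, e⟩ := cm_frame hq ht p ha hb a2 b2
  have p' : Frame B e2 f2 e1 f1 :=
    ⟨p.p2, p.p1, h21, c.sp.zero_symm p.fe, c.sp.zero_symm p.ef, c.sp.zero_symm p.ff⟩
  have e' := cm_tr hq ht p p' ha hb a2 b2 hα hβ e hb ha b2 a2
  have e3 : a * b * (a * b) * (b * a * (b * a)) = 1 := by
    calc _ = a * (b * (a * (b * b) * a) * b) * a := by simp only [mul_assoc]
      _ = 1 := by rw [b2, mul_one, a2, mul_one, b2, mul_one, a2]
  have s1 : σ (α + β) = α + β := by rw [map_add, hα, hβ]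
  have s2 : σ (β + α) = β + α := by rw [map_add, hα, hβ]
  have e4 := (c.nf_inj (li_of_frame c p) h1.iso h21 h2.iso s1 s2 (l := 0) (by
    rw [zero_smul, c.x_zero h1.iso, mul_one, c.z_add h1.iso hα hβ, c.z_add h2.iso hβ hα, ← e3, e, e',
      mul_assoc, c.z_perp h1.iso h21 h2.iso hβ hβ |> fun k => (by rw [← mul_assoc, k, mul_assoc,
        c.z_perp h1.iso h21 h2.iso hβ hα] : c.z e1 β * (c.z e2 β * c.z e2 α) = c.z e2 β * (c.z e2 α * c.z e1 β))]
    simp only [mul_assoc])).1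
  have e5 : β = α := by rw [CharTwo.add_eq_zero] at e4; exact e4.symm
  subst e5
  exact ⟨β, hβ, fun p'' _ _ ha' hb' a2' b2' => cm_tr hq ht p p'' ha hb a2 b2 hα hβ e ha' hb' a2' b2'⟩

theorem perp (hq : q = 2) (ht : c.Tight) {κ : F} (hκ : σ κ = κ)
    (hk : ∀ {v g1 w g2 : V}, Frame B v g1 w g2 → ∀ {a b : G}, Mo c v a → Mo c w b → a * a = 1 → b * b = 1 →
      a * b * (a * b) = c.z v κ * c.z w κ) {v w : V} (hv : Iso B v) (hw : Iso B w) (hwv : B w v = 0) :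
    Zh hq ht hκ hv ≤ 𝐂[Zh hq ht hκ hw] := by
  have hvw := c.sp.zero_symm hwv
  intro y hy
  refine mem_cent.2 fun y' hy' => ?_
  rcases hy with ⟨a, ha, rfl⟩ | ⟨h, e⟩
  · exact (mem_cent.1 (Zh_cen hq ht hκ hw hy') _ (z_memM hv.iso hwv ha)).symm
  rcases hy' with ⟨a, ha, rfl⟩ | ⟨h', e'⟩
  · exact h.cz hw.iso hvw ha
  by_cases hi : LinearIndependent F ![v, w]
  · obtain ⟨f1, f2, p⟩ := c.sp.exists_frame hi hv.iso hwv hw.iso
    rcases fix2 c hq hκ with rfl | rfl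
    · rw [c.z_zero] at e e'
      have := hk p h h' e e'
      rw [c.z_zero, c.z_zero, mul_one] at this
      calc y' * y = y * y * (y' * y) * (y' * y') := by rw [e, e', one_mul, mul_one]
        _ = y * (y * y' * (y * y')) * y' := by simp only [mul_assoc]
        _ = _ := by rw [this, mul_one]
    · have a2 : y * c.t * (y * c.t) = 1 := by rw [h.sq_t hv, e, c.z_sq hv.iso]
      have b2 : y' * c.t * (y' * c.t) = 1 := by rw [h'.sq_t hw, e', c.z_sq hw.iso]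
      have k := hk p h.mul_t h'.mul_t a2 b2
      have h1 : Commute (c.z v 1) y := h.cz hv.iso hv.iso (map_one σ)
      have h2 : Commute (c.z v 1) y' := h'.cz hv.iso hwv (map_one σ)
      have h3 : Commute (c.z w 1) y := h.cz hw.iso hvw (map_one σ)
      have h4 : Commute (c.z w 1) y' := h'.cz hw.iso hw.iso (map_one σ)
      have k1 : y * c.t * (y' * c.t) = c.z w 1 * (y * y') := by
        rw [h'.mv', mul_assoc, ← mul_assoc c.t, ← mul_assoc c.t, c.t2, one_mul, ← mul_assoc, ← h3.eq, mul_assoc]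
      have h5 : Commute (c.z w 1) (y * y') := h3.mul_right h4
      rw [k1, ← pow_two, h5.mul_pow, pow_two, c.z_sq hw.iso, one_mul, pow_two, ← e, ← e'] at k
      have k2 : y * (y' * y) * y' = y * (y * y') * y' := by simpa only [mul_assoc] using k
      exact mul_left_cancel (mul_right_cancel k2)
  · obtain ⟨l, rfl⟩ : ∃ l : F, w = l • v := by
      rw [LinearIndependent.pair_iff' hv.ne] at hi
      push Not at hi
      exact hi.imp fun l hl => hl.symm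
    have hl : l ≠ 0 := fun k => hw.ne (by rw [k, zero_smul])
    rw [Mo.sm hq hl] at h'
    rw [zsm c hq hl] at e'
    obtain ⟨a, ha, rfl⟩ := h.uniq hq ht hv h' (e'.trans e.symm)
    rw [mul_assoc, h.cz hv.iso hv.iso ha]

end Zd2

open Zd2 in
theorem Cfg.zd2 {c : Cfg B q G} (hq : q = 2) (ht : c.Tight) (h : c.Tr) : Nonempty c.Zd := by
  classical
  obtain ⟨κ, hκ, hk⟩ := exists_kappa hq ht h
  have e0 : ∀ {v : V} (hv : Iso B v), (if hv : Iso B v then Zh hq ht hκ hv else ⊥) = Zh hq ht hκ hv :=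
    fun hv => dif_pos hv
  refine ⟨{ Zh := fun v => if hv : Iso B v then Zh hq ht hκ hv else ⊥
            κ := κ
            le := fun v hv y hy => ?_
            ge := fun v hv y hy => ?_
            onto := fun v hv a ha => ?_
            ker := fun v hv y hy e => ?_
            hκ := hκ
            sq := fun v hv y hy a ha e => ?_
            perp := fun v w hv hw e => ?_
            eqv := fun g hg v hv => ?_
            sm := fun v hv l hl => ?_ }⟩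
  · rw [e0 hv] at hy
    refine (c.mem_Yt hv).2 ⟨Zh_cen hq ht hκ hv hy, ?_⟩
    rcases hy with ⟨a, ha, rfl⟩ | ⟨h, -⟩
    · exact ⟨0, map_zero σ, by rw [c.z_zero, mul_one, ← c.t_z, mul_inv_cancel_right]⟩
    · exact ⟨1, map_one σ, h.mv⟩
  · rw [e0 hv]
    exact .inl ((c.mem_IZ hv).1 hy)
  · rw [e0 hv]
    rcases fix2 c hq ha with rfl | rfl
    · exact ⟨1, one_mem _, by simp [c.z_zero]⟩
    · obtain ⟨y, h1, h2⟩ := ex hq ht h hv hκ
      exact ⟨y, .inr ⟨h1, h2⟩, h1.mv⟩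
  · rw [e0 hv] at hy
    rcases hy with h1 | ⟨h1, -⟩
    · exact (c.mem_IZ hv).2 h1
    · exact (h1.nt hv e).elim
  · rw [e0 hv] at hy
    rcases hy with ⟨b, hb, rfl⟩ | ⟨h1, h2⟩
    · rw [← c.t_z, mul_inv_cancel_right, left_eq_mul, c.z_eq_one hv ha] at e
      rw [e, mul_zero, c.z_zero, c.z_sq hv.iso]
    · rw [h1.mv, mul_right_inj] at e
      rw [← c.z_inj hv (map_one σ) ha e, mul_one, h2]
  · rw [e0 hv, e0 hw]
    exact perp hq ht hκ hk hv hw e
  · have hw := hv.smul (SU_le_Gam hg)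
    rw [e0 hv, e0 hw]
    refine le_antisymm (fun y hy => mem_cj.2 ?_) (cj_le_iff.2 fun y hy => Zh_cj hq ht hκ hv hg hw rfl hy)
    have := Zh_cj hq ht hκ hw (inv_mem hg) hv (inv_smul_smul g v) hy
    rwa [show c.Ψ g⁻¹ = (c.Ψ g)⁻¹ from ev_inv hg, inv_inv] at this
  · rw [e0 hv, e0 (hv.sm hl)]
    exact Zh_sm hq ht hκ hv hl

end Cfsg.Agent.U52
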