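import Mathlib
import Cfsg.Agent.U52.Cfg3
import Cfsg.Agent.U52.Mid
import Cfsg.Agent.U52.PtB
import Cfsg.Agent.HxD.Lifta

/-! Lifting the relations through the odd core of `K0`. -/

set_option autoImplicit false
set_option linter.unusedSectionVars false

namespace Cfsg.Agent.U52

open Cfsg Cfsg.Agent.Cl Cfsg.Agent.Loc.Mss Subgroup Module
open Cfsg.Agent.StdB (C1 mem_C1 El)
open Cfsg.Agent.HxD (lf_eq2 lf_comm lf_mul lf_exists conj_sq)
open scoped commutatorElement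

variable {F : Type*} [Field F] [Finite F] [CharP F 2] {σ : F →+* F} {V : Type*} [AddCommGroup V] [Module F V]
  [Finite V] {B : V →ₗ[F] V →ₛₗ[σ] F} {q : ℕ} {G : Type*} [Group G] [Finite G]

namespace TLift

theorem sq_mul {a b : G} (a2 : a * a = 1) (b2 : b * b = 1) (e : a * b = b * a) : a * b * (a * b) = 1 := by
  rw [mul_assoc, ← mul_assoc b, ← e, mul_assoc, b2, mul_one, a2]

theorem ti2 (h : Sp B q) {e v : V} (he : B e e = 0) (hve : B v e = 0) (hv : B v v = 0) :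
    TI B (Submodule.span F {e, v}) := fun x hx y hy => by
  obtain ⟨a, b, rfl⟩ := Submodule.mem_span_pair.1 hx
  obtain ⟨a', b', rfl⟩ := Submodule.mem_span_pair.1 hy
  simp [he, hve, hv, h.zero_symm hve]

theorem quo {c : Cfg B q G} {e : V} (hf : c.Fus e) (N : Subgroup G) [N.Normal] (ho' : Odd (Nat.card N))
    (hN : N ≤ c.K0) (hd : ∀ g ∈ c.K0, Odd (orderOf g) → g ∈ N) : ∃ (s : c.Pt) (δ : F), s.Rel δ := by
  have h := c.sp
  let π := QuotientGroup.mk' N
  have hk : π.ker = N := QuotientGroup.ker_mk' _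
  have ho : Odd (Nat.card π.ker) := by rw [hk]; exact ho'
  have hL : c.L ≤ 𝐂[π.ker] := by rw [hk]; exact cent_comm (hN.trans inf_le_right)
  have hE : IsE (π.comp c.ψ) := h.isE_of_ne fun e => h.not_ab c.ker le_rfl fun g hg => by
    rw [MonoidHom.range_comp, Subgroup.map_eq_bot_iff, hk] at e
    exact (hN (e hg)).2
  have hT : ∀ g ∈ C1 (π c.t) ⊓ 𝐂[(π.comp c.ψ).range], g = 1 ∨ g = π c.t := by
    rintro g ⟨h1, h2⟩
    rw [StdB.C1_mk ho' c.t2] at h1
    obtain ⟨g, hg, rfl⟩ := h1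
    obtain ⟨γ, hγ, ha⟩ := c.act hg
    have h3 := ha.of_Sc SU_le_SL (inv_mem (h.sc_of_act hE le_rfl (h.Gam_norm hγ) (ha.comp π) h2))
    rw [mul_inv_cancel, act_one_iff] at h3
    obtain ⟨o, m, oo, e⟩ := c.K0_dec hf.two ⟨hg, h3⟩
    have e1 : π o = 1 := (QuotientGroup.eq_one_iff o).2 (hd o m oo)
    exact e.imp (fun e => by rw [e, e1]) fun e => by rw [e, map_mul, e1, one_mul]
  let b : Cfg B q (G ⧸ N) :=
    { sp := h
      ψ := π.comp c.ψ
      ker := hE
      t := π c.t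
      t2 := by rw [← map_mul, c.t2, map_one]
      t1 := fun e => c.t1 (StdB.eq_one_of_odd ho e c.t2)
      cen := by
        rw [MonoidHom.range_comp]
        exact map_cent_le π le_rfl (mem_map_of_mem π c.cen)
      nrm := by
        rw [StdB.C1_mk ho' c.t2, MonoidHom.range_comp]
        exact map_norm_le _ c.nrm
      cyc := fun P _ hP => HxD.Cy.cyc_of_le (R := zpowers (π c.t)) inferInstance fun g hg =>
        (hT g (hP hg)).elim (fun e => e ▸ one_mem _) fun e => e ▸ mem_zpowers _ }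
  have bt : b.t = π c.t := rfl
  have bΨ : ∀ x, b.Ψ x = π (c.Ψ x) := ev_comp π
  have bz : ∀ v a, b.z v a = π (c.z v a) := fun _ _ => bΨ _
  have bx : ∀ v w, b.x v w = π (c.x v w) := fun _ _ => bΨ _
  have bI : ∀ P, b.I P = (c.I P).map π := im_comp π
  have hbT : b.Tight := hT
  have hbF : b.Fus e := by
    obtain ⟨n, ⟨⟨n1, n2⟩, n3⟩, a, ha, a0, e1⟩ := hf.ex
    refine ⟨hf.iso, hbT.two, π n, ⟨⟨?_, ?_⟩, ?_⟩, a, ha, a0, ?_⟩
    · rw [bI]; exact map_norm_le π le_rfl (mem_map_of_mem π n1)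
    · rw [bI]; exact map_norm_le π le_rfl (mem_map_of_mem π n2)
    · rw [bI]; exact map_norm_le π le_rfl (mem_map_of_mem π n3)
    · rw [bt, bz, ← map_inv, ← map_mul, ← map_mul, e1, map_mul]
  obtain ⟨d, δ, R⟩ := Cfg.mid hbT hbF
  have : (𝐂[π.ker]).Normal := inferInstance
  have hX : ((𝐂[π.ker]).map π).Normal := Normal.map inferInstance π (QuotientGroup.mk'_surjective _)
  have ex : ∀ (v : V) (a : F), ∃ y : G, B v v = 0 → σ a = a → y ∈ 𝐂[π.ker] ∧ y * y = 1 ∧ π y = d.zs v a := fun v a => by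
    by_cases k : B v v = 0 ∧ σ a = a
    · obtain ⟨y, hy⟩ := lf_exists ho (R.toPl.mem_normal (X := (𝐂[π.ker]).map π)
        (by rw [show b.L = c.L.map π from MonoidHom.range_comp _ _]; exact map_mono hL) k.1 k.2) (d.zs_sq k.1 k.2)
      exact ⟨y, fun _ _ => hy⟩
    · exact ⟨1, fun k1 k2 => (k ⟨k1, k2⟩).elim⟩
  choose zs hzs using ex
  have zc : ∀ {v a}, B v v = 0 → σ a = a → zs v a ∈ 𝐂[π.ker] := fun hv ha => (hzs _ _ hv ha).1
  have z2 : ∀ {v a}, B v v = 0 → σ a = a → zs v a * zs v a = 1 := fun hv ha => (hzs _ _ hv ha).2.1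
  have zp : ∀ {v a}, B v v = 0 → σ a = a → π (zs v a) = d.zs v a := fun hv ha => (hzs _ _ hv ha).2.2
  have nf : ∀ l : F, σ (l * σ l) = l * σ l := fun l => by rw [map_mul, h.ss, mul_comm]
  let s : c.Pt :=
    { zs := zs
      add := fun v hv a a' ha ha' => by
        have k : σ (a + a') = a + a' := by rw [map_add, ha, ha']
        exact lf_mul ho (zc hv ha) (zc hv ha') (z2 hv ha) (z2 hv ha') (z2 hv k)
          (by rw [zp hv k, zp hv ha, zp hv ha', d.add v hv a a' ha ha'])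
      tz := fun v hv a ha => lf_mul ho (zc hv ha) (hL (c.z_mem _ _)) (z2 hv ha) (c.z_sq hv a) (conj_sq c.t2 (z2 hv ha))
        (by rw [map_mul, map_mul, zp hv ha, ← bt, ← bz, d.tz v hv a ha])
      eqv := fun g hg v hv a ha => by
        have k : B (g • v) (g • v) = 0 := (SU_map hg _ _).trans hv
        refine (lf_eq2 ho (zc k ha) (z2 k ha) (by rw [conj_mul, z2 hv ha, mul_one, mul_inv_cancel]) ?_).symm
        rw [map_mul, map_mul, map_inv, zp hv ha, zp k ha, ← bΨ, d.eqv g hg v hv a ha]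
      sm := fun v hv l a ha => by
        have k : B (l • v) (l • v) = 0 := by simp [hv]
        have k' : σ (a * (l * σ l)) = a * (l * σ l) := by rw [map_mul, ha, nf]
        exact lf_eq2 ho (zc k ha) (z2 k ha) (z2 hv k') (by rw [zp k ha, zp hv k', d.sm v hv l a ha])
      perp := fun v w hv hwv hw a a' ha ha' => lf_comm ho (zc hw ha') (z2 hv ha) (z2 hw ha')
        (by rw [zp hv ha, zp hw ha']; exact d.perp v w hv hwv hw a a' ha ha')
      odd := fun o m oo v hv a ha => mem_cent.1 (zc hv ha) o (hk.ge (hd o m oo)) }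
  have sc : ∀ {v a}, B v v = 0 → σ a = a → s.zs v a ∈ 𝐂[π.ker] := zc
  have sp : ∀ {v a}, B v v = 0 → σ a = a → π (s.zs v a) = d.zs v a := zp
  have ad : ∀ {v w}, B v v = 0 → B w v = 0 → B w w = 0 → B (v + w) (v + w) = 0 := fun hv hwv hw => by
    simp [hv, hwv, hw, h.zero_symm hwv]
  have xc : ∀ {v w}, B v v = 0 → B w v = 0 → B w w = 0 → s.xs v w ∈ 𝐂[π.ker] := fun hv hwv hw =>
    mul_mem (mul_mem (sc (ad hv hwv hw) (map_one σ)) (sc hv (map_one σ))) (sc hw (map_one σ))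
  have xp : ∀ {v w}, B v v = 0 → B w v = 0 → B w w = 0 → π (s.xs v w) = d.xs v w := fun hv hwv hw => by
    rw [Cfg.Pt.xs, map_mul, map_mul, sp (ad hv hwv hw) (map_one σ), sp hv (map_one σ), sp hw (map_one σ)]; rfl
  have s1 : ∀ {v : V} (a : F), B v v = 0 → B (a • v) (a • v) = 0 := fun a hv => by simp [hv]
  have s2 : ∀ {v w : V} (a : F), B w v = 0 → B w (a • v) = 0 := fun a hv => by simp [hv]
  have s3 : ∀ {v w : V} (a : F), B w v = 0 → B (a • w) v = 0 := fun a hv => by simp [hv]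
  have mf : ∀ {a a' : F}, σ a = a → σ a' = a' → σ (a * a') = a * a' := fun ha ha' => by rw [map_mul, ha, ha']
  have zz : ∀ {e a a'}, B e e = 0 → σ a = a → σ a' = a' →
      s.zs e a * c.z e a' ∈ 𝐂[π.ker] ∧ s.zs e a * c.z e a' * (s.zs e a * c.z e a') = 1 := fun he ha ha' =>
    ⟨mul_mem (sc he ha) (hL (c.z_mem _ _)), sq_mul (s.zs_sq he ha) (c.z_sq he _) (s.zs_z he he he ha ha')⟩
  have nb : ∀ w v, σ (B w v * B v w) = B w v * B v w := fun w v => by rw [map_mul, h.symm, h.symm, mul_comm]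
  refine ⟨s, δ, ⟨⟨fun v w hv hwv hw a ha => ?_, fun v w hv hwv hw a a' => ?_⟩, R.hδ,
    fun e w w' he hwe hw hwe' hw' => ?_, fun e w v he hwe hw hve hv a ha => ?_⟩, fun e w v he hwe hw hve hv a ha => ?_⟩
  · exact lf_mul ho (mul_mem (sc hv ha) (sc hw ha)) (xc (s1 a hv) (s2 a hwv) hw)
      (sq_mul (s.zs_sq hv ha) (s.zs_sq hw ha) (s.perp v w hv hwv hw a a ha ha)) (s.xs_sq (s1 a hv) (s2 a hwv) hw)
      (s.zs_sq (ad hv hwv hw) ha) (by
        rw [map_mul, sp (ad hv hwv hw) ha, sp hv ha, sp hw ha, xp (s1 a hv) (s2 a hwv) hw, R.plane v w hv hwv hw a ha])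
  · exact lf_mul ho (xc (s1 a hv) (s2 a hwv) hw) (xc (s1 a' hv) (s2 a' hwv) hw) (s.xs_sq (s1 a hv) (s2 a hwv) hw)
      (s.xs_sq (s1 a' hv) (s2 a' hwv) hw) (s.xs_sq (s1 _ hv) (s2 _ hwv) hw) (by
        rw [xp (s1 _ hv) (s2 _ hwv) hw, xp (s1 _ hv) (s2 _ hwv) hw, xp (s1 _ hv) (s2 _ hwv) hw, R.xadd v w hv hwv hw])
  · have k : σ (B w w' + B w' w) = B w w' + B w' w := by rw [map_add, h.symm, h.symm, add_comm]
    have k' := mf R.hδ k
    have := lf_mul ho (xc he hwe' hw') (zz he k k').1 (s.xs_sq he hwe' hw') (zz he k k').2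
      (conj_sq (s.xs_sq he hwe hw) (s.xs_sq he hwe' hw')) (by
        rw [map_mul, map_mul, map_mul, xp he hwe hw, xp he hwe' hw', sp he k, ← bz, R.r2 e w w' he hwe hw hwe' hw',
          mul_assoc, d.z_xs he he hwe hw he hwe k', ← mul_assoc, mul_assoc _ (d.zs _ _),
          d.zs_xs he he hwe hw he hwe k, ← mul_assoc, mul_assoc _ (d.xs e w) (d.xs e w), d.xs_sq he hwe hw, mul_one,
          mul_assoc])
    rw [mul_assoc _ (s.zs _ _), mul_assoc, ← mul_assoc (s.xs e w), ← s.zs_xs he he hwe hw he hwe k, mul_assoc,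
      ← s.z_xs he he hwe hw he hwe k', ← mul_assoc (s.zs _ _), ← mul_assoc, ← this, mul_assoc _ (s.xs e w),
      s.xs_sq he hwe hw, mul_one]
  · have k := mf ha (nb w v)
    have k' := mf R.hδ k
    have k1 := s3 (a * B w v) hve
    have k2 := s1 (a * B w v) hv
    rw [mul_assoc _ (s.zs _ _)]
    exact lf_mul ho (mul_mem (hL (c.z_mem _ _)) (xc he k1 k2)) (zz he k k').1
      (sq_mul (c.z_sq hv a) (s.xs_sq he k1 k2) (s.z_xs hv he k1 k2 (h.zero_symm hve) (s3 _ hv) ha)) (zz he k k').2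
      (conj_sq (s.xs_sq he hwe hw) (c.z_sq hv a)) (by
        simp only [map_mul π, xp he hwe hw, xp he k1 k2, sp he k, ← bz]
        exact (R.r3z e w v he hwe hw hve hv a ha).trans (mul_assoc _ _ _))
  · have k := mf ha (nb w v)
    have k' := mf R.hδ k
    have k0 := mf (show σ (1 + δ) = 1 + δ by rw [map_add, map_one, R.hδ]) k
    have k1 := fun a => s3 a hve
    have k2 := fun a => s1 a hv
    have m1 : e ∈ Submodule.span F {e, v} := Submodule.subset_span (by simp)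
    have m2 : ∀ a : F, a • v ∈ Submodule.span F {e, v} := fun a => Submodule.smul_mem _ _ (Submodule.subset_span (by simp))
    rw [mul_assoc _ (s.zs e _)]
    refine lf_mul ho (mul_mem (mul_mem (sc hv ha) (xc he (k1 _) (k2 _))) (hL (c.x_mem _ _))) (zz he k0 k').1
      (sq_mul (sq_mul (s.zs_sq hv ha) (s.xs_sq he (k1 _) (k2 _))
        (s.zs_xs hv he (k1 _) (k2 _) (h.zero_symm hve) (s3 _ hv) ha)) (c.x_sq he (k1 _) (k2 _)) ?_) (zz he k0 k').2
      (conj_sq (s.xs_sq he hwe hw) (s.zs_sq hv ha)) ?_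
    · rw [mul_assoc, s.xs_x (ti2 h he hve hv) m1 (m2 _) m1 (m2 _), ← mul_assoc,
        s.zs_x hv he (k1 _) (k2 _) hve (s2 _ hv) ha, mul_assoc]
    · simp only [map_mul π, xp he hwe hw, xp he (k1 _) (k2 _), sp he k0, sp hv ha, ← bz, ← bx]
      exact (R.r3s e w v he hwe hw hve hv a ha).trans (mul_assoc _ _ _)

theorem up {c : Cfg B q G} {H : Subgroup G} (hL : c.L ≤ H) (ht : c.t ∈ H) (hK : c.K0 ≤ H) {s : (c.sub H hL ht).Pt}
    {δ : F} (R : s.Rel δ) : ∃ s' : c.Pt, s'.Rel δ := by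
  let s' : c.Pt :=
    { zs := fun v a => s.zs v a
      add := fun v hv a b ha hb => congrArg Subtype.val (s.add v hv a b ha hb)
      tz := fun v hv a ha => by rw [← c.sub_z hL ht]; exact congrArg Subtype.val (s.tz v hv a ha)
      eqv := fun g hg v hv a ha => by rw [← c.sub_Ψ hL ht]; exact congrArg Subtype.val (s.eqv g hg v hv a ha)
      sm := fun v hv l a ha => congrArg Subtype.val (s.sm v hv l a ha)
      perp := fun v w hv hwv hw a b ha hb => congrArg Subtype.val (s.perp v w hv hwv hw a b ha hb)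
      odd := fun o m oo v hv a ha => congrArg Subtype.val
        (s.odd ⟨o, hK m⟩ ((c.mem_sub_K0 hL ht).2 m) (by rwa [orderOf_mk]) v hv a ha) }
  refine ⟨s', ⟨⟨fun v w hv hwv hw a ha => congrArg Subtype.val (R.plane v w hv hwv hw a ha),
    fun v w hv hwv hw a b => congrArg Subtype.val (R.xadd v w hv hwv hw a b)⟩, R.hδ,
    fun e w w' he hwe hw hwe' hw' => ?_, fun e w v he hwe hw hve hv a ha => ?_⟩, fun e w v he hwe hw hve hv a ha => ?_⟩
  · rw [← c.sub_z hL ht]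
    exact congrArg Subtype.val (R.r2 e w w' he hwe hw hwe' hw')
  · rw [← c.sub_z hL ht, ← c.sub_z hL ht]
    exact congrArg Subtype.val (R.r3z e w v he hwe hw hve hv a ha)
  · rw [← c.sub_z hL ht, ← c.sub_x hL ht]
    exact congrArg Subtype.val (R.r3s e w v he hwe hw hve hv a ha)

end TLift

theorem Cfg.exists_rel {c : Cfg B q G} {e : V} (hf : c.Fus e) : ∃ (s : c.Pt) (δ : F), s.Rel δ := by
  obtain ⟨n, ⟨⟨n1, n2⟩, n3⟩, a, ha, a0, e1⟩ := hf.ex
  have ho : Odd (Nat.card (pResidualOf 2 c.K0)) :=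
    let ⟨R, hR⟩ := Syl.exists 2 c.K0
    HxD.Cy.odd_res hR (c.cyc R hR.pg hR.le)
  have mo : ∀ g ∈ c.K0, Odd (orderOf g) → g ∈ pResidualOf 2 c.K0 := fun g hg o => mem_res hg (Nat.coprime_two_right.2 o)
  have hn : n ∈ 𝐍[pResidualOf 2 c.K0] := mem_norm_of_cj_le (by
    rintro _ ⟨x, hx, rfl⟩
    change n * x * n⁻¹ ∈ _
    have hx' := res_le _ hx
    have o : Odd (orderOf (n * x * n⁻¹)) := ho.of_dvd_nat (orderOf_dvd_of_pow_eq_one (by
      rw [conj_pow, show x ^ _ = 1 from congrArg Subtype.val (pow_card_eq_one' (x := (⟨x, hx⟩ : pResidualOf 2 c.K0))),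
        mul_one, mul_inv_cancel]))
    have h1 : n * x * n⁻¹ ∈ 𝐂[c.I (Qv B e)] :=
      conj_mem_of_norm (norm_cent le_rfl n2) (cent_anti (im_le_range _) hx'.2)
    have h2 : n * x * n⁻¹ * (c.t * c.z e a) = c.t * c.z e a * (n * x * n⁻¹) := by
      rw [← e1, conj_mul, conj_mul, mem_C1.1 hx'.1]
    rw [mul_assoc c.t, mem_cent.1 h1 (c.z e a) (im_mono (c.sp.Zv_le_Qv hf.iso.iso)
      ((c.mem_IZ hf.iso).2 ⟨a, ha, rfl⟩)), ← mul_assoc, ← mul_assoc c.t, mul_left_inj] at h2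
    exact mo _ (c.odd_cenQ hf.iso (mem_C1.2 h2) o h1) o)
  have hC : c.C ≤ 𝐍[pResidualOf 2 c.K0] := norm_res c.norm_K0
  have hL := c.L_le_C.trans hC
  have ht := hC (mem_C1.2 rfl)
  have hI : ∀ P, n ∈ 𝐍[c.I P] → (⟨n, hn⟩ : 𝐍[pResidualOf 2 c.K0]) ∈ 𝐍[(c.sub _ hL ht).I P] := fun P k => by
    rw [c.sub_I, norm_subgroupOf ((im_le_range _).trans hL)]
    exact k
  obtain ⟨s, δ, R⟩ := TLift.quo (c := c.sub _ hL ht) (e := e)
    ⟨hf.iso, fun g hg ⟨m, k⟩ => (hf.two g ((c.mem_sub_K0 hL ht).1 hg) ⟨m, congrArg Subtype.val k⟩).imp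
      Subtype.ext Subtype.ext, ⟨n, hn⟩, ⟨⟨hI _ n1, hI _ n2⟩, hI _ n3⟩, a, ha, a0,
      Subtype.ext (by rw [coe_mul _ _ ((c.sub _ hL ht).z e a), c.sub_z]; exact e1)⟩
    ((pResidualOf 2 c.K0).subgroupOf _)
    (by rwa [Nat.card_congr (subgroupOfEquivOfLe le_normalizer).toEquiv])
    (fun g hg => (c.mem_sub_K0 hL ht).2 (res_le _ hg))
    fun g hg o => mo _ ((c.mem_sub_K0 hL ht).1 hg) ((orderOf_coe g).symm ▸ o)
  obtain ⟨s', R'⟩ := TLift.up hL ht (inf_le_left.trans hC) R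
  exact ⟨s', δ, R'⟩

end Cfsg.Agent.U52
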